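import Mathlib

/-!
# Groups whose involutions fill a normal elementary abelian subgroup

Shared definitions: `InvV G V` says that `V` is normal and consists exactly of the solutions of
`x * x = 1`; `Two2 G V` says that conjugation is transitive on ordered pairs of distinct
non-identity elements of `V`.
-/

set_option autoImplicit false

namespace CfsgLib.InvolNormal

/-- `V` is a normal subgroup consisting exactly of the elements with `x * x = 1`. -/
structure InvV (G : Type*) [Group G] (V : Subgroup G) : Prop where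
  normal : V.Normal
  mem_iff : ∀ x : G, x ∈ V ↔ x * x = 1

/-- Conjugation is transitive on ordered pairs of distinct non-identity elements of `V`. -/
def Two2 (G : Type*) [Group G] (V : Subgroup G) : Prop :=
  ∀ a ∈ V, ∀ b ∈ V, ∀ c ∈ V, ∀ e ∈ V, a ≠ 1 → b ≠ 1 → c ≠ 1 → e ≠ 1 → a ≠ b → c ≠ e →
    ∃ g : G, g * a * g⁻¹ = c ∧ g * b * g⁻¹ = e

theorem InvV.mul_self {G : Type*} [Group G] {V : Subgroup G} (h : InvV G V) {x : G} (hx : x ∈ V) :
    x * x = 1 := (h.mem_iff x).1 hx

theorem InvV.inv_eq {G : Type*} [Group G] {V : Subgroup G} (h : InvV G V) {x : G} (hx : x ∈ V) :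
    x⁻¹ = x := inv_eq_of_mul_eq_one_right (h.mul_self hx)

theorem InvV.comm {G : Type*} [Group G] {V : Subgroup G} (h : InvV G V) {x y : G} (hx : x ∈ V)
    (hy : y ∈ V) : x * y = y * x := by
  have h1 := h.inv_eq (mul_mem hx hy)
  rw [mul_inv_rev, h.inv_eq hx, h.inv_eq hy] at h1
  exact h1.symm

theorem InvV.conj_mem {G : Type*} [Group G] {V : Subgroup G} (h : InvV G V) {x : G} (hx : x ∈ V)
    (g : G) : g * x * g⁻¹ ∈ V := h.normal.conj_mem x hx g

/-- An involution lies in `V`. -/
theorem InvV.mem_of_orderOf {G : Type*} [Group G] {V : Subgroup G} (h : InvV G V) {x : G}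
    (hx : orderOf x = 2) : x ∈ V := by
  refine (h.mem_iff x).2 ?_
  rw [← sq, ← hx, pow_orderOf_eq_one]

/-- A 2-element commuting with nothing non-trivial of `V` is trivial: some power is an involution. -/
theorem InvV.exists_involution_pow {G : Type*} [Group G] {V : Subgroup G} (h : InvV G V) {x : G}
    {n : ℕ} (hx : orderOf x = 2 ^ n) (hx1 : x ≠ 1) : ∃ k : ℕ, x ^ k ∈ V ∧ x ^ k ≠ 1 := by
  cases n with
  | zero => exact absurd (orderOf_eq_one_iff.1 (by rw [hx, pow_zero])) hx1
  | succ m =>
    have ho : orderOf (x ^ 2 ^ m) = 2 := by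
      rw [orderOf_pow' x (by positivity), hx]
      have hg : (2 ^ (m + 1)).gcd (2 ^ m) = 2 ^ m :=
        Nat.gcd_eq_right (pow_dvd_pow 2 (Nat.le_succ m))
      rw [hg, pow_succ, Nat.mul_div_cancel_left _ (by positivity)]
    exact ⟨2 ^ m, h.mem_of_orderOf ho, fun e => by rw [e, orderOf_one] at ho; omega⟩

end CfsgLib.InvolNormal
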