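import Mathlib

/-!
# Anisotropic quadratic maps between elementary abelian 2-groups

For a quadratic map `q : W → V` with no non-zero zero and equinumerous fibres, `|W| = |V|` or
`|W| = |V|²`; in the second case an odd order isometry is trivial or fixed-point-free.
-/

set_option autoImplicit false
set_option linter.style.haveILetI false
set_option linter.unusedVariables false

namespace CfsgLib.InvolNormal

open Finset

/-- The sign of an element of `ZMod 2`. -/
def sgnTwo (z : ZMod 2) : ℤ := if z = 0 then 1 else -1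

theorem sgnTwo_zero : sgnTwo 0 = 1 := rfl

theorem sgnTwo_add (a b : ZMod 2) : sgnTwo (a + b) = sgnTwo a * sgnTwo b := by
  revert a b; decide

theorem sgnTwo_sum {A : Type*} [AddCommGroup A] [Fintype A] (f : A →+ ZMod 2)
    [Decidable (f = 0)] :
    ∑ a, sgnTwo (f a) = if f = 0 then (Fintype.card A : ℤ) else 0 := by
  split_ifs with h
  · subst h; simp [sgnTwo_zero]
  · obtain ⟨a₀, ha₀⟩ : ∃ a, f a ≠ 0 := by
      by_contra hc
      push Not at hc
      exact h (AddMonoidHom.ext hc)
    have h1 : sgnTwo (f a₀) = -1 := if_neg ha₀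
    have h2 : ∑ a, sgnTwo (f a) = ∑ a, sgnTwo (f (a₀ + a)) :=
      (Equiv.sum_comp (Equiv.addLeft a₀) fun a => sgnTwo (f a)).symm
    simp only [map_add, sgnTwo_add, h1, neg_one_mul, Finset.sum_neg_distrib] at h2
    omega

theorem exists_functional {V : Type*} [AddCommGroup V] (hV : ∀ v : V, v + v = 0) {v : V}
    (hv : v ≠ 0) : ∃ l : V →+ ZMod 2, l v ≠ 0 := by
  letI : Module (ZMod 2) V := AddCommGroup.zmodModule fun x => by rw [two_nsmul]; exact hV x
  by_contra hc
  push Not at hc
  exact hv ((Module.forall_dual_apply_eq_zero_iff (ZMod 2) v).1 fun φ => hc φ.toAddMonoidHom)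

theorem exists_card_eq_two_pow {V : Type*} [AddCommGroup V] [Finite V]
    (hV : ∀ v : V, v + v = 0) : ∃ m : ℕ, Nat.card V = 2 ^ m := by
  letI : Module (ZMod 2) V := AddCommGroup.zmodModule fun x => by rw [two_nsmul]; exact hV x
  exact ⟨_, by rw [Module.natCard_eq_pow_finrank (K := ZMod 2), Nat.card_zmod]⟩

/-- Orthogonality over all functionals. -/
theorem sum_functionals {V : Type*} [AddCommGroup V] [Fintype V] [DecidableEq V]
    [Fintype (V →+ ZMod 2)] (hV : ∀ v : V, v + v = 0) (v : V) :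
    ∑ l : V →+ ZMod 2, sgnTwo (l v) =
      if v = 0 then (Fintype.card (V →+ ZMod 2) : ℤ) else 0 := by
  classical
  have h := sgnTwo_sum (AddMonoidHom.eval v : (V →+ ZMod 2) →+ ZMod 2)
  simp only [AddMonoidHom.eval_apply_apply] at h
  rw [h]
  by_cases hv : v = 0
  · rw [if_pos hv, if_pos (AddMonoidHom.ext fun l => by subst hv; simp)]
  · rw [if_neg hv, if_neg fun e => ?_]
    obtain ⟨l, hl⟩ := exists_functional hV hv
    exact hl (by simpa using DFunLike.congr_fun e l)

theorem card_functionals {V : Type*} [AddCommGroup V] [Fintype V] [Fintype (V →+ ZMod 2)]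
    (hV : ∀ v : V, v + v = 0) : Fintype.card (V →+ ZMod 2) = Fintype.card V := by
  classical
  have h1 : ∑ v : V, ∑ l : V →+ ZMod 2, sgnTwo (l v) = (Fintype.card (V →+ ZMod 2) : ℤ) := by
    simp [sum_functionals hV]
  have h2 : ∑ l : V →+ ZMod 2, ∑ v : V, sgnTwo (l v) = (Fintype.card V : ℤ) := by
    simp [sgnTwo_sum]
  rw [Finset.sum_comm] at h1
  exact_mod_cast h1.symm.trans h2

section Gauss

variable {W : Type*} [AddCommGroup W] {V : Type*} [AddCommGroup V]
  (q : W → V) (β : W → W → V) (hq : ∀ a b, q (a + b) = q a + q b + β a b)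
  (hβ : ∀ a b c, β (a + b) c = β a c + β b c)

include hβ in
theorem polar_zero_left (c : W) : β 0 c = 0 := by simpa using hβ 0 0 c

include hq hβ in
theorem quad_zero : q 0 = 0 := by
  have h := hq 0 0
  simpa [polar_zero_left β hβ] using h

include hq in
theorem polar_symm (a b : W) : β a b = β b a := by
  have h1 := hq a b
  rw [add_comm a b, hq b a, add_comm (q b) (q a)] at h1
  exact (add_left_cancel h1).symm

include hq hβ in
theorem polar_add_right (a b c : W) : β a (b + c) = β a b + β a c := by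
  rw [polar_symm q β hq, hβ, polar_symm q β hq b, polar_symm q β hq c]

/-- The Gauss sum of `l ∘ q`: its square is `|W|` if the form is non-degenerate, and `0` or
`|W|·|Rad|` in general. -/
theorem gauss_sq [Fintype W] (l : V →+ ZMod 2) (Rd : Finset W)
    (hRd : ∀ y, y ∈ Rd ↔ ∀ x, l (β x y) = 0)
    (hV : ∀ v : V, v + v = 0)
    (hq : ∀ a b, q (a + b) = q a + q b + β a b)
    (hβ : ∀ a b c, β (a + b) c = β a c + β b c) :
    (∑ x, sgnTwo (l (q x))) ^ 2 = Fintype.card W * ∑ y ∈ Rd, sgnTwo (l (q y)) := by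
  classical
  have h1 : (∑ x, sgnTwo (l (q x))) ^ 2 =
      ∑ y, sgnTwo (l (q y)) * ∑ x, sgnTwo (l (β x y)) := by
    rw [sq, Finset.sum_mul_sum]
    calc ∑ x, ∑ y, sgnTwo (l (q x)) * sgnTwo (l (q y))
        = ∑ x, ∑ y, sgnTwo (l (q x)) * sgnTwo (l (q (x + y))) :=
          Finset.sum_congr rfl fun x _ => (Equiv.sum_comp (Equiv.addLeft x)
            fun y => sgnTwo (l (q x)) * sgnTwo (l (q y))).symm
      _ = ∑ x, ∑ y, sgnTwo (l (q y)) * sgnTwo (l (β x y)) := by
          refine Finset.sum_congr rfl fun x _ => Finset.sum_congr rfl fun y _ => ?_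
          rw [← sgnTwo_add, ← sgnTwo_add, ← map_add, ← map_add, hq, ← add_assoc, ← add_assoc,
            hV, zero_add]
      _ = _ := by rw [Finset.sum_comm]; simp only [Finset.mul_sum]
  rw [h1, Finset.mul_sum]
  have h2 : ∀ y, ∑ x, sgnTwo (l (β x y)) = if y ∈ Rd then (Fintype.card W : ℤ) else 0 := by
    intro y
    let f : W →+ ZMod 2 := AddMonoidHom.mk' (fun x => l (β x y)) fun a b => by rw [hβ, map_add]
    have hf : f = 0 ↔ y ∈ Rd := by
      rw [hRd]
      exact ⟨fun e x => DFunLike.congr_fun e x, fun e => AddMonoidHom.ext e⟩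
    have := sgnTwo_sum f
    simp only [hf] at this
    exact this
  simp only [h2, mul_ite, mul_zero]
  rw [← Finset.sum_filter]
  exact Finset.sum_congr (by ext; simp) fun y _ => mul_comm _ _

end Gauss

private theorem two_pow_arith {d j m : ℕ} (hd : 1 ≤ d) (hjm : j ≤ m)
    (h : 2 ^ m + 2 ^ j = 2 ^ d + 2 ^ (d + j)) : j = d ∧ m = 2 * d := by
  rcases lt_trichotomy j d with hjd | hjd | hjd
  · exfalso
    rcases Nat.lt_or_eq_of_le hjm with h1 | h1
    · have h3 : (2 : ℕ) ^ (j + 1) ∣ 2 ^ m := pow_dvd_pow 2 h1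
      have h4 : (2 : ℕ) ^ (j + 1) ∣ 2 ^ d + 2 ^ (d + j) :=
        dvd_add (pow_dvd_pow 2 hjd) (pow_dvd_pow 2 (by omega))
      rw [← h] at h4
      have h5 := Nat.le_of_dvd (by positivity) ((Nat.dvd_add_right h3).1 h4)
      rw [pow_succ] at h5
      have := Nat.two_pow_pos j
      omega
    · subst h1
      have h3 : 2 ^ (j + 1) ≤ 2 ^ d := Nat.pow_le_pow_right (by norm_num) hjd
      have := Nat.two_pow_pos (d + j)
      rw [pow_succ] at h3
      omega
  · subst hjd
    refine ⟨rfl, ?_⟩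
    have h2 : 2 ^ m = 2 ^ (j + j) := by omega
    have := Nat.pow_right_injective (le_refl 2) h2
    omega
  · exfalso
    have h3 : (2 : ℕ) ^ (d + 1) ∣ 2 ^ m + 2 ^ j :=
      dvd_add (pow_dvd_pow 2 (by omega)) (pow_dvd_pow 2 hjd)
    have h4 : (2 : ℕ) ^ (d + 1) ∣ 2 ^ (d + j) := pow_dvd_pow 2 (by omega)
    rw [h] at h3
    have h5 := Nat.le_of_dvd (by positivity) ((Nat.dvd_add_left h4).1 h3)
    rw [pow_succ] at h5
    have := Nat.two_pow_pos d
    omega

/-- An anisotropic quadratic map with equinumerous fibres. -/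
theorem anisotropic_card {W V : Type*} [AddCommGroup W] [Finite W] [AddCommGroup V] [Finite V]
    (hW : ∀ w : W, w + w = 0) (hV : ∀ v : V, v + v = 0) {d : ℕ} (hd : 1 ≤ d)
    (hVc : Nat.card V = 2 ^ d) (q : W → V) (β : W → W → V)
    (hq : ∀ a b, q (a + b) = q a + q b + β a b) (hβ : ∀ a b c, β (a + b) c = β a c + β b c)
    (hq0 : ∀ w, w ≠ 0 → q w ≠ 0) [Nontrivial W]
    (hfib : ∀ x y : V, x ≠ 0 → y ≠ 0 →
      Nat.card {w : W // q w = x} = Nat.card {w : W // q w = y}) :
    Nat.card W = 2 ^ d ∨ (Nat.card W = 2 ^ (2 * d) ∧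
      ∀ l : V →+ ZMod 2, l ≠ 0 → ∀ y, (∀ x, l (β x y) = 0) → y = 0) := by
  classical
  haveI := Fintype.ofFinite W
  haveI := Fintype.ofFinite V
  have h00 := quad_zero q β hq hβ
  obtain ⟨w₀, hw₀⟩ := exists_ne (0 : W)
  have hF : ∀ v, Nat.card {w : W // q w = v} = (univ.filter fun w => q w = v).card := fun v => by
    rw [Nat.card_eq_fintype_card, Fintype.card_subtype]
  set e : ℕ := (univ.filter fun w => q w = q w₀).card with he
  have hfib' : ∀ v : V, v ≠ 0 → (univ.filter fun w => q w = v).card = e := fun v hv => by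
    rw [he, ← hF, ← hF]; exact hfib _ _ hv (hq0 _ hw₀)
  have hfib0 : (univ.filter fun w => q w = (0 : V)) = {0} := by
    ext w
    simp only [mem_filter, mem_univ, true_and, mem_singleton]
    exact ⟨fun h => not_not.1 fun hw => hq0 w hw h, fun h => h ▸ h00⟩
  have he1 : 1 ≤ e := Finset.card_pos.2 ⟨w₀, by simp⟩
  have hsum : ∀ f : V → ℤ, ∑ w, f (q w) = f 0 + e * (∑ v, f v - f 0) := by
    intro f
    rw [← Finset.sum_fiberwise univ q fun w => f (q w)]
    have : ∀ v : V, ∑ w ∈ univ.filter (fun w => q w = v), f (q w) =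
        ((univ.filter fun w => q w = v).card : ℤ) * f v := by
      intro v
      rw [Finset.sum_congr rfl fun w hw => by rw [(mem_filter.1 hw).2], sum_const, nsmul_eq_mul]
    simp only [this]
    rw [← Finset.add_sum_erase univ _ (mem_univ (0 : V)), hfib0, card_singleton, Nat.cast_one,
      one_mul, ← Finset.add_sum_erase univ f (mem_univ (0 : V)), add_sub_cancel_left,
      Finset.mul_sum]
    congr 1
    exact Finset.sum_congr rfl fun v hv => by rw [hfib' v (ne_of_mem_erase hv)]
  have hV2 : Fintype.card V = 2 ^ d := by rw [← Nat.card_eq_fintype_card, hVc]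
  have hcard : (Fintype.card W : ℤ) = 1 + e * (2 ^ d - 1) := by
    have := hsum fun _ => 1
    simpa [hV2] using this
  obtain ⟨m, hm⟩ := exists_card_eq_two_pow hW
  rw [Nat.card_eq_fintype_card] at hm ⊢
  rcases eq_or_ne e 1 with h1 | h1
  · left
    have : (Fintype.card W : ℤ) = ((2 ^ d : ℕ) : ℤ) := by rw [hcard, h1]; push_cast; ring
    exact_mod_cast this
  right
  have key : ∀ l : V →+ ZMod 2, l ≠ 0 → m = 2 * d ∧ ∀ y, (∀ x, l (β x y) = 0) → y = 0 := by
    intro l hl
    have hS : ∑ w, sgnTwo (l (q w)) = 1 - e := by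
      have := hsum fun v => sgnTwo (l v)
      rw [this, sgnTwo_sum, if_neg hl, map_zero, sgnTwo_zero]; ring
    let Rd : AddSubgroup W :=
      { carrier := {y | ∀ x, l (β x y) = 0}
        zero_mem' := fun x => by
          rw [polar_symm q β hq, polar_zero_left β hβ, map_zero]
        add_mem' := fun {a b} ha hb x => by
          rw [polar_add_right q β hq hβ, map_add, ha x, hb x, add_zero]
        neg_mem' := fun {a} ha x => by
          rw [neg_eq_of_add_eq_zero_right (hW a)]; exact ha x }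
    have hg := gauss_sq q β l (univ.filter fun y => y ∈ Rd) (fun y => by simp [Rd]) hV hq hβ
    let g : Rd →+ ZMod 2 := AddMonoidHom.mk' (fun y => l (q y)) fun a b => by
      rw [AddSubgroup.coe_add, hq, map_add, map_add, b.2 (a : W), add_zero]
    have hR : ∑ y ∈ univ.filter (fun y => y ∈ Rd), sgnTwo (l (q y)) =
        ∑ y : Rd, sgnTwo (g y) :=
      Finset.sum_subtype _ (fun y => by simp) fun y => sgnTwo (l (q y))
    rw [hS, hR, sgnTwo_sum] at hg
    by_cases hg0 : g = 0
    swap
    · rw [if_neg hg0, mul_zero, sq_eq_zero_iff] at hg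
      omega
    rw [if_pos hg0] at hg
    obtain ⟨r, hr⟩ := exists_card_eq_two_pow (V := Rd) fun v => Subtype.ext (hW v)
    rw [Nat.card_eq_fintype_card] at hr
    have hle : r ≤ m := by
      have := Fintype.card_subtype_le (fun y : W => y ∈ Rd)
      rw [hm] at this
      exact (Nat.pow_le_pow_iff_right (by norm_num)).1 (hr ▸ this)
    rw [hr, hm] at hg
    have hg2 : (e - 1) ^ 2 = 2 ^ (m + r) := by
      have he2 : ((e - 1 : ℕ) : ℤ) = e - 1 := by omega
      have : (((e - 1) ^ 2 : ℕ) : ℤ) = ((2 ^ (m + r) : ℕ) : ℤ) := by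
        push_cast
        rw [he2, pow_add]
        push_cast at hg
        linarith [hg, sq_nonneg ((e : ℤ) - 1), (by ring : ((e : ℤ) - 1) ^ 2 = (1 - (e : ℤ)) ^ 2)]
      exact_mod_cast this
    obtain ⟨j, -, hj⟩ := (Nat.dvd_prime_pow Nat.prime_two).1
      (hg2 ▸ dvd_pow_self (e - 1) two_ne_zero)
    have hjr : 2 * j = m + r := by
      rw [hj, ← pow_mul] at hg2
      have := Nat.pow_right_injective (le_refl 2) hg2
      omega
    have heq : 2 ^ m + 2 ^ j = 2 ^ d + 2 ^ (d + j) := by
      have he3 : (e : ℤ) = 2 ^ j + 1 := by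
        have : e = 2 ^ j + 1 := by omega
        exact_mod_cast this
      have : ((2 ^ m + 2 ^ j : ℕ) : ℤ) = ((2 ^ d + 2 ^ (d + j) : ℕ) : ℤ) := by
        push_cast
        rw [hm] at hcard
        push_cast at hcard
        rw [hcard, he3, pow_add]; ring
      exact_mod_cast this
    obtain ⟨hjd, hmd⟩ := two_pow_arith hd (by omega) heq
    refine ⟨hmd, fun y hy => ?_⟩
    have hr0 : r = 0 := by omega
    rw [hr0, pow_zero] at hr
    have : (⟨y, hy⟩ : Rd) = 0 := (Fintype.card_le_one_iff.1 hr.le) _ _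
    exact congrArg Subtype.val this
  obtain ⟨v, hv⟩ : ∃ v : V, v ≠ 0 := ⟨q w₀, hq0 _ hw₀⟩
  obtain ⟨l₀, hl₀⟩ := exists_functional hV hv
  obtain ⟨hmd, -⟩ := key l₀ fun e0 => hl₀ (by rw [e0]; rfl)
  exact ⟨by rw [hm, hmd], fun l hl => (key l hl).2⟩

/-- An odd order isometry of such a map with `|W| = |V|²` is trivial or fixed-point-free. -/
theorem semiregular {W V : Type*} [AddCommGroup W] [Finite W] [AddCommGroup V] [Finite V]
    (hW : ∀ w : W, w + w = 0) (hV : ∀ v : V, v + v = 0) {d : ℕ} (hd : 1 ≤ d)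
    (hVc : Nat.card V = 2 ^ d) (q : W → V) (β : W → W → V)
    (hq : ∀ a b, q (a + b) = q a + q b + β a b) (hβ : ∀ a b c, β (a + b) c = β a c + β b c)
    (hq0 : ∀ w, w ≠ 0 → q w ≠ 0) [Nontrivial W]
    (hfib : ∀ x y : V, x ≠ 0 → y ≠ 0 →
      Nat.card {w : W // q w = x} = Nat.card {w : W // q w = y})
    (hc : Nat.card W = 2 ^ (2 * d)) (hd2 : 2 ≤ d) (h : W ≃+ W) {n : ℕ} (hn : Odd n)
    (hhn : ∀ w, h^[n] w = w) (hqh : ∀ w, q (h w) = q w) :
    (∀ w, h w = w) ∨ (∀ w, h w = w → w = 0) := by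
  classical
  haveI := Fintype.ofFinite W
  haveI := Fintype.ofFinite V
  haveI : Finite (V →+ ZMod 2) := Finite.of_injective _ DFunLike.coe_injective
  haveI := Fintype.ofFinite (V →+ ZMod 2)
  have hnd : ∀ l : V →+ ZMod 2, l ≠ 0 → ∀ y, (∀ x, l (β x y) = 0) → y = 0 := by
    rcases anisotropic_card hW hV hd hVc q β hq hβ hq0 hfib with h1 | h1
    · rw [hc] at h1
      have := Nat.pow_right_injective (le_refl 2) h1
      omega
    · exact h1.2
  let F : AddSubgroup W :=
    { carrier := {w | h w = w}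
      zero_mem' := map_zero h
      add_mem' := fun {a b} ha hb => by
        show h (a + b) = a + b
        rw [map_add, ha, hb]
      neg_mem' := fun {a} ha => by
        show h (-a) = -a
        rw [map_neg, ha] }
  have hβh : ∀ a b, β (h a) (h b) = β a b := fun a b => by
    have h1 := hq (h a) (h b)
    rw [← map_add, hqh, hqh, hqh, hq] at h1
    exact (add_left_cancel h1).symm
  have hodd : ∀ {A : Type _} [AddCommGroup A], (∀ a : A, a + a = 0) → ∀ a : A, n • a = a := by
    intro A _ hA a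
    obtain ⟨k, rfl⟩ := hn
    rw [add_smul, one_smul, mul_comm, mul_smul, two_nsmul, hA, nsmul_zero, zero_add]
  let π : W → W := fun w => ∑ i ∈ range n, h^[i] w
  have hπF : ∀ w, π w ∈ F := fun w => by
    show h (∑ i ∈ range n, h^[i] w) = ∑ i ∈ range n, h^[i] w
    rw [map_sum]
    have h1 := Finset.sum_range_succ' (fun i => h^[i] w) n
    rw [Finset.sum_range_succ, hhn] at h1
    simp only [Function.iterate_zero_apply] at h1
    rw [Finset.sum_congr rfl fun i _ => (Function.iterate_succ_apply' (⇑h) i w).symm]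
    exact add_right_cancel h1.symm
  have hβπ : ∀ f ∈ F, ∀ x, β (π x) f = β x f := by
    intro f hf x
    have h1 : ∀ i, β (h^[i] x) f = β x f := by
      intro i
      induction i with
      | zero => rfl
      | succ k ih =>
        conv_lhs => rw [Function.iterate_succ_apply', ← (show h f = f from hf)]
        rw [hβh]
        exact ih
    let g : W →+ V := AddMonoidHom.mk' (fun z => β z f) fun a b => hβ a b f
    show g (π x) = g x
    have h2 : ∀ i, g (h^[i] x) = g x := h1
    rw [map_sum, Finset.sum_congr rfl fun i _ => h2 i, sum_const, card_range]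
    exact hodd hV _
  have hWF : ∀ w : F, w + w = 0 := fun w => Subtype.ext (hW w)
  obtain ⟨a, ha⟩ := exists_card_eq_two_pow hWF
  rw [Nat.card_eq_fintype_card] at ha
  by_cases ha0 : a = 0
  · right
    intro w hw
    rw [ha0, pow_zero] at ha
    exact congrArg Subtype.val ((Fintype.card_le_one_iff.1 ha.le) (⟨w, hw⟩ : F) 0)
  left
  -- Gauss sums on the fixed points
  let T : (V →+ ZMod 2) → ℤ := fun l => ∑ f : F, sgnTwo (l (q f))
  have hT : ∀ l : V →+ ZMod 2, l ≠ 0 → T l ^ 2 = 2 ^ a := by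
    intro l hl
    have hrad : ∀ y : F, y ∈ ({0} : Finset F) ↔ ∀ x : F, l (β x y) = 0 := by
      intro y
      rw [mem_singleton]
      refine ⟨fun e x => ?_, fun e => Subtype.ext (hnd l hl y fun x => ?_)⟩
      · subst e
        rw [AddSubgroup.coe_zero, polar_symm q β hq, polar_zero_left β hβ, map_zero]
      · rw [← hβπ y y.2 x]
        exact e ⟨π x, hπF x⟩
    have := gauss_sq (fun f : F => q f) (fun x y : F => β x y) l {0} hrad hV
      (fun x y => hq x y) (fun x y z => hβ x y z)
    simp only [sum_singleton, AddSubgroup.coe_zero, quad_zero q β hq hβ, map_zero, sgnTwo_zero,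
      mul_one, ha] at this
    exact_mod_cast this
  have hsum : ∑ l, T l = 2 ^ d := by
    simp only [T]
    rw [Finset.sum_comm]
    simp only [sum_functionals hV]
    rw [Finset.sum_eq_single (0 : F)]
    · rw [AddSubgroup.coe_zero, if_pos (quad_zero q β hq hβ), card_functionals hV,
        ← Nat.card_eq_fintype_card, hVc]
      push_cast; rfl
    · exact fun f _ hf => if_neg (hq0 f fun e => hf (Subtype.ext e))
    · exact fun hh => absurd (mem_univ _) hh
  have hT0 : T 0 = 2 ^ a := by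
    simp [T, sgnTwo_zero, ha]
  rw [← Finset.add_sum_erase univ T (mem_univ 0), hT0] at hsum
  obtain ⟨l₀, hl₀⟩ : ∃ l : V →+ ZMod 2, l ≠ 0 := by
    obtain ⟨w, hw⟩ := exists_ne (0 : W)
    obtain ⟨l, hl⟩ := exists_functional hV (hq0 w hw)
    exact ⟨l, fun e => hl (by rw [e]; rfl)⟩
  obtain ⟨b, rfl⟩ : ∃ b, a = 2 * b := by
    have h1 : (T l₀).natAbs ^ 2 = 2 ^ a := by
      have := congrArg Int.natAbs (hT l₀ hl₀)
      simpa [Int.natAbs_pow] using this
    obtain ⟨k, -, hk⟩ := (Nat.dvd_prime_pow Nat.prime_two).1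
      (h1 ▸ dvd_pow_self (T l₀).natAbs two_ne_zero)
    rw [hk, ← pow_mul] at h1
    exact ⟨k, by have := Nat.pow_right_injective (le_refl 2) h1; omega⟩
  have hb : 1 ≤ b := by omega
  have hsgn : ∀ l ∈ univ.erase (0 : V →+ ZMod 2), ∃ s : ℤ, Odd s ∧ T l = 2 ^ b * s := by
    intro l hl
    have h1 := hT l (ne_of_mem_erase hl)
    rw [mul_comm 2 b, pow_mul] at h1
    rcases sq_eq_sq_iff_eq_or_eq_neg.1 h1 with h2 | h2
    · exact ⟨1, odd_one, by rw [h2]; ring⟩
    · exact ⟨-1, by decide, by rw [h2]; ring⟩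
  choose! s hs using hsgn
  rw [Finset.sum_congr rfl fun l hl => (hs l hl).2, ← Finset.mul_sum] at hsum
  set A := ∑ l ∈ univ.erase (0 : V →+ ZMod 2), s l with hA
  have hAodd : Odd A := by
    have hm2 : ∀ l ∈ univ.erase (0 : V →+ ZMod 2), s l % 2 = 1 := fun l hl =>
      Int.odd_iff.1 (hs l hl).1
    rw [hA, Int.odd_iff, Finset.sum_int_mod, Finset.sum_congr rfl hm2, sum_const,
      card_erase_of_mem (mem_univ _), card_univ, card_functionals hV, ← Nat.card_eq_fintype_card,
      hVc, nsmul_one]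
    have he2 : (2 : ℕ) ∣ 2 ^ d := dvd_pow_self 2 (by omega)
    have := Nat.two_pow_pos d
    omega
  rcases lt_trichotomy b d with hbd | hbd | hbd
  · exfalso
    have h1 : A = 2 ^ (d - b) - 2 ^ b := by
      have hp : (2 : ℤ) ^ d = 2 ^ b * 2 ^ (d - b) := by rw [← pow_add]; congr 1; omega
      refine mul_left_cancel₀ (pow_ne_zero b (two_ne_zero : (2 : ℤ) ≠ 0)) ?_
      rw [hp, show (2 : ℤ) ^ (2 * b) = 2 ^ b * 2 ^ b by rw [two_mul, pow_add]] at hsum
      linarith
    rw [h1] at hAodd
    exact Int.not_odd_iff_even.2 ((Int.even_pow.2 ⟨even_two, by omega⟩).sub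
      (Int.even_pow.2 ⟨even_two, by omega⟩)) hAodd
  · subst hbd
    have h1 : Fintype.card F = Fintype.card W := by
      rw [ha, ← Nat.card_eq_fintype_card (α := W), hc]
    intro w
    have hF : F = ⊤ := AddSubgroup.eq_top_of_card_eq F (by
      rw [Nat.card_eq_fintype_card, Nat.card_eq_fintype_card, h1])
    have : w ∈ F := hF ▸ AddSubgroup.mem_top w
    exact this
  · exfalso
    have h1 : (2 : ℤ) ^ b ∣ 2 ^ d := by
      rw [← hsum]
      exact dvd_add (pow_dvd_pow 2 (by omega)) (dvd_mul_right _ _)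
    have h2 : (2 : ℕ) ^ b ∣ 2 ^ d := by exact_mod_cast h1
    have := (Nat.pow_dvd_pow_iff_le_right (by norm_num)).1 h2
    omega

end CfsgLib.InvolNormal
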