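import Mathlib
import Cfsg.Agent.S3776
import Cfsg.Agent.Lib.InvolNormal.Defs
import Cfsg.Agent.Lib.InvolNormal.Forms
import Cfsg.Agent.Lib.LocalEven.CentralZ.Central
import Cfsg.Agent.Lib.FT.OddOrderTheorem
import Cfsg.Agent.Lib.Coprime.Basic

/-!
# No perfect group with central involutions permuted transitively

A perfect group all of whose involutions are central, with an automorphism transitive on them and
`2 ^ d - 1` of them a prime, does not exist: modulo the involutions the centralisers of involutions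
are soluble, which yields a strongly embedded subgroup, hence one class of involutions, while the
squaring map separates at least three classes.
-/

set_option autoImplicit false
set_option linter.style.haveILetI false
set_option linter.unusedSectionVars false

open scoped Pointwise

namespace CfsgLib.InvolNormal

open Cfsg Subgroup

universe u

/-! ### General facts -/

section General

variable {K : Type u} [Group K] [Finite K]

theorem central_hom_eq_one {A : Type*} [CommGroup A] (hp : commutator K = ⊤) (f : K →* A) (x : K) :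
    f x = 1 :=
  Abelianization.commutator_subset_ker f (hp ▸ mem_top x)

/-- In a perfect group an abelian Sylow subgroup meets the centre trivially. -/
theorem eq_one_of_central_abelian_sylow (hp : commutator K = ⊤) (P : Sylow 2 K)
    (hab : ∀ a ∈ (P : Subgroup K), ∀ b ∈ (P : Subgroup K), a * b = b * a) {z : K}
    (hz : z ∈ center K) (hzP : z ∈ (P : Subgroup K)) : z = 1 := by
  haveI : Fact (Nat.Prime 2) := ⟨Nat.prime_two⟩
  letI : CommGroup (P : Subgroup K) :=
    { (inferInstance : Group (P : Subgroup K)) with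
      mul_comm := fun a b => Subtype.ext (hab a a.2 b b.2) }
  have key : ∀ (k : ℕ) (g₀ : K), g₀⁻¹ * z ^ k * g₀ ∈ (P : Subgroup K) →
      g₀⁻¹ * z ^ k * g₀ = z ^ k := fun k g₀ _ => by
    rw [mul_assoc, ← (mem_center_iff.1 (pow_mem hz k) g₀), inv_mul_cancel_left]
  have h1 := central_hom_eq_one hp (MonoidHom.transfer (MonoidHom.id (P : Subgroup K))) z
  rw [MonoidHom.transfer_eq_pow _ z key, MonoidHom.id_apply] at h1
  have h2 : z ^ (P : Subgroup K).index = 1 := congrArg Subtype.val h1
  obtain ⟨k, hk⟩ := P.2 ⟨z, hzP⟩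
  have h3 : z ^ 2 ^ k = 1 := congrArg Subtype.val hk
  have hco : ((P : Subgroup K).index).Coprime (2 ^ k) :=
    (Nat.coprime_two_right.2 (Nat.not_even_iff_odd.1 fun h => P.not_dvd_index h.two_dvd)).pow_right k
  exact orderOf_eq_one_iff.1 (Nat.eq_one_of_dvd_coprimes hco (orderOf_dvd_of_pow_eq_one h2)
    (orderOf_dvd_of_pow_eq_one h3))

/-- A perfect group has no nontrivial Sylow 2-subgroup central in its normaliser. -/
theorem false_of_burnside (hp : commutator K = ⊤) (P : Sylow 2 K) (hne : (P : Subgroup K) ≠ ⊥)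
    (hNC : normalizer ((P : Subgroup K) : Set K) ≤ centralizer ((P : Subgroup K) : Set K)) :
    False := by
  haveI : Fact (Nat.Prime 2) := ⟨Nat.prime_two⟩
  letI : CommGroup (P : Subgroup K) :=
    { (inferInstance : Group (P : Subgroup K)) with
      mul_comm := fun a b => Subtype.ext (hNC (le_normalizer b.2) a a.2) }
  have hker : (MonoidHom.transferSylow P hNC).ker = ⊤ := eq_top_iff.2 fun x _ =>
    central_hom_eq_one hp (MonoidHom.transferSylow P hNC) x
  have h := MonoidHom.ker_transferSylow_isComplement' P hNC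
  rw [hker, isComplement'_top_left] at h
  exact hne h

/-- A group with a Sylow 2-subgroup central in its normaliser is soluble. -/
theorem isSolvable_of_burnside (P : Sylow 2 K)
    (hNC : normalizer ((P : Subgroup K) : Set K) ≤ centralizer ((P : Subgroup K) : Set K)) :
    Group.IsSolvable K := by
  haveI : Fact (Nat.Prime 2) := ⟨Nat.prime_two⟩
  set f := MonoidHom.transferSylow P hNC with hf
  haveI : Group.IsSolvable f.ker := CfsgLib.FT.isSolvable_of_odd (Nat.not_even_iff_odd.1 fun h =>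
    MonoidHom.not_dvd_card_ker_transferSylow P hNC h.two_dvd)
  haveI : Group.IsSolvable (P : Subgroup K) :=
    Group.isSolvable_of_comm fun a b => Subtype.ext (hNC (le_normalizer b.2) a a.2)
  exact Group.isSolvable_of_ker_le_range f.ker.subtype f (by rw [Subgroup.range_subtype])

/-- A perfect group of odd order is trivial. -/
theorem false_of_perfect_odd [Nontrivial K] (hp : commutator K = ⊤) (h : Odd (Nat.card K)) :
    False :=
  (Group.IsSolvable.commutator_lt_top_of_nontrivial (G := K)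
    (hG := CfsgLib.FT.isSolvable_of_odd h)).ne hp

theorem map_perfect {L : Type*} [Group L] (hp : commutator K = ⊤) (f : K →* L)
    (hf : Function.Surjective f) : commutator L = ⊤ := by
  rw [eq_top_iff, ← map_top_of_surjective f hf, ← hp, map_commutator_eq,
    MonoidHom.range_eq_top.2 hf]
  exact le_of_eq rfl

/-- A Sylow subgroup central in its normaliser in the centraliser of an involution with trivial
core is that centraliser. -/
theorem centralizer_le_sylow (P : Sylow 2 K) {t : K}
    (hPC : (P : Subgroup K) ≤ centralizer ({t} : Set K))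
    (hNC : normalizer (((P.subtype hPC : Sylow 2 (centralizer ({t} : Set K))) :
        Subgroup (centralizer ({t} : Set K))) : Set (centralizer ({t} : Set K))) ≤
      centralizer (((P.subtype hPC : Sylow 2 (centralizer ({t} : Set K))) :
        Subgroup (centralizer ({t} : Set K))) : Set (centralizer ({t} : Set K))))
    (hcore : centralizerPPrimeCore 2 t = ⊥) : centralizer ({t} : Set K) ≤ (P : Subgroup K) := by
  haveI : Fact (Nat.Prime 2) := ⟨Nat.prime_two⟩
  set C := centralizer ({t} : Set K) with hC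
  obtain ⟨N, hN⟩ : ∃ N : Subgroup C,
    N = (MonoidHom.transferSylow (P.subtype hPC) hNC).ker := ⟨_, rfl⟩
  haveI : N.Normal := hN ▸ MonoidHom.normal_ker _
  have hodd : Odd (Nat.card (N.map C.subtype)) := by
    rw [card_map_of_injective C.subtype_injective]
    rw [hN]
    exact Nat.not_even_iff_odd.1 fun h =>
      MonoidHom.not_dvd_card_ker_transferSylow (P.subtype hPC) hNC h.two_dvd
  have hle : N.map C.subtype ≤ centralizerPPrimeCore 2 t :=
    CfsgLib.StrongTwoClasses.le_core (b := t) (M := N.map C.subtype) (map_subtype_le N) (fun g hg => by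
      refine mem_normalizer_iff.2 fun x => ⟨?_, fun hx => ?_⟩
      · rintro ⟨y, hy, rfl⟩
        exact ⟨⟨g, hg⟩ * y * ⟨g, hg⟩⁻¹, Normal.conj_mem inferInstance y hy ⟨g, hg⟩, rfl⟩
      · obtain ⟨y, hy, hyx⟩ := hx
        refine ⟨⟨g, hg⟩⁻¹ * y * ⟨g, hg⟩, Normal.conj_mem' inferInstance y hy ⟨g, hg⟩, ?_⟩
        show g⁻¹ * (y : K) * g = x
        rw [show ((y : C) : K) = g * x * g⁻¹ from hyx]
        group) hodd
  rw [hcore, le_bot_iff, map_eq_bot_iff_of_injective _ C.subtype_injective] at hle
  have hcompl := MonoidHom.ker_transferSylow_isComplement' (P.subtype hPC) hNC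
  rw [← hN, hle, isComplement'_bot_left] at hcompl
  intro g hg
  have : (⟨g, hg⟩ : C) ∈ ((P.subtype hPC : Sylow 2 C) : Subgroup C) := hcompl ▸ mem_top _
  exact this

end General

/-! ### The quotient by the involutions -/

section Sqr

variable {K : Type u} [Group K]

/-- The subgroup of the solutions of `x * x = 1`, all central. -/
def centralInvol (hcen : ∀ x : K, x * x = 1 → x ∈ center K) : Subgroup K where
  carrier := {x | x * x = 1}
  one_mem' := one_mul 1
  mul_mem' := fun {a b} ha hb => by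
    show a * b * (a * b) = 1
    rw [mem_center_iff.1 (hcen a ha) b |>.symm |> fun h => (show a * b * (a * b) = a * a * (b * b) by
      calc a * b * (a * b) = a * (b * a) * b := by group
        _ = a * (a * b) * b := by rw [h]
        _ = a * a * (b * b) := by group), ha, hb, one_mul]
  inv_mem' := fun {a} ha => by
    show a⁻¹ * a⁻¹ = 1
    rw [← mul_inv_rev, ha, inv_one]

variable {hcen : ∀ x : K, x * x = 1 → x ∈ center K}

theorem mem_centralInvol {x : K} : x ∈ centralInvol hcen ↔ x * x = 1 := Iff.rfl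

theorem centralInvol_comm {v : K} (hv : v ∈ centralInvol hcen) (x : K) : x * v = v * x :=
  mem_center_iff.1 (hcen v hv) x

instance centralInvol_normal : (centralInvol hcen).Normal :=
  ⟨fun v hv g => by rwa [centralInvol_comm hv g, mul_inv_cancel_right]⟩

end Sqr

section Sqr2

variable {K : Type u} [Group K]

/-- Squaring on the quotient. -/
def sqr (hcen : ∀ x : K, x * x = 1 → x ∈ center K) : K ⧸ centralInvol hcen → K :=
  Quotient.lift (fun s => s * s) fun a b h => by
    replace h : a⁻¹ * b ∈ centralInvol hcen := QuotientGroup.leftRel_apply.1 h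
    have hb : b = a * (a⁻¹ * b) := (mul_inv_cancel_left a b).symm
    show a * a = b * b
    rw [hb]
    calc a * a = a * a * ((a⁻¹ * b) * (a⁻¹ * b)) := by rw [mem_centralInvol.1 h, mul_one]
      _ = a * (a * (a⁻¹ * b)) * (a⁻¹ * b) := by group
      _ = a * ((a⁻¹ * b) * a) * (a⁻¹ * b) := by rw [centralInvol_comm h a]
      _ = a * (a⁻¹ * b) * (a * (a⁻¹ * b)) := by group

theorem sqr_mk {hcen : ∀ x : K, x * x = 1 → x ∈ center K} (s : K) : sqr hcen (QuotientGroup.mk' (centralInvol hcen) s) = s * s := rfl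

theorem sqr_conj {hcen : ∀ x : K, x * x = 1 → x ∈ center K} (h s : K) :
    sqr hcen (QuotientGroup.mk' (centralInvol hcen) h * QuotientGroup.mk' (centralInvol hcen) s *
      (QuotientGroup.mk' (centralInvol hcen) h)⁻¹) = h * (s * s) * h⁻¹ := by
  rw [← map_inv, ← map_mul, ← map_mul, sqr_mk]
  group

end Sqr2

/-- The hypotheses of the central case with trivial odd core. -/
structure CentralData (K : Type u) [Group K] (d : ℕ) (α : MulAut K) : Prop where
  perfect : commutator K = ⊤
  central : ∀ x : K, x * x = 1 → x ∈ center K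
  two_le : 2 ≤ d
  card : Nat.card {x : K // x * x = 1} = 2 ^ d
  trans : ∀ x y : K, x ≠ 1 → x * x = 1 → y ≠ 1 → y * y = 1 → ∃ i : ℕ, (α ^ i) x = y
  core : ∀ N : Subgroup K, N.Normal → Odd (Nat.card N) → N = ⊥

namespace CentralData

variable {K : Type u} [Group K] [Finite K] {d : ℕ} {α : MulAut K} (D : CentralData K d α)
include D

/-- The involutions and the identity. -/
abbrev V : Subgroup K := centralInvol D.central

theorem card_V : Nat.card D.V = 2 ^ d := D.card

theorem isPGroup_V : IsPGroup 2 D.V := IsPGroup.of_card D.card_V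

theorem V_le (T : Sylow 2 K) : D.V ≤ (T : Subgroup K) :=
  le_sup_left.trans
    (T.3 (D.isPGroup_V.to_sup_of_normal_left T.2) le_sup_right).le

theorem V_ne_bot : D.V ≠ ⊥ := fun h => by
  have := D.card_V
  rw [h, card_bot] at this
  have := Nat.pow_le_pow_right (show 0 < 2 by norm_num) D.two_le
  omega

/-- An automorphism normalising a given Sylow subgroup and acting on the involutions as `α`. -/
theorem exists_beta (T : Sylow 2 K) : ∃ β : MulAut K,
    (T : Subgroup K).map β.toMonoidHom = (T : Subgroup K) ∧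
    ∀ (i : ℕ) (x : K), x * x = 1 → (β ^ i) x = (α ^ i) x := by
  haveI : Fact (Nat.Prime 2) := ⟨Nat.prime_two⟩
  obtain ⟨k, hk⟩ := MulAction.exists_smul_eq K (T.mapSurjective (f := α.toMonoidHom) α.surjective) T
  refine ⟨MulAut.conj k * α, ?_, ?_⟩
  · have h := congrArg (fun S : Sylow 2 K => (S : Subgroup K)) hk
    refine Eq.trans ?_ h
    rw [Sylow.coe_subgroup_smul]
    ext z
    constructor
    · rintro ⟨x, hx, hxz⟩
      exact ⟨α x, ⟨x, hx, rfl⟩, hxz⟩
    · rintro ⟨_, ⟨x, hx, rfl⟩, hxz⟩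
      exact ⟨x, hx, hxz⟩
  · intro i
    induction i with
    | zero => intro x _; rfl
    | succ i ih =>
      intro x hx
      rw [pow_succ', pow_succ', MulAut.mul_apply, MulAut.mul_apply, MulAut.mul_apply, ih x hx,
        MulAut.conj_apply]
      have hxx : α ((α ^ i) x) * α ((α ^ i) x) = 1 := by
        rw [← map_mul, ← map_mul, hx, map_one, map_one]
      rw [mem_center_iff.1 (D.central _ hxx) k, mul_inv_cancel_right]

/-- The structure of a Sylow 2-subgroup. -/
theorem sylow_facts (T : Sylow 2 K) :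
    (∀ s ∈ (T : Subgroup K), s * s ∈ D.V) ∧
    (∀ s ∈ (T : Subgroup K), ∀ t ∈ (T : Subgroup K), t⁻¹ * s⁻¹ * t * s ∈ D.V) ∧
    (T : Subgroup K) ≠ D.V := by
  haveI : Fact (Nat.Prime 2) := ⟨Nat.prime_two⟩
  obtain ⟨β, hβT, hβ⟩ := D.exists_beta T
  let r : MulAut (T : Subgroup K) :=
    (β.subgroupMap (T : Subgroup K)).trans (MulEquiv.subgroupCongr hβT)
  have hr : ∀ (i : ℕ) (t : (T : Subgroup K)), (((r ^ i) t : (T : Subgroup K)) : K) = (β ^ i) t := by
    intro i
    induction i with
    | zero => intro t; rfl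
    | succ i ih =>
      intro t
      rw [pow_succ', pow_succ', MulAut.mul_apply, MulAut.mul_apply, ← ih t]
      rfl
  have hna : ¬ IsMulCommutative (T : Subgroup K) := by
    intro hc
    obtain ⟨z, hz, hz1⟩ := (ne_bot_iff_exists_ne_one.1 D.V_ne_bot) |> fun ⟨z, hz⟩ =>
      (⟨z.1, z.2, fun e => hz (Subtype.ext e)⟩ : ∃ z, z ∈ D.V ∧ z ≠ 1)
    exact hz1 (eq_one_of_central_abelian_sylow D.perfect T
      (fun a ha b hb => congrArg Subtype.val (hc.1.1 (⟨a, ha⟩ : (T : Subgroup K)) ⟨b, hb⟩))
      (D.central z hz) (D.V_le T hz))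
  have htwo : ∃ x y : (T : Subgroup K), x ≠ y ∧ x ≠ 1 ∧ x ^ 2 = 1 ∧ y ≠ 1 ∧ y ^ 2 = 1 := by
    haveI : Fintype D.V := Fintype.ofFinite _
    have h3 : 2 < Fintype.card D.V := by
      rw [← Nat.card_eq_fintype_card, D.card_V]
      exact lt_of_lt_of_le (by norm_num) (Nat.pow_le_pow_right (show 0 < 2 by norm_num) D.two_le)
    obtain ⟨a, b, c, hab, hac, hbc⟩ := Fintype.two_lt_card_iff.1 h3
    have key : ∀ x y : D.V, x ≠ y → x ≠ 1 → y ≠ 1 →
        ∃ x y : (T : Subgroup K), x ≠ y ∧ x ≠ 1 ∧ x ^ 2 = 1 ∧ y ≠ 1 ∧ y ^ 2 = 1 := fun x y h hx hy =>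
      ⟨⟨x, D.V_le T x.2⟩, ⟨y, D.V_le T y.2⟩, fun e => h (Subtype.ext (congrArg (fun z : (T : Subgroup K) => (z : K)) e)),
        fun e => hx (Subtype.ext (congrArg (fun z : (T : Subgroup K) => (z : K)) e)),
        Subtype.ext (show (x : K) ^ 2 = 1 by rw [pow_two]; exact x.2), fun e => hy (Subtype.ext (congrArg (fun z : (T : Subgroup K) => (z : K)) e)),
        Subtype.ext (show (y : K) ^ 2 = 1 by rw [pow_two]; exact y.2)⟩
    by_cases h1 : a = 1
    · exact key b c hbc (fun h => hab (h1.trans h.symm)) fun h => hac (h1.trans h.symm)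
    by_cases h2 : b = 1
    · exact key a c hac h1 fun h => hbc (h2.trans h.symm)
    exact key a b hab h1 h2
  obtain ⟨hCF, hFZ, hZ⟩ := Cfsg.Agent.S3776.result T.2 hna htwo ⟨zpowers r,
    Group.isSolvable_of_comm fun a b => Subtype.ext
      (IsMulCommutative.is_comm.comm (a : zpowers r) b ▸ rfl), fun x y hx hx2 hy hy2 => by
    obtain ⟨i, hi⟩ := D.trans (x : K) y (fun e => hx (Subtype.ext e))
      (by rw [← pow_two]; exact congrArg Subtype.val hx2) (fun e => hy (Subtype.ext e))
      (by rw [← pow_two]; exact congrArg Subtype.val hy2)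
    exact ⟨r ^ i, pow_mem (mem_zpowers r) i, Subtype.ext (by
      rw [hr, hβ i _ (by rw [← pow_two]; exact congrArg Subtype.val hx2), hi])⟩⟩
  have hZV : ∀ z : (T : Subgroup K), z ∈ center (T : Subgroup K) → (z : K) ∈ D.V := fun z hz => by
    show (z : K) * z = 1
    rw [← pow_two]
    exact congrArg Subtype.val ((hZ z).1 hz)
  refine ⟨fun s hs => ?_, fun s hs t ht => ?_, fun hTV => hna ⟨⟨fun a b => Subtype.ext ?_⟩⟩⟩
  · have h := CfsgLib.PGroups.pow_mem_frattini (p := 2) T.2 (⟨s, hs⟩ : (T : Subgroup K))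
    rw [hFZ] at h
    have h2 := hZV _ h
    rwa [SubmonoidClass.coe_pow, pow_two] at h2
  · have h := commutator_mem_commutator (mem_top (⟨t, ht⟩⁻¹ : (T : Subgroup K)))
      (mem_top (⟨s, hs⟩⁻¹ : (T : Subgroup K)))
    rw [← _root_.commutator_def, hCF, hFZ] at h
    have h2 := hZV _ h
    simpa [commutatorElement_def] using h2
  · exact centralInvol_comm (hcen := D.central) (hTV ▸ b.2 : (b : K) ∈ D.V) a

/-- The projection. -/
abbrev π : K →* K ⧸ D.V := QuotientGroup.mk' D.V

theorem π_eq_one {x : K} : D.π x = 1 ↔ x * x = 1 := QuotientGroup.eq_one_iff _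

theorem π_surjective : Function.Surjective D.π := QuotientGroup.mk'_surjective _

theorem perfect_quot : commutator (K ⧸ D.V) = ⊤ := map_perfect D.perfect D.π D.π_surjective

theorem exists_sylow (P : Sylow 2 (K ⧸ D.V)) : ∃ T : Sylow 2 K,
    (T : Subgroup K).map D.π = (P : Subgroup (K ⧸ D.V)) := by
  haveI : Fact (Nat.Prime 2) := ⟨Nat.prime_two⟩
  obtain ⟨T, rfl⟩ := Sylow.mapSurjective_surjective D.π_surjective 2 P
  exact ⟨T, (Sylow.coe_mapSurjective _ _).symm⟩

theorem elementary (P : Sylow 2 (K ⧸ D.V)) :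
    (∀ w ∈ (P : Subgroup (K ⧸ D.V)), w * w = 1) ∧
    (∀ a ∈ (P : Subgroup (K ⧸ D.V)), ∀ b ∈ (P : Subgroup (K ⧸ D.V)), a * b = b * a) ∧
    (P : Subgroup (K ⧸ D.V)) ≠ ⊥ := by
  obtain ⟨T, hT⟩ := D.exists_sylow P
  obtain ⟨hsq, -, hne⟩ := D.sylow_facts T
  rw [← hT]
  have h1 : ∀ w ∈ (T : Subgroup K).map D.π, w * w = 1 := by
    rintro _ ⟨s, hs, rfl⟩
    rw [← map_mul, D.π_eq_one]
    exact hsq s hs
  refine ⟨h1, fun a ha b hb => ?_, fun h => hne ?_⟩
  · calc a * b = (a * b)⁻¹ := eq_inv_of_mul_eq_one_left (h1 _ (mul_mem ha hb))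
      _ = b * a := by
        rw [mul_inv_rev, inv_eq_of_mul_eq_one_right (h1 a ha), inv_eq_of_mul_eq_one_right (h1 b hb)]
  · refine le_antisymm ?_ (D.V_le T)
    rw [Subgroup.map_eq_bot_iff, QuotientGroup.ker_mk'] at h
    exact h

/-- Abelian Sylow subgroups: an element of odd order normalising one and centralising one of
its involutions centralises it. -/
theorem centralises (P : Sylow 2 (K ⧸ D.V)) :
    Nat.card (P : Subgroup (K ⧸ D.V)) = 2 ^ (2 * d) ∧
    ∀ h ∈ normalizer ((P : Subgroup (K ⧸ D.V)) : Set (K ⧸ D.V)), Odd (orderOf h) →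
      ∀ a ∈ (P : Subgroup (K ⧸ D.V)), a ≠ 1 → h * a * h⁻¹ = a →
      ∀ w ∈ (P : Subgroup (K ⧸ D.V)), h * w * h⁻¹ = w := by
  classical
  haveI : Fact (Nat.Prime 2) := ⟨Nat.prime_two⟩
  obtain ⟨hsq, hab, hne⟩ := D.elementary P
  obtain ⟨T, hT⟩ := D.exists_sylow P
  obtain ⟨-, hct, -⟩ := D.sylow_facts T
  obtain ⟨β, hβT, hβ⟩ := D.exists_beta T
  set W := (P : Subgroup (K ⧸ D.V)) with hW
  have hlift : ∀ w ∈ W, ∃ s ∈ (T : Subgroup K), D.π s = w := fun w hw => by
    rw [← hT] at hw; exact hw
  letI : CommGroup W :=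
    { (inferInstance : Group W) with mul_comm := fun a b => Subtype.ext (hab a a.2 b b.2) }
  letI : CommGroup D.V :=
    { (inferInstance : Group D.V) with
      mul_comm := fun a b => Subtype.ext (centralInvol_comm b.2 a) }
  have hsqrV : ∀ w : W, sqr D.central w.1 ∈ D.V := by
    rintro ⟨w, hw⟩
    obtain ⟨s, hs, rfl⟩ := hlift w hw
    exact (D.sylow_facts T).1 s hs
  let q : Additive W → Additive D.V := fun w => Additive.ofMul ⟨sqr D.central w.toMul.1, hsqrV _⟩
  let b : Additive W → Additive W → Additive D.V := fun x y => q (x + y) - q x - q y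
  have hq : ∀ x y, q (x + y) = q x + q y + b x y := fun x y => by
    show q (x + y) = q x + q y + (q (x + y) - q x - q y)
    abel
  -- the polar form is the commutator
  have hb : ∀ (x y : Additive W) (s t : K), s ∈ (T : Subgroup K) → t ∈ (T : Subgroup K) →
      D.π s = x.toMul.1 → D.π t = y.toMul.1 →
      ((b x y).toMul : K) = t⁻¹ * s⁻¹ * t * s := by
    intro x y s t hs ht hx hy
    have hc := hct s hs t ht
    set c := t⁻¹ * s⁻¹ * t * s with hcdef
    have e1 : ((q x).toMul : K) = s * s := by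
      show sqr D.central x.toMul.1 = s * s
      rw [← hx]; rfl
    have e2 : ((q y).toMul : K) = t * t := by
      show sqr D.central y.toMul.1 = t * t
      rw [← hy]; rfl
    have e3 : ((q (x + y)).toMul : K) = s * t * (s * t) := by
      show sqr D.central (x.toMul.1 * y.toMul.1) = s * t * (s * t)
      rw [← hx, ← hy, ← map_mul]; rfl
    have hts : t * s = s * t * c := by rw [hcdef]; group
    have e4 : s * t * (s * t) = c * ((s * s) * (t * t)) := by
      calc s * t * (s * t) = s * (t * s) * t := by group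
        _ = s * (s * t) * c * t := by rw [hts]; group
        _ = s * (s * t) * (t * c) := by rw [mul_assoc _ c t, ← centralInvol_comm hc t]
        _ = s * s * (t * t) * c := by group
        _ = c * ((s * s) * (t * t)) := centralInvol_comm hc _
    show ((q (x + y)).toMul : K) / (q x).toMul / (q y).toMul = c
    rw [e1, e2, e3, e4, div_eq_mul_inv, div_eq_mul_inv]
    have htt : t * t * (s * s)⁻¹ = (s * s)⁻¹ * (t * t) :=
      centralInvol_comm (inv_mem ((D.sylow_facts T).1 s hs)) _
    calc c * (s * s * (t * t)) * (s * s)⁻¹ * (t * t)⁻¹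
        = c * (s * s * (t * t * (s * s)⁻¹)) * (t * t)⁻¹ := by simp only [mul_assoc]
      _ = c := by rw [htt]; simp only [mul_assoc, mul_inv_cancel_left, mul_inv_cancel, mul_one]
  have hbil : ∀ x y z, b (x + y) z = b x z + b y z := by
    intro x y z
    obtain ⟨s, hs, hx⟩ := hlift _ x.toMul.2
    obtain ⟨s', hs', hy⟩ := hlift _ y.toMul.2
    obtain ⟨t, ht, hz⟩ := hlift _ z.toMul.2
    refine Additive.toMul.injective (Subtype.ext ?_)
    show ((b (x + y) z).toMul : K) = ((b x z).toMul : K) * (b y z).toMul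
    rw [hb (x + y) z (s * s') t (mul_mem hs hs') ht (by rw [map_mul, hx, hy]; rfl) hz,
      hb x z s t hs ht hx hz, hb y z s' t hs' ht hy hz]
    have hc := hct s hs t ht
    calc t⁻¹ * (s * s')⁻¹ * t * (s * s')
        = t⁻¹ * s'⁻¹ * t * ((t⁻¹ * s⁻¹ * t * s) * s') := by group
      _ = t⁻¹ * s'⁻¹ * t * (s' * (t⁻¹ * s⁻¹ * t * s)) := by rw [centralInvol_comm hc s']
      _ = (t⁻¹ * s'⁻¹ * t * s') * (t⁻¹ * s⁻¹ * t * s) := by simp only [mul_assoc]
      _ = _ := centralInvol_comm hc _
  have hW2 : ∀ w : Additive W, w + w = 0 := fun w =>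
    Additive.toMul.injective (Subtype.ext (hsq _ w.toMul.2))
  have hV2 : ∀ v : Additive D.V, v + v = 0 := fun v =>
    Additive.toMul.injective (Subtype.ext v.toMul.2)
  have hq0 : ∀ w, w ≠ 0 → q w ≠ 0 := by
    intro w hw hqw
    obtain ⟨s, hs, hws⟩ := hlift _ w.toMul.2
    refine hw (Additive.toMul.injective (Subtype.ext ?_))
    rw [← hws]
    have h1 : sqr D.central w.toMul.1 = 1 :=
      congrArg (fun v : Additive D.V => (v.toMul : K)) hqw
    rw [← hws] at h1
    exact D.π_eq_one.2 h1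
  haveI : Nontrivial W := (nontrivial_iff_ne_bot W).2 hne
  haveI : Nontrivial (Additive W) := inferInstanceAs (Nontrivial W)
  -- the automorphism permutes the fibres
  have hfib : ∀ x y : Additive D.V, x ≠ 0 → y ≠ 0 →
      Nat.card {w : Additive W // q w = x} ≤ Nat.card {w : Additive W // q w = y} := by
    intro x y hx hy
    obtain ⟨i, hi⟩ := D.trans (x.toMul : K) y.toMul
      (fun e => hx (Additive.toMul.injective (Subtype.ext e))) x.toMul.2
      (fun e => hy (Additive.toMul.injective (Subtype.ext e))) y.toMul.2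
    set γ : MulAut K := β ^ i with hγ
    have hγV : D.V.map γ.toMonoidHom = D.V := by
      ext z
      constructor
      · rintro ⟨v, hv, rfl⟩
        show γ v * γ v = 1
        rw [← map_mul, mem_centralInvol.1 hv, map_one]
      · intro hz
        refine ⟨γ.symm z, ?_, γ.apply_symm_apply z⟩
        show γ.symm z * γ.symm z = 1
        rw [← map_mul, mem_centralInvol.1 hz, map_one]
    have hγT : ∀ s ∈ (T : Subgroup K), γ s ∈ (T : Subgroup K) := by
      rw [hγ]
      clear hi hγV hγ γ
      induction i with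
      | zero => exact fun s hs => hs
      | succ i ih =>
        intro s hs
        rw [pow_succ', MulAut.mul_apply, ← hβT]
        exact ⟨_, ih s hs, rfl⟩
    let γb : (K ⧸ D.V) ≃* (K ⧸ D.V) := QuotientGroup.congr D.V D.V γ hγV
    have hmem : ∀ w : W, γb w.1 ∈ W := by
      rintro ⟨w, hw⟩
      obtain ⟨s, hs, rfl⟩ := hlift w hw
      have h1 := mem_map_of_mem D.π (hγT s hs)
      rw [hT] at h1
      exact h1
    let F : {w : Additive W // q w = x} → {w : Additive W // q w = y} := fun w =>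
      ⟨Additive.ofMul ⟨γb w.1.toMul.1, hmem _⟩, by
        obtain ⟨s, hs, hws⟩ := hlift _ w.1.toMul.2
        have h1 : sqr D.central w.1.toMul.1 = (x.toMul : K) :=
          congrArg (fun v : Additive D.V => (v.toMul : K)) w.2
        rw [← hws] at h1
        refine Additive.toMul.injective (Subtype.ext ?_)
        show sqr D.central (γb w.1.toMul.1) = (y.toMul : K)
        rw [← hws]
        show γ s * γ s = _
        rw [← map_mul, show s * s = (x.toMul : K) from h1, hγ, hβ i _ x.toMul.2, hi]⟩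
    refine Nat.card_le_card_of_injective F fun w w' h => Subtype.ext ?_
    exact Additive.toMul.injective (Subtype.ext (γb.injective
      (congrArg (fun z : {w : Additive W // q w = y} => (z.1.toMul : K ⧸ D.V)) h)))
  have hfib' : ∀ x y : Additive D.V, x ≠ 0 → y ≠ 0 →
      Nat.card {w : Additive W // q w = x} = Nat.card {w : Additive W // q w = y} :=
    fun x y hx hy => le_antisymm (hfib x y hx hy) (hfib y x hy hx)
  have hd1 : 1 ≤ d := le_trans one_le_two D.two_le
  -- conjugation by a normalising element preserves the form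
  have hpres : ∀ h ∈ normalizer (W : Set (K ⧸ D.V)), ∀ w : W,
      sqr D.central (h * w.1 * h⁻¹) = sqr D.central w.1 := by
    intro h _ w
    obtain ⟨g, rfl⟩ := D.π_surjective h
    obtain ⟨s, hs, hws⟩ := hlift _ w.2
    rw [← hws, sqr_conj, sqr_mk, centralInvol_comm ((D.sylow_facts T).1 s hs) g,
      mul_inv_cancel_right]
  rcases anisotropic_card (W := Additive W) (V := Additive D.V) hW2 hV2 hd1 D.card_V q b hq hbil hq0
      hfib' with hcard | ⟨hcard, -⟩
  · exfalso
    -- then squaring is injective and the Sylow subgroup is central in its normaliser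
    haveI : Fintype (Additive W) := Fintype.ofFinite _
    haveI : Fintype (Additive D.V) := Fintype.ofFinite _
    have hsurj : Function.Surjective q := by
      intro x
      by_cases hx : x = 0
      · subst hx
        refine ⟨0, ?_⟩
        refine Additive.toMul.injective (Subtype.ext ?_)
        show (1 : K) * 1 = 1
        rw [one_mul]
      obtain ⟨w₀, hw₀⟩ := exists_ne (0 : Additive W)
      have hpos : 0 < Nat.card {w : Additive W // q w = q w₀} :=
        Nat.card_pos_iff.2 ⟨⟨⟨w₀, rfl⟩⟩, inferInstance⟩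
      rw [hfib' _ x (hq0 _ hw₀) hx] at hpos
      obtain ⟨⟨⟨w, hw⟩⟩, -⟩ := Nat.card_pos_iff.1 hpos
      exact ⟨w, hw⟩
    have hinj : Function.Injective q :=
      ((Fintype.bijective_iff_surjective_and_card q).2 ⟨hsurj, by
        rw [← Nat.card_eq_fintype_card, ← Nat.card_eq_fintype_card, hcard]
        exact D.card_V.symm⟩).1
    refine false_of_burnside D.perfect_quot P hne fun h hh => mem_centralizer_iff.2 fun w hw => ?_
    have hmem : h * w * h⁻¹ ∈ W := (mem_normalizer_iff.1 hh w).1 hw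
    have h1 : (⟨h * w * h⁻¹, hmem⟩ : W) = ⟨w, hw⟩ := Additive.ofMul.injective (hinj
      (Additive.toMul.injective (Subtype.ext (hpres h hh ⟨w, hw⟩))))
    have h2 : h * w * h⁻¹ = w := congrArg Subtype.val h1
    rw [mul_inv_eq_iff_eq_mul] at h2
    exact h2.symm
  refine ⟨hcard, fun h hh hodd a ha ha1 hfix w hw => ?_⟩
  let hcj : Additive W ≃+ Additive W := MulEquiv.toAdditive
    ({ toFun := fun v => ⟨h * v.1 * h⁻¹, (mem_normalizer_iff.1 hh v.1).1 v.2⟩
       invFun := fun v => ⟨h⁻¹ * v.1 * h, by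
          refine (mem_normalizer_iff.1 hh _).2 ?_
          rw [show h * (h⁻¹ * v.1 * h) * h⁻¹ = v.1 by group]
          exact v.2⟩
       left_inv := fun v => Subtype.ext (show h⁻¹ * (h * v.1 * h⁻¹) * h = v.1 by group)
       right_inv := fun v => Subtype.ext (show h * (h⁻¹ * v.1 * h) * h⁻¹ = v.1 by group)
       map_mul' := fun v v' => Subtype.ext (show h * (v.1 * v'.1) * h⁻¹ =
          h * v.1 * h⁻¹ * (h * v'.1 * h⁻¹) by group) } : W ≃* W)
  have hiter : ∀ (k : ℕ) (v : Additive W), ((hcj^[k] v).toMul : K ⧸ D.V) =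
      h ^ k * v.toMul.1 * (h ^ k)⁻¹ := by
    intro k
    induction k with
    | zero => intro v; simp
    | succ k ih =>
      intro v
      rw [Function.iterate_succ_apply']
      show h * ((hcj^[k] v).toMul : K ⧸ D.V) * h⁻¹ = _
      rw [ih, pow_succ']
      group
  rcases semiregular (W := Additive W) (V := Additive D.V) hW2 hV2 hd1 D.card_V q b hq hbil hq0
      hfib' hcard D.two_le hcj hodd
      (fun v => Additive.toMul.injective (Subtype.ext (by
        rw [hiter, pow_orderOf_eq_one, one_mul, inv_one, mul_one])))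
      (fun v => Additive.toMul.injective (Subtype.ext (hpres h hh v.toMul))) with hall | hfpf
  · exact congrArg (fun v : Additive W => (v.toMul : K ⧸ D.V)) (hall (Additive.ofMul ⟨w, hw⟩))
  · exfalso
    refine ha1 ?_
    have := hfpf (Additive.ofMul ⟨a, ha⟩) (Additive.toMul.injective (Subtype.ext hfix))
    exact congrArg (fun v : Additive W => (v.toMul : K ⧸ D.V)) this

/-- A Sylow subgroup is central in its normaliser in the centraliser of one of its involutions. -/
theorem centralizer_nc (P : Sylow 2 (K ⧸ D.V)) {t : K ⧸ D.V}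
    (htP : t ∈ (P : Subgroup (K ⧸ D.V))) (ht : orderOf t = 2)
    (hPC : (P : Subgroup (K ⧸ D.V)) ≤ centralizer ({t} : Set (K ⧸ D.V))) :
    normalizer (((P.subtype hPC : Sylow 2 (centralizer ({t} : Set (K ⧸ D.V)))) :
        Subgroup (centralizer ({t} : Set (K ⧸ D.V)))) : Set (centralizer ({t} : Set (K ⧸ D.V)))) ≤
      centralizer (((P.subtype hPC : Sylow 2 (centralizer ({t} : Set (K ⧸ D.V)))) :
        Subgroup (centralizer ({t} : Set (K ⧸ D.V)))) : Set (centralizer ({t} : Set (K ⧸ D.V)))) := by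
  haveI : Fact (Nat.Prime 2) := ⟨Nat.prime_two⟩
  obtain ⟨hsq, hab, -⟩ := D.elementary P
  obtain ⟨-, hcen⟩ := D.centralises P
  set C := centralizer ({t} : Set (K ⧸ D.V)) with hC
  refine fun h hh => mem_centralizer_iff.2 fun w hw => ?_
  have hn : ((h : C) : K ⧸ D.V) ∈ normalizer ((P : Subgroup (K ⧸ D.V)) : Set (K ⧸ D.V)) := by
    refine mem_normalizer_iff.2 fun x => ⟨fun hx => ?_, fun hx => ?_⟩
    · exact (mem_normalizer_iff.1 hh ⟨x, hPC hx⟩).1 hx
    · have hxC : x ∈ C := by
        have := mul_mem (mul_mem (inv_mem h.2) (hPC hx)) h.2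
        simpa [mul_assoc] using this
      exact (mem_normalizer_iff.1 hh ⟨x, hxC⟩).2 hx
  -- split `h` into its parts
  set g : K ⧸ D.V := (h : K ⧸ D.V) with hg
  obtain ⟨k, m, hm, hkm⟩ := Nat.exists_eq_two_pow_mul_odd (orderOf_pos g).ne'
  have hgc : g * t * g⁻¹ = t := by
    rw [mul_inv_eq_iff_eq_mul]; exact mem_centralizer_singleton_iff.1 h.2
  obtain ⟨A, hA⟩ : ∃ A : Subgroup (K ⧸ D.V), A = centralizer ((P : Subgroup (K ⧸ D.V)) : Set (K ⧸ D.V)) :=
    ⟨_, rfl⟩
  have h1 : g ^ 2 ^ k ∈ A := by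
    rw [hA, mem_centralizer_iff]
    intro x hx
    have hodd : Odd (orderOf (g ^ 2 ^ k)) := hm.of_dvd_nat (orderOf_dvd_of_pow_eq_one (by
      rw [← pow_mul, ← hkm, pow_orderOf_eq_one]))
    have hfix : g ^ 2 ^ k * t * (g ^ 2 ^ k)⁻¹ = t :=
      (Commute.pow_left (mul_inv_eq_iff_eq_mul.1 hgc) _).mul_inv_cancel
    have := hcen _ (pow_mem hn _) hodd t htP (fun e => by rw [e, orderOf_one] at ht; omega) hfix x hx
    exact (mul_inv_eq_iff_eq_mul.1 this).symm
  have h2 : g ^ m ∈ A := by
    rw [hA, mem_centralizer_iff]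
    intro x hx
    have hgmP : g ^ m ∈ (P : Subgroup (K ⧸ D.V)) :=
      CfsgLib.LocalEven.CentralZ.mem_of_mem_normalizer P (n := k)
        (by rw [← pow_mul, mul_comm, ← hkm, pow_orderOf_eq_one]) (pow_mem hn _)
    exact hab x hx _ hgmP
  have h3 : g ∈ A := by
    have hco : Nat.gcd (2 ^ k) m = 1 := (hm.coprime_two_left.pow_left k)
    have := Nat.gcd_eq_gcd_ab (2 ^ k) m
    rw [hco, Nat.cast_one] at this
    rw [show g = g ^ ((1 : ℕ) : ℤ) by simp, Nat.cast_one, this, zpow_add, zpow_mul, zpow_mul,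
      zpow_natCast, zpow_natCast]
    exact mul_mem (zpow_mem h1 _) (zpow_mem h2 _)
  rw [hA] at h3
  exact Subtype.ext (mem_centralizer_iff.1 h3 (w : C) hw)

/-- The centralisers of involutions of the quotient are soluble. -/
theorem solvable_centralizer {t : K ⧸ D.V} (ht : orderOf t = 2) :
    Group.IsSolvable (centralizer ({t} : Set (K ⧸ D.V))) := by
  haveI : Fact (Nat.Prime 2) := ⟨Nat.prime_two⟩
  obtain ⟨P, hP⟩ := (IsPGroup.of_card (G := zpowers t) (n := 1)
    (by rw [Nat.card_zpowers, ht, pow_one])).exists_le_sylow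
  have htP : t ∈ (P : Subgroup (K ⧸ D.V)) := hP (mem_zpowers t)
  have hPC : (P : Subgroup (K ⧸ D.V)) ≤ centralizer ({t} : Set (K ⧸ D.V)) := fun w hw =>
    mem_centralizer_singleton_iff.2 ((D.elementary P).2.1 w hw t htP)
  exact isSolvable_of_burnside (P.subtype hPC) (D.centralizer_nc P htP ht hPC)

theorem pPrimeCore_quot : pPrimeCore 2 (K ⧸ D.V) = ⊥ := by
  haveI : Fact (Nat.Prime 2) := ⟨Nat.prime_two⟩
  set N := (pPrimeCore 2 (K ⧸ D.V)).comap D.π with hN
  have hVN : D.V ≤ N := fun v hv => by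
    rw [hN, mem_comap, D.π_eq_one.2 hv]; exact one_mem _
  have hmap : N.map D.π = pPrimeCore 2 (K ⧸ D.V) := map_comap_eq_self_of_surjective D.π_surjective _
  have hidx : (D.V.subgroupOf N).index = Nat.card (pPrimeCore 2 (K ⧸ D.V)) := by
    rw [← hmap]
    exact (CfsgLib.Coprime.card_map_mk' D.V N).symm
  have hcop : Nat.Coprime (Nat.card (D.V.subgroupOf N)) (D.V.subgroupOf N).index := by
    rw [hidx, Nat.card_congr (subgroupOfEquivOfLe hVN).toEquiv, D.card_V]
    exact Nat.Coprime.pow_left d (Nat.coprime_two_left.2 (Nat.coprime_two_right.1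
      (CfsgLib.Base.pPrimeCore_coprime 2 (K ⧸ D.V))))
  obtain ⟨Q, hQ⟩ := exists_right_complement'_of_coprime hcop
  have hQodd : Odd (Nat.card Q) := by
    rw [← hQ.symm.index_eq_card, hidx]
    exact Nat.coprime_two_right.1 (CfsgLib.Base.pPrimeCore_coprime 2 (K ⧸ D.V))
  have hchar : ∀ x : N, Odd (orderOf x) → x ∈ Q := by
    intro x hx
    obtain ⟨⟨⟨v, hv⟩, q⟩, rfl⟩ := hQ.2 x
    have hvo : v ^ 2 = 1 := Subtype.ext (by rw [pow_two]; exact hv)
    have hcomm : Commute v (q : N) := Subtype.ext (centralInvol_comm (hcen := D.central) hv _).symm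
    suffices hv1 : v = 1 by
      show v * (q : N) ∈ Q
      rw [hv1, one_mul]; exact q.2
    obtain ⟨l, hl⟩ := hx
    have h1 : v ^ orderOf (v * (q : N)) * (q : N) ^ orderOf (v * (q : N)) = 1 := by
      rw [← hcomm.mul_pow, pow_orderOf_eq_one]
    rw [hl, pow_succ v, pow_mul v, hvo, one_pow, one_mul] at h1
    have hvQ : v ∈ Q := by rw [mul_eq_one_iff_eq_inv.1 h1]; exact inv_mem (pow_mem q.2 _)
    exact disjoint_def.1 hQ.disjoint hv hvQ
  have hQn : (Q.map N.subtype).Normal := ⟨by
    rintro _ ⟨x, hx, rfl⟩ g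
    haveI : N.Normal := Normal.comap inferInstance D.π
    refine ⟨⟨g * x * g⁻¹, Normal.conj_mem inferInstance _ x.2 g⟩, hchar _ ?_, rfl⟩
    rw [← orderOf_coe]
    show Odd (orderOf (g * (x : K) * g⁻¹))
    rw [CfsgLib.LocalEven.CentralZ.orderOf_conj, orderOf_coe]
    exact hQodd.of_dvd_nat (orderOf_dvd_natCard Q hx)⟩
  have hQ1 : Q = ⊥ := (map_eq_bot_iff_of_injective _ N.subtype_injective).1
    (D.core _ hQn (by rwa [card_map_of_injective N.subtype_injective]))
  rw [← card_eq_one, ← hidx, hQ.symm.index_eq_card, hQ1, card_bot]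

theorem pCore_quot : pCore 2 (K ⧸ D.V) = ⊥ := by
  haveI : Fact (Nat.Prime 2) := ⟨Nat.prime_two⟩
  obtain ⟨P⟩ := (inferInstance : Nonempty (Sylow 2 (K ⧸ D.V)))
  obtain ⟨-, hab, hne⟩ := D.elementary P
  haveI : Nontrivial (K ⧸ D.V) := by
    obtain ⟨x, hx⟩ := ne_bot_iff_exists_ne_one.1 hne
    exact nontrivial_of_ne (x : K ⧸ D.V) 1 fun e => hx (Subtype.ext e)
  set N := pCore 2 (K ⧸ D.V) with hN
  haveI hNn : N.Normal := inferInstance
  have hNP : N ≤ (P : Subgroup (K ⧸ D.V)) := le_sup_left.trans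
    (P.3 ((CfsgLib.Base.isPGroup_pCore 2 _).to_sup_of_normal_left P.2) le_sup_right).le
  set C := centralizer (N : Set (K ⧸ D.V)) with hC
  have hPC : (P : Subgroup (K ⧸ D.V)) ≤ C := fun w hw =>
    mem_centralizer_iff.2 fun n hn => hab n (hNP hn) w hw
  have htop : C = ⊤ := by
    by_contra h
    haveI : C.Normal := by rw [hC]; infer_instance
    haveI : Nontrivial ((K ⧸ D.V) ⧸ C) := QuotientGroup.nontrivial_iff.2 h
    refine false_of_perfect_odd (map_perfect D.perfect_quot (QuotientGroup.mk' C)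
      (QuotientGroup.mk'_surjective C)) (Nat.not_even_iff_odd.1 fun he => ?_)
    exact P.not_dvd_index (dvd_trans he.two_dvd (index_dvd_of_le hPC))
  refine (eq_bot_iff_forall N).2 fun n hn =>
    eq_one_of_central_abelian_sylow D.perfect_quot P hab (mem_center_iff.2 fun x => ?_) (hNP hn)
  have hx : x ∈ C := htop ▸ mem_top x
  exact (mem_centralizer_iff.1 hx n hn).symm

/-- The quotient has a strongly embedded subgroup. -/
theorem exists_stronglyEmbedded : ∃ M : Subgroup (K ⧸ D.V), IsStronglyEmbedded M := by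
  haveI : Fact (Nat.Prime 2) := ⟨Nat.prime_two⟩
  obtain ⟨P⟩ := (inferInstance : Nonempty (Sylow 2 (K ⧸ D.V)))
  obtain ⟨hsq, hab, hne⟩ := D.elementary P
  obtain ⟨hcard, -⟩ := D.centralises P
  have hord : ∀ x ∈ (P : Subgroup (K ⧸ D.V)), x ≠ 1 → orderOf x = 2 := fun x hx h1 =>
    CfsgLib.LocalEven.CentralZ.orderOf_two.2 ⟨hsq x hx, h1⟩
  have hbig : 8 ≤ Nat.card (P : Subgroup (K ⧸ D.V)) := by
    rw [hcard]
    exact le_trans (by norm_num : 8 ≤ 2 ^ 4) (Nat.pow_le_pow_right (show 0 < 2 by norm_num) (by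
      have := D.two_le; omega))
  have havoid : ∀ L : Finset (K ⧸ D.V), L.card < 8 → ∃ x ∈ (P : Subgroup (K ⧸ D.V)), x ∉ L := by
    intro L hL
    by_contra h
    push Not at h
    haveI : Fintype (K ⧸ D.V) := Fintype.ofFinite _
    have := Nat.card_le_card_of_injective
      (fun x : (P : Subgroup (K ⧸ D.V)) => (⟨x.1, h x.1 x.2⟩ : L))
      fun x y e => Subtype.ext (congrArg (fun z : L => (z : K ⧸ D.V)) e)
    rw [Nat.card_eq_fintype_card (α := L), Fintype.card_coe] at this
    omega
  classical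
  obtain ⟨a, ha, ha'⟩ := havoid {1} (by simp)
  obtain ⟨b, hb, hb'⟩ := havoid {1, a}
    (lt_of_le_of_lt Finset.card_le_two (by norm_num))
  obtain ⟨c, hc, hc'⟩ := havoid {1, a, b, a * b}
    (lt_of_le_of_lt Finset.card_le_four (by norm_num))
  simp only [Finset.mem_insert, Finset.mem_singleton, not_or] at ha' hb' hc'
  have h2c := CfsgLib.LocalEven.CentralZ.localsConstrained_of_solvable
    (fun t ht => D.solvable_centralizer ht) D.pCore_quot
  rcases CfsgLib.LocalEven.CentralZ.alt_of_two_central h2c D.pPrimeCore_quot P hne ha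
      (hord a ha ha') (fun r hr => hab a ha r hr) hb (hord b hb hb'.1) (fun r hr => hab b hb r hr)
      (Ne.symm hb'.2) hc (hord c hc hc'.1) hc'.2.1 hc'.2.2.1 hc'.2.2.2 with h | hcores
  · exact h
  -- all cores trivial: centralisers are the Sylow subgroup
  refine ⟨_, CfsgLib.LocalEven.CentralZ.stronglyEmbedded_of P hne (fun htop => hne ?_) le_rfl
    fun t htP ht => ?_⟩
  · haveI : (P : Subgroup (K ⧸ D.V)).Normal := normalizer_eq_top_iff.1 htop
    exact le_bot_iff.1 (D.pCore_quot ▸ CfsgLib.Base.le_pCore P.2)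
  · set C := centralizer ({t} : Set (K ⧸ D.V)) with hC
    have hPC : (P : Subgroup (K ⧸ D.V)) ≤ C := fun w hw =>
      mem_centralizer_singleton_iff.2 (hab w hw t htP)
    exact (centralizer_le_sylow P hPC (D.centralizer_nc P htP ht hPC) (hcores t ht)).trans le_normalizer

/-- The contradiction when the odd core is trivial. -/
theorem false_of_data (hp : (2 ^ d - 1).Prime) : False := by
  haveI : Fact (Nat.Prime 2) := ⟨Nat.prime_two⟩
  obtain ⟨M, hM⟩ := D.exists_stronglyEmbedded
  obtain ⟨P⟩ := (inferInstance : Nonempty (Sylow 2 (K ⧸ D.V)))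
  obtain ⟨hsq, -, hne⟩ := D.elementary P
  obtain ⟨⟨w, hw⟩, hw1⟩ := ne_bot_iff_exists_ne_one.1 hne
  obtain ⟨s, rfl⟩ := D.π_surjective w
  have hs : s * s ≠ 1 := fun h => hw1 (Subtype.ext (D.π_eq_one.2 h))
  have hsV : (s * s) * (s * s) = 1 := by
    have := hsq _ hw
    rwa [← map_mul, D.π_eq_one] at this
  obtain ⟨y, hy⟩ : ∃ y : D.V, y.1 ≠ 1 ∧ y.1 ≠ s * s := by
    by_contra h
    simp only [not_exists, not_and, not_not] at h
    classical
    have hle := Nat.card_le_card_of_injective
      (fun y : D.V => if y.1 = 1 then (0 : Fin 2) else 1) fun y y' e => Subtype.ext ?_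
    · rw [D.card_V, Nat.card_eq_fintype_card, Fintype.card_fin] at hle
      have := Nat.pow_le_pow_right (show 0 < 2 by norm_num) D.two_le
      omega
    · by_cases h1 : y.1 = 1 <;> by_cases h2 : y'.1 = 1 <;> simp [h1, h2] at e
      · rw [h1, h2]
      · rw [h _ h1, h _ h2]
  obtain ⟨i, hi⟩ := D.trans (s * s) y.1 hs hsV hy.1 y.2
  set s' := (α ^ i) s with hs'
  have hs's : s' * s' = y.1 := by rw [hs', ← map_mul, hi]
  have ho : ∀ t : K, t * t ≠ 1 → t * t * (t * t) = 1 → orderOf (D.π t) = 2 := fun t h1 h2 =>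
    CfsgLib.LocalEven.CentralZ.orderOf_two.2
      ⟨by rw [← map_mul, D.π_eq_one]; exact h2, fun e => h1 (D.π_eq_one.1 e)⟩
  obtain ⟨g, hg⟩ := isConj_iff.1 (CfsgLib.Involutions.SE.isConj hM (ho s hs hsV)
    (ho s' (by rw [hs's]; exact hy.1) (by rw [hs's]; exact y.2)))
  obtain ⟨g, rfl⟩ := D.π_surjective g
  have h1 := congrArg (sqr D.central) hg
  rw [sqr_conj, sqr_mk, hs's, mem_center_iff.1 (D.central _ hsV) g, mul_inv_cancel_right] at h1
  exact hy.2 h1.symm

end CentralData

/-- A perfect group with central involutions, transitively permuted by an automorphism, with a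
prime number `2 ^ d - 1` of them, does not exist. -/
theorem no_perfect_central {K : Type u} [Group K] [Finite K] [Nontrivial K]
    (hperf : commutator K = ⊤) (hcen : ∀ x : K, x * x = 1 → x ∈ Subgroup.center K) {d : ℕ}
    (hd : 2 ≤ d) (hp : (2 ^ d - 1).Prime) (hcard : Nat.card {x : K // x * x = 1} = 2 ^ d)
    (α : MulAut K)
    (htr : ∀ x y : K, x ≠ 1 → x * x = 1 → y ≠ 1 → y * y = 1 → ∃ i : ℕ, (α ^ i) x = y) :
    False := by
  haveI : Fact (Nat.Prime 2) := ⟨Nat.prime_two⟩
  set O := pPrimeCore 2 K with hO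
  have hOo : Odd (Nat.card O) := Nat.coprime_two_right.1 (CfsgLib.Base.pPrimeCore_coprime 2 K)
  set π := QuotientGroup.mk' O with hπ
  have hπs : Function.Surjective π := QuotientGroup.mk'_surjective O
  have hone : ∀ {x : K}, π x = 1 ↔ x ∈ O := QuotientGroup.eq_one_iff _
  -- involutions lift
  have hlift : ∀ xb : K ⧸ O, xb * xb = 1 → ∃ x : K, x * x = 1 ∧ π x = xb := by
    intro xb hx
    obtain ⟨x, rfl⟩ := hπs xb
    have hx2 : x ^ 2 ∈ O := hone.1 (by rw [map_pow, pow_two, hx])
    refine ⟨x ^ Nat.card O, ?_, ?_⟩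
    · rw [← pow_two, ← pow_mul, mul_comm, pow_mul]
      exact congrArg Subtype.val (pow_card_eq_one' (x := (⟨x ^ 2, hx2⟩ : O)))
    · obtain ⟨l, hl⟩ := hOo
      rw [map_pow, hl, pow_succ, pow_mul, pow_two, hx, one_pow, one_mul]
  have hinj : ∀ x y : K, x * x = 1 → y * y = 1 → π x = π y → x = y := by
    intro x y hx hy h
    have h1 : x⁻¹ * y ∈ O := QuotientGroup.eq.1 h
    have h2 : x⁻¹ * y * (x⁻¹ * y) = 1 := by
      have hc := mem_center_iff.1 (hcen y hy) x⁻¹
      rw [inv_eq_of_mul_eq_one_right hx] at hc ⊢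
      calc x * y * (x * y) = x * (y * x) * y := by group
        _ = x * (x * y) * y := by rw [hc]
        _ = 1 := by rw [← mul_assoc x x y, hx, one_mul, hy]
    exact inv_mul_eq_one.1 (CfsgLib.Involutions.eq_one_of_eq_inv_of_odd
      (eq_inv_of_mul_eq_one_left h2) (hOo.of_dvd_nat (orderOf_dvd_natCard O h1)))
  have hmap : O.map α.toMonoidHom = O := CfsgLib.Base.map_pPrimeCore_mulEquiv α
  let αb : MulAut (K ⧸ O) := QuotientGroup.congr O O α hmap
  have hαb : ∀ (i : ℕ) (x : K), (αb ^ i) (π x) = π ((α ^ i) x) := by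
    intro i
    induction i with
    | zero => intro x; rfl
    | succ i ih =>
      intro x
      rw [pow_succ', pow_succ', MulAut.mul_apply, MulAut.mul_apply, ih]
      rfl
  refine CentralData.false_of_data (K := K ⧸ O) (d := d) (α := αb)
    ⟨map_perfect hperf π hπs, fun xb hx => ?_, hd, ?_, fun xb yb hx1 hx hy1 hy => ?_, ?_⟩ hp
  · obtain ⟨x, hx', rfl⟩ := hlift xb hx
    refine mem_center_iff.2 fun z => ?_
    obtain ⟨z, rfl⟩ := hπs z
    rw [← map_mul, ← map_mul, mem_center_iff.1 (hcen x hx') z]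
  · rw [← hcard]
    refine (Nat.card_congr (Equiv.ofBijective
      (fun x : {x : K // x * x = 1} =>
        (⟨π x.1, by rw [← map_mul, x.2, map_one]⟩ : {x : K ⧸ O // x * x = 1})) ⟨?_, ?_⟩)).symm
    · exact fun x y h => Subtype.ext (hinj _ _ x.2 y.2 (congrArg Subtype.val h))
    · rintro ⟨xb, hx⟩
      obtain ⟨x, hx', rfl⟩ := hlift xb hx
      exact ⟨⟨x, hx'⟩, rfl⟩
  · obtain ⟨x, hx', rfl⟩ := hlift xb hx
    obtain ⟨y, hy', rfl⟩ := hlift yb hy
    obtain ⟨i, hi⟩ := htr x y (fun h => hx1 (by rw [h, map_one])) hx'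
      (fun h => hy1 (by rw [h, map_one])) hy'
    exact ⟨i, by rw [hαb, hi]⟩
  · intro N hN hNo
    haveI := hN
    have hVN : O ≤ N.comap π := fun x hx => by rw [mem_comap, hone.2 hx]; exact one_mem _
    have hodd : Odd (Nat.card (N.comap π)) := by
      rw [← (O.subgroupOf (N.comap π)).card_mul_index,
        Nat.card_congr (subgroupOfEquivOfLe hVN).toEquiv]
      refine hOo.mul ?_
      show Odd (O.relIndex (N.comap π))
      rwa [← CfsgLib.Coprime.card_map_mk' O (N.comap π), map_comap_eq_self_of_surjective hπs N]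
    have hle : N.comap π ≤ O :=
      CfsgLib.Base.le_pPrimeCore (Nat.coprime_two_right.2 hodd)
    rw [← map_comap_eq_self_of_surjective hπs N, Subgroup.map_eq_bot_iff, hπ, QuotientGroup.ker_mk']
    exact hle

end CfsgLib.InvolNormal
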