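import Cfsg.Agent.Lib.InvolNormal.Descent
import Cfsg.Agent.Lib.InvolNormal.Central
import Cfsg.Agent.Lib.Perm.PrimeDegree
import Cfsg.Agent.Lib.Recog.AltSubconstituent.Basic

/-!
# The base: `2 ^ d - 1` involutions, prime, filling a normal subgroup
-/

set_option autoImplicit false
set_option linter.style.haveILetI false

namespace CfsgLib.InvolNormal

open Subgroup

universe u

/-- A group whose `2 ^ d - 1` involutions are conjugate and fill a normal subgroup, with
`2 ^ d - 1` prime, is solvable. -/
theorem solvable_base (hseven : NoSeven.{u}) {G : Type u} [Group G] [Finite G] {V : Subgroup G}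
    (h : InvV G V) {d : ℕ} (hd : 2 ≤ d) (hcard : Nat.card V = 2 ^ d) (hp : (2 ^ d - 1).Prime)
    (htr : ∀ a ∈ V, ∀ b ∈ V, a ≠ 1 → b ≠ 1 → ∃ g : G, g * a * g⁻¹ = b) : Group.IsSolvable G := by
  classical
  haveI := centralizer_normal h
  haveI := Fintype.ofFinite G
  let α := {v : G // v ∈ V ∧ v ≠ 1}
  letI : MulAction G α :=
    { smul := fun g v => ⟨g * v.1 * g⁻¹, h.conj_mem v.2.1 g, fun e => v.2.2 (by
        rw [mul_inv_eq_one] at e
        exact mul_eq_left.1 e)⟩
      one_smul := fun v => Subtype.ext (by show 1 * v.1 * 1⁻¹ = v.1; group)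
      mul_smul := fun a b v => Subtype.ext (by
        show a * b * v.1 * (a * b)⁻¹ = a * (b * v.1 * b⁻¹) * a⁻¹; group) }
  haveI : Fintype α := Fintype.ofFinite α
  set p := 2 ^ d - 1 with hpdef
  haveI := Fact.mk hp
  have hα : Fintype.card α = p := by
    rw [← Nat.card_eq_fintype_card, hpdef, ← hcard]
    have h1 : {v : G | v ∈ V ∧ v ≠ 1} = (V : Set G) \ {1} := rfl
    have h2 : Nat.card α = ((V : Set G) \ {1}).ncard := by rw [← h1]; rfl
    rw [h2, Set.ncard_sdiff_singleton_of_mem (one_mem V), ← Nat.card_coe_set_eq]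
    rfl
  let φ := MulAction.toPermHom G α
  set L := φ.range with hL
  haveI : MulAction.IsPretransitive L α := ⟨fun x y => by
    obtain ⟨g, hg⟩ := htr x.1 x.2.1 y.1 y.2.1 x.2.2 y.2.2
    exact ⟨⟨φ g, g, rfl⟩, Subtype.ext hg⟩⟩
  by_cases hLs : Group.IsSolvable L
  swap
  · exfalso
    have h2t := CfsgLib.Perm.two_transitive (G := L) hα hLs
    rw [MulAction.is_two_pretransitive_iff] at h2t
    refine no_two2 hseven _ G V rfl h ?_ ?_
    · rw [hcard]
      calc 4 = 2 ^ 2 := by norm_num
        _ ≤ _ := Nat.pow_le_pow_right (by norm_num) hd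
    · intro a ha b hb c hc e he ha1 hb1 hc1 he1 hab hce
      obtain ⟨⟨_, g, rfl⟩, hg1, hg2⟩ := h2t (a := (⟨a, ha, ha1⟩ : α)) (b := ⟨b, hb, hb1⟩)
        (c := ⟨c, hc, hc1⟩) (d := ⟨e, he, he1⟩) (fun x => hab (congrArg Subtype.val x))
        (fun x => hce (congrArg Subtype.val x))
      exact ⟨g, congrArg Subtype.val hg1, congrArg Subtype.val hg2⟩
  -- the kernel is the centraliser
  set K := centralizer (V : Set G) with hK
  have hker : φ.rangeRestrict.ker = K := by
    ext g
    rw [MonoidHom.ker_rangeRestrict, MonoidHom.mem_ker, hK, mem_centralizer_iff]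
    constructor
    · intro hg v hv
      by_cases hv1 : v = 1
      · rw [hv1]; group
      have := congrArg Subtype.val (Equiv.Perm.ext_iff.1 hg ⟨v, hv, hv1⟩)
      exact (mul_inv_eq_iff_eq_mul.1 (this : g * v * g⁻¹ = v)).symm
    · intro hg
      refine Equiv.Perm.ext fun v => Subtype.ext ?_
      show g * v.1 * g⁻¹ = v.1
      rw [mul_inv_eq_iff_eq_mul]
      exact (hg v.1 v.2.1).symm
  obtain ⟨E, hEK, hEE, hEn, -, hEsol⟩ :=
    CfsgLib.Recog.AltSub.exists_perfectResidual K
  have hKs : Group.IsSolvable K := by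
    refine hEsol K le_rfl ?_
    by_contra hne
    have hEne : E ≠ ⊥ := fun e => hne (by rw [e, inf_bot_eq])
    haveI : E.Normal := by
      rw [← Subgroup.normalizer_eq_top_iff]
      exact top_le_iff.1 ((Subgroup.normalizer_eq_top_iff.2 (inferInstance : K.Normal)).symm.le.trans hEn)
    haveI : Nontrivial E := (Subgroup.nontrivial_iff_ne_bot E).2 hEne
    have hperf : commutator E = ⊤ := by
      apply Subgroup.map_injective E.subtype_injective
      rw [map_subtype_commutator, hEE, ← MonoidHom.range_eq_map, range_subtype]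
    -- `E` contains an involution, hence `V`
    have heven : 2 ∣ Nat.card E := by
      by_contra hodd
      have hs := CfsgLib.FT.isSolvable_of_odd (G := E) (Nat.odd_iff.2 (Nat.two_dvd_ne_zero.1 hodd))
      obtain ⟨n, hn⟩ := (Group.isSolvable_def E).1 hs
      have : ∀ m, derivedSeries E m = ⊤ := fun m => by
        induction m with
        | zero => rfl
        | succ m ih => rw [derivedSeries_succ, ih, ← commutator_def, hperf]
      rw [this] at hn
      exact top_ne_bot hn
    obtain ⟨⟨t, htE⟩, ht⟩ := exists_prime_orderOf_dvd_card' 2 heven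
    rw [Subgroup.orderOf_mk] at ht
    have ht1 : t ≠ 1 := fun e => by rw [e, orderOf_one] at ht; omega
    have htV := h.mem_of_orderOf ht
    have hVE : V ≤ E := by
      intro v hv
      by_cases hv1 : v = 1
      · rw [hv1]; exact one_mem _
      obtain ⟨g, rfl⟩ := htr t htV v hv ht1 hv1
      exact (inferInstance : E.Normal).conj_mem t htE g
    have hcen : ∀ x : E, x * x = 1 → x ∈ center E := by
      intro x hx
      have hxV : (x : G) ∈ V := (h.mem_iff _).2 (congrArg Subtype.val hx)
      rw [Subgroup.mem_center_iff]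
      intro y
      exact Subtype.ext (mem_centralizer_iff.1 (hEK y.2) _ hxV).symm
    have hcardE : Nat.card {x : E // x * x = 1} = 2 ^ d := by
      rw [← hcard]
      exact Nat.card_congr
        { toFun := fun x => ⟨(x.1 : G), (h.mem_iff _).2 (congrArg Subtype.val x.2)⟩
          invFun := fun v => ⟨⟨v.1, hVE v.2⟩, Subtype.ext (h.mul_self v.2)⟩
          left_inv := fun _ => rfl
          right_inv := fun _ => rfl }
    -- an element cycling the involutions
    obtain ⟨σ, e, -, he⟩ := CfsgLib.Perm.exists_coord (G := L) hα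
    obtain ⟨g, hg⟩ := σ.2
    refine no_perfect_central hperf hcen hd hp hcardE (MulAut.conjNormal g) ?_
    intro x y hx1 hx hy1 hy
    have hxV : (x : G) ∈ V := (h.mem_iff _).2 (congrArg Subtype.val hx)
    have hyV : (y : G) ∈ V := (h.mem_iff _).2 (congrArg Subtype.val hy)
    obtain ⟨i, hi⟩ := e.surjective ⟨x, hxV, fun e' => hx1 (Subtype.ext e')⟩
    obtain ⟨j, hj⟩ := e.surjective ⟨y, hyV, fun e' => hy1 (Subtype.ext e')⟩
    refine ⟨(j - i).val, Subtype.ext ?_⟩
    have h1 := he.pow_smul (j - i).val i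
    rw [ZMod.natCast_zmod_val, add_sub_cancel, hi, hj] at h1
    rw [← map_pow, MulAut.conjNormal_apply]
    have h2 := congrArg Subtype.val h1
    have hpow : ((σ ^ (j - i).val : L) : Equiv.Perm α) = φ (g ^ (j - i).val) := by
      rw [map_pow, SubmonoidClass.coe_pow, hg]
    rw [Subgroup.smul_def, hpow] at h2
    exact h2
  haveI := hLs
  haveI : Group.IsSolvable φ.rangeRestrict.ker := hker ▸ hKs
  exact Group.isSolvable_of_ker_le_range φ.rangeRestrict.ker.subtype φ.rangeRestrict (by
    rw [Subgroup.range_subtype])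

end CfsgLib.InvolNormal
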