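import Mathlib

/-!
# A non-solvable group with `q ^ 2` involutions forming one class

The group `F² ⋊ SL(2, F)`, `|F| = q` odd and greater than three.
-/

set_option autoImplicit false

namespace CfsgLib.InvolNormal.Counter

open Matrix

variable (F : Type) [Field F]

/-- The action of `SL(2, F)` on the plane. -/
def act : SpecialLinearGroup (Fin 2) F →* MulAut (Multiplicative (Fin 2 → F)) where
  toFun g :=
    { toFun := fun v => Multiplicative.ofAdd ((g : Matrix (Fin 2) (Fin 2) F) *ᵥ v.toAdd)
      invFun := fun v => Multiplicative.ofAdd (((g⁻¹ : SpecialLinearGroup (Fin 2) F) : Matrix (Fin 2) (Fin 2) F) *ᵥ v.toAdd)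
      left_inv := fun v => by
        simp only [toAdd_ofAdd, mulVec_mulVec]
        rw [show ((g⁻¹ : SpecialLinearGroup (Fin 2) F).1 * g.1 : Matrix (Fin 2) (Fin 2) F) = 1 from
          congrArg Subtype.val (inv_mul_cancel g)]
        rw [one_mulVec, ofAdd_toAdd]
      right_inv := fun v => by
        simp only [toAdd_ofAdd, mulVec_mulVec]
        rw [show (g.1 * (g⁻¹ : SpecialLinearGroup (Fin 2) F).1 : Matrix (Fin 2) (Fin 2) F) = 1 from
          congrArg Subtype.val (mul_inv_cancel g)]
        rw [one_mulVec, ofAdd_toAdd]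
      map_mul' := fun v w => by simp only [toAdd_mul, mulVec_add, ofAdd_add] }
  map_one' := by
    ext v
    simp
  map_mul' g h := by
    refine MulEquiv.ext fun v => ?_
    show Multiplicative.ofAdd ((g.1 * h.1 : Matrix (Fin 2) (Fin 2) F) *ᵥ v.toAdd) = _
    rw [← mulVec_mulVec]
    rfl

theorem act_apply (g : SpecialLinearGroup (Fin 2) F) (v : Multiplicative (Fin 2 → F)) :
    act F g v = Multiplicative.ofAdd ((g : Matrix (Fin 2) (Fin 2) F) *ᵥ v.toAdd) := rfl

/-- The group. -/
abbrev Grp : Type := Multiplicative (Fin 2 → F) ⋊[act F] SpecialLinearGroup (Fin 2) F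

variable {F}

theorem eq_one_or_neg_one (h2 : (2 : F) ≠ 0) (g : SpecialLinearGroup (Fin 2) F) (hg : g * g = 1) :
    g = 1 ∨ g = -1 := by
  have hinv : g⁻¹ = g := inv_eq_of_mul_eq_one_right hg
  have h : adjugate g.1 = g.1 := congrArg Subtype.val hinv
  rw [adjugate_fin_two] at h
  have h00 := congrFun (congrFun h 0) 0
  have h01 := congrFun (congrFun h 0) 1
  have h10 := congrFun (congrFun h 1) 0
  simp at h00 h01 h10
  have e01 : g.1 0 1 = 0 := (mul_left_cancel₀ h2 (by linear_combination h01 * (-1) : (2 : F) * g.1 0 1 = 2 * 0))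
  have e10 : g.1 1 0 = 0 := (mul_left_cancel₀ h2 (by linear_combination h10 * (-1) : (2 : F) * g.1 1 0 = 2 * 0))
  have hdet := g.2
  rw [det_fin_two, e01, h00, zero_mul, sub_zero] at hdet
  rcases mul_self_eq_one_iff.1 hdet with e | e
  · left
    ext i j
    fin_cases i <;> fin_cases j <;> simp_all
  · right
    ext i j
    fin_cases i <;> fin_cases j <;> simp_all

theorem neg_one_ne_one (h2 : (2 : F) ≠ 0) : (-1 : SpecialLinearGroup (Fin 2) F) ≠ 1 := by
  intro e
  have := congrFun (congrFun (congrArg (fun x : SpecialLinearGroup (Fin 2) F => (x : Matrix (Fin 2) (Fin 2) F)) e) 0) 0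
  simp at this
  exact h2 (by linear_combination this * (-1))

theorem mul_self_iff (h2 : (2 : F) ≠ 0) (x : Grp F) :
    orderOf x = 2 ↔ x.right = -1 := by
  constructor
  · intro hx
    have hxx : x * x = 1 := by
      have := pow_orderOf_eq_one x
      rwa [hx, pow_two] at this
    have hr : x.right * x.right = 1 := by rw [← SemidirectProduct.mul_right, hxx, SemidirectProduct.one_right]
    rcases eq_one_or_neg_one h2 _ hr with e | e
    · exfalso
      have hl := congrArg SemidirectProduct.left hxx
      rw [SemidirectProduct.mul_left, e, map_one, MulAut.one_apply, SemidirectProduct.one_left] at hl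
      have hl' : x.left.toAdd + x.left.toAdd = 0 := congrArg Multiplicative.toAdd hl
      have : x.left.toAdd = 0 := funext fun i => by
        have := congrFun hl' i
        simp only [Pi.add_apply, Pi.zero_apply] at this ⊢
        exact mul_left_cancel₀ h2 (by linear_combination this : (2 : F) * x.left.toAdd i = 2 * 0)
      have hx1 : x = 1 := SemidirectProduct.ext (Multiplicative.toAdd.injective this) e
      rw [hx1, orderOf_one] at hx
      omega
    · exact e
  · intro hx
    refine orderOf_eq_prime ?_ fun e => neg_one_ne_one h2 (by rw [← hx, e, SemidirectProduct.one_right])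
    rw [pow_two]
    refine SemidirectProduct.ext ?_ ?_
    · rw [SemidirectProduct.mul_left, hx, act_apply, SemidirectProduct.one_left]
      apply Multiplicative.toAdd.injective
      funext i
      simp [neg_mulVec, SpecialLinearGroup.coe_neg]
    · rw [SemidirectProduct.mul_right, hx, SemidirectProduct.one_right]
      simp

theorem card_involutions (h2 : (2 : F) ≠ 0) [Fintype F] :
    Nat.card {x : Grp F // orderOf x = 2} = Fintype.card F ^ 2 := by
  have e : {x : Grp F // orderOf x = 2} ≃ Multiplicative (Fin 2 → F) :=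
    { toFun := fun x => x.1.left
      invFun := fun v => ⟨⟨v, -1⟩, (mul_self_iff h2 _).2 rfl⟩
      left_inv := fun x => Subtype.ext (SemidirectProduct.ext rfl ((mul_self_iff h2 _).1 x.2).symm)
      right_inv := fun _ => rfl }
  rw [Nat.card_congr e, Nat.card_congr Multiplicative.toAdd, Nat.card_fun, Nat.card_fin,
    Nat.card_eq_fintype_card]

theorem one_class (h2 : (2 : F) ≠ 0) (x y : Grp F) (hx : orderOf x = 2) (hy : orderOf y = 2) :
    ∃ g : Grp F, g * x * g⁻¹ = y := by
  rw [mul_self_iff h2] at hx hy
  refine ⟨⟨Multiplicative.ofAdd ((2 : F)⁻¹ • (y.left.toAdd - x.left.toAdd)), 1⟩, ?_⟩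
  refine SemidirectProduct.ext ?_ ?_
  · apply Multiplicative.toAdd.injective
    simp [SemidirectProduct.mul_left, act_apply, hx, neg_mulVec, SpecialLinearGroup.coe_neg]
    funext i
    simp
    field_simp
    ring
  · simp [SemidirectProduct.mul_right, hx, hy]

theorem not_solvable [Fintype F] (h5 : 4 ≤ Fintype.card F) : ¬ Group.IsSolvable (Grp F) := by
  classical
  intro hG
  obtain ⟨a, ha0, ha⟩ : ∃ a : F, a ≠ 0 ∧ a ^ 2 ≠ 1 := by
    by_contra h
    push Not at h
    have hsub : (Finset.univ : Finset F) ⊆ {0, 1, -1} := fun a _ => by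
      by_cases h0 : a = 0
      · simp [h0]
      · rcases sq_eq_one_iff.1 (h a h0) with e | e <;> simp [e]
    have := (Finset.card_le_card hsub).trans Finset.card_le_three
    rw [Finset.card_univ] at this
    omega
  have hc := Matrix.SL2.commutator_eq_top ha0 ha
  haveI := hG
  have hs : Group.IsSolvable (SpecialLinearGroup (Fin 2) F) :=
    Group.isSolvable_of_surjective (SemidirectProduct.rightHom_surjective (φ := act F))
  have hds : ∀ n, derivedSeries (SpecialLinearGroup (Fin 2) F) n = ⊤ := by
    intro n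
    induction n with
    | zero => rfl
    | succ n ih => rw [derivedSeries_succ, ih]; exact hc
  obtain ⟨n, hn⟩ := (Group.isSolvable_def _).1 hs
  rw [hds] at hn
  haveI : Nontrivial (SpecialLinearGroup (Fin 2) F) := by
    refine ⟨⟨⟨!![1, 1; 0, 1], by simp⟩, 1, fun e => ?_⟩⟩
    have := congrFun (congrFun (congrArg Subtype.val e) 0) 1
    simp at this
  exact top_ne_bot hn

/-- The counterexample. -/
theorem exists_counterexample (p k : ℕ) (hp : p.Prime) (hp2 : p ≠ 2) (hk : 1 ≤ k) (hev : Even k)
    (h9 : p ^ k ≠ 9) : ∃ (G : Type) (_ : Group G) (_ : Finite G),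
      Nat.card {x : G // orderOf x = 2} = p ^ k ∧
      (∀ x y : G, orderOf x = 2 → orderOf y = 2 → ∃ g : G, g * x * g⁻¹ = y) ∧
      ¬ Group.IsSolvable G := by
  haveI := Fact.mk hp
  obtain ⟨j, rfl⟩ := hev
  set K := GaloisField p j
  haveI : Fintype K := Fintype.ofFinite K
  have hcard : Fintype.card K = p ^ j := by
    rw [← Nat.card_eq_fintype_card]; exact GaloisField.card p j (by omega)
  have h2 : (2 : K) ≠ 0 := by
    intro e
    exact hp2 ((Nat.prime_dvd_prime_iff_eq hp Nat.prime_two).1
      ((CharP.cast_eq_zero_iff K p 2).1 (by simpa using e)))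
  have hp3 : 3 ≤ p := lt_of_le_of_ne hp.two_le (Ne.symm hp2)
  have h5 : 4 ≤ p ^ j := by
    rcases eq_or_ne p 3 with rfl | h3
    · have : j ≠ 1 := fun e => h9 (by rw [e]; norm_num)
      calc 4 ≤ 3 ^ 2 := by norm_num
        _ ≤ _ := Nat.pow_le_pow_right (by norm_num) (by omega)
    · calc 4 ≤ p ^ 1 := by rw [pow_one]; omega
        _ ≤ _ := Nat.pow_le_pow_right hp.pos (by omega)
  haveI : Finite (Grp K) := Finite.of_equiv _ (SemidirectProduct.equivProd (φ := act K)).symm
  refine ⟨Grp K, inferInstance, inferInstance, ?_, one_class h2, not_solvable (hcard ▸ h5)⟩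
  rw [card_involutions h2, hcard, ← pow_mul, mul_two]

end CfsgLib.InvolNormal.Counter
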