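import Cfsg.Agent.Lib.InvolNormal.RigidCard

/-!
# Descent: `Two2` reduces to the rigid case
-/

set_option autoImplicit false

namespace CfsgLib.InvolNormal

open Subgroup

universe u

/-- The seven point statement. -/
def NoSeven : Prop :=
  ∀ (M : Type u) [Group M] [Finite M] (V : Subgroup M), InvV M V → Nat.card V = 8 → Two2 M V → False

/-- No group is transitive on ordered pairs of its at least three involutions, forming `V # `. -/
theorem no_two2 (hseven : NoSeven.{u}) : ∀ (n : ℕ) (G : Type u) [Group G] [Finite G] (V : Subgroup G),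
    Nat.card V = n → InvV G V → 4 ≤ n → Two2 G V → False := by
  intro n
  induction n using Nat.strong_induction_on with
  | _ n ih =>
  intro G _ _ V hn h h4 h2
  classical
  haveI := centralizer_normal h
  by_cases hrig : Rigid G V
  · exact hseven G V h (card_eq_eight h h2 hrig (hn ▸ h4)) h2
  unfold Rigid at hrig
  push Not at hrig
  obtain ⟨a, ha, b, hb, ha1, hb1, hab, r, hr, hr2, w, ⟨k, hk⟩, hwa, hwb, hwK⟩ := hrig
  haveI := Fact.mk hr
  -- a Sylow subgroup of the stabiliser
  let P : G → G → Subgroup G := fun c e => centralizer ({c, e} : Set G)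
  have hP : ∀ g c e, g ∈ P c e ↔ g * c = c * g ∧ g * e = e * g := fun g c e => by
    simp only [P, mem_centralizer_iff, Set.mem_insert_iff, Set.mem_singleton_iff, forall_eq_or_imp,
      forall_eq]
    exact and_congr ⟨Eq.symm, Eq.symm⟩ ⟨Eq.symm, Eq.symm⟩
  have hwP : w ∈ P a b := (hP w a b).2 ⟨hwa, hwb⟩
  obtain ⟨R, hR⟩ := (IsPGroup.of_card (p := r) (n := k)
    (G := zpowers (⟨w, hwP⟩ : P a b)) (by rw [Nat.card_zpowers, Subgroup.orderOf_mk, hk])).exists_le_sylow
  set R' : Subgroup G := (R : Subgroup (P a b)).map (P a b).subtype with hR'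
  have hR'P : R' ≤ P a b := map_subtype_le _
  have hwR : w ∈ R' := ⟨⟨w, hwP⟩, hR (mem_zpowers _), rfl⟩
  set N := normalizer (R' : Set G) with hN
  set X := V ⊓ centralizer (R' : Set G) with hX
  have haX : a ∈ X := mem_inf.2 ⟨ha, mem_centralizer_iff.2 fun y hy => ((hP y a b).1 (hR'P hy)).1⟩
  have hbX : b ∈ X := mem_inf.2 ⟨hb, mem_centralizer_iff.2 fun y hy => ((hP y a b).1 (hR'P hy)).2⟩
  have hXN : X ≤ N := inf_le_right.trans (centralizer_le_normalizer _)
  have hodd : Odd (Nat.card R') := by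
    obtain ⟨j, hj⟩ := IsPGroup.iff_card.1 R.isPGroup'
    rw [Subgroup.card_map_of_injective (P a b).subtype_injective, hj]
    exact (hr.odd_of_ne_two hr2).pow
  -- involutions normalising `R'` centralise it
  have hinv : ∀ v ∈ V, v ∈ N → v ∈ X := by
    intro v hv hvN
    refine mem_inf.2 ⟨hv, mem_centralizer_iff.2 fun y hy => ?_⟩
    have h1 : y * v * y⁻¹ * v⁻¹ ∈ V := mul_mem (h.conj_mem hv y) (inv_mem hv)
    have h1' : y * v * y⁻¹ * v⁻¹ ∈ R' := by
      rw [mul_assoc, mul_assoc, ← mul_assoc v]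
      exact mul_mem hy ((mem_normalizer_iff.1 hvN _).1 (inv_mem hy))
    have h3 : y * v * y⁻¹ * v⁻¹ = 1 := by
      have ho : orderOf (y * v * y⁻¹ * v⁻¹) ∣ Nat.card R' := by
        rw [← Subgroup.orderOf_mk _ h1']
        exact orderOf_dvd_natCard _
      have ho2 : orderOf (y * v * y⁻¹ * v⁻¹) ∣ 2 :=
        orderOf_dvd_of_pow_eq_one (by rw [pow_two]; exact h.mul_self h1)
      exact orderOf_eq_one_iff.1 (Nat.dvd_one.1
        (((Nat.coprime_two_left.2 hodd).gcd_eq_one) ▸ Nat.dvd_gcd ho2 ho))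
    rwa [mul_inv_eq_one, mul_inv_eq_iff_eq_mul] at h3
  set XN := X.subgroupOf N with hXNdef
  have hInv : InvV N XN := by
    have hiff : ∀ x : N, x ∈ XN ↔ x * x = 1 := fun x => by
      rw [hXNdef, mem_subgroupOf, Subtype.ext_iff]
      refine ⟨fun hx => h.mul_self (mem_inf.1 hx).1, fun hx => hinv _ ((h.mem_iff _).2 hx) x.2⟩
    refine ⟨⟨fun y hy g => (hiff _).2 ?_⟩, hiff⟩
    rw [conj_mul, (hiff y).1 hy, mul_one, mul_inv_cancel]
  -- the normaliser is transitive on pairs
  have hTwo : Two2 N XN := by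
    intro c hc e he c' hc' e' he' hc1 he1 hc1' he1' hce hce'
    have key : ∀ c' ∈ X, ∀ e' ∈ X, c' ≠ 1 → e' ≠ 1 → c' ≠ e' →
        ∃ m ∈ N, m * a * m⁻¹ = c' ∧ m * b * m⁻¹ = e' := by
      intro c' hc' e' he' hc1 he1 hne
      obtain ⟨m, hm1, hm2⟩ := h2 a ha b hb c' (mem_inf.1 hc').1 e' (mem_inf.1 he').1 ha1 hb1 hc1
        he1 hab hne
      have hconjP : ∀ y, y ∈ P a b → m * y * m⁻¹ ∈ P c' e' := by
        intro y hy
        obtain ⟨y1, y2⟩ := (hP y a b).1 hy
        rw [hP, ← hm1, ← hm2]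
        constructor
        · calc m * y * m⁻¹ * (m * a * m⁻¹) = m * (y * a) * m⁻¹ := by group
            _ = m * a * m⁻¹ * (m * y * m⁻¹) := by rw [y1]; group
        · calc m * y * m⁻¹ * (m * b * m⁻¹) = m * (y * b) * m⁻¹ := by group
            _ = m * b * m⁻¹ * (m * y * m⁻¹) := by rw [y2]; group
      have hR1 : R' ≤ P c' e' := fun y hy => by
        rw [hP]
        exact ⟨(mem_centralizer_iff.1 (mem_inf.1 hc').2 y hy), (mem_centralizer_iff.1 (mem_inf.1 he').2 y hy)⟩
      set R1 := R'.map (MulAut.conj m).toMonoidHom with hR1def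
      have hR2 : R1 ≤ P c' e' := by
        rintro _ ⟨y, hy, rfl⟩
        exact hconjP y (hR'P hy)
      have hPcard : Nat.card (P c' e') = Nat.card (P a b) := by
        have e1 : (P a b).map (MulAut.conj m).toMonoidHom = P c' e' := by
          refine le_antisymm (by rintro _ ⟨y, hy, rfl⟩; exact hconjP y hy) fun y hy => ?_
          obtain ⟨y1, y2⟩ := (hP y c' e').1 hy
          refine ⟨m⁻¹ * y * m, (hP _ a b).2 ⟨?_, ?_⟩, by
            show m * (m⁻¹ * y * m) * m⁻¹ = y
            group⟩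
          · calc m⁻¹ * y * m * a = m⁻¹ * (y * (m * a * m⁻¹)) * m := by group
              _ = a * (m⁻¹ * y * m) := by rw [hm1, y1, ← hm1]; group
          · calc m⁻¹ * y * m * b = m⁻¹ * (y * (m * b * m⁻¹)) * m := by group
              _ = b * (m⁻¹ * y * m) := by rw [hm2, y2, ← hm2]; group
        rw [← e1, Subgroup.card_map_of_injective (MulAut.conj m).injective]
      have hRcard : Nat.card R' = r ^ (Nat.card (P a b)).factorization r := by
        rw [Subgroup.card_map_of_injective (P a b).subtype_injective]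
        exact R.card_eq_multiplicity
      let S1 : Sylow r (P c' e') := Sylow.ofCard (R'.subgroupOf (P c' e')) (by
        rw [Nat.card_congr (Subgroup.subgroupOfEquivOfLe hR1).toEquiv, hRcard, hPcard])
      let S2 : Sylow r (P c' e') := Sylow.ofCard (R1.subgroupOf (P c' e')) (by
        rw [Nat.card_congr (Subgroup.subgroupOfEquivOfLe hR2).toEquiv, hR1def,
          Subgroup.card_map_of_injective (MulAut.conj m).injective, hRcard, hPcard])
      obtain ⟨⟨t, ht⟩, hts⟩ := MulAction.exists_smul_eq (P c' e') S2 S1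
      refine ⟨t * m, mem_normalizer_iff_map_conj_eq.2 ?_, ?_, ?_⟩
      · have h1 := congrArg (fun S : Sylow r (P c' e') =>
          (((S : Subgroup (P c' e')).map (P c' e').subtype : Subgroup G) : Set G)) hts
        simp only [Sylow.coe_subgroup_smul, Subgroup.coe_map, Subgroup.coe_pointwise_smul] at h1
        rw [show ((S1 : Subgroup (P c' e')) : Set (P c' e')) = Subtype.val ⁻¹' (R' : Set G) from rfl,
          show ((S2 : Subgroup (P c' e')) : Set (P c' e')) = Subtype.val ⁻¹' (R1 : Set G) from rfl,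
          ← Set.image_smul, Set.image_image] at h1
        refine SetLike.coe_injective ?_
        rw [Subgroup.coe_map]
        ext y
        constructor
        · rintro ⟨z, hz, rfl⟩
          have hmem : (MulAut.conj m) z ∈ R1 := ⟨z, hz, rfl⟩
          have h3 : t * (m * z * m⁻¹) * t⁻¹ ∈ (fun x : P c' e' =>
              (P c' e').subtype (MulAut.conj (⟨t, ht⟩ : P c' e') • x)) ''
              (Subtype.val ⁻¹' (R1 : Set G)) :=
            ⟨⟨m * z * m⁻¹, hR2 hmem⟩, hmem, rfl⟩
          rw [h1] at h3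
          obtain ⟨⟨q, hqP⟩, hq, hq'⟩ := h3
          simp only [Subgroup.coe_subtype] at hq'
          show (t * m) * z * (t * m)⁻¹ ∈ R'
          rw [show t * m * z * (t * m)⁻¹ = t * (m * z * m⁻¹) * t⁻¹ by group, ← hq']
          exact hq
        · intro hy
          have h3 : y ∈ (P c' e').subtype '' (Subtype.val ⁻¹' (R' : Set G)) :=
            ⟨⟨y, hR1 hy⟩, hy, rfl⟩
          rw [← h1] at h3
          obtain ⟨⟨q, hqP⟩, ⟨z, hz, hzq⟩, hq'⟩ := h3
          refine ⟨z, hz, ?_⟩
          rw [← hq']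
          show (t * m) * z * (t * m)⁻¹ = t * q * t⁻¹
          rw [← show m * z * m⁻¹ = q from hzq]
          group
      · obtain ⟨t1, -⟩ := (hP t c' e').1 ht
        calc t * m * a * (t * m)⁻¹ = t * (m * a * m⁻¹) * t⁻¹ := by group
          _ = c' := by rw [hm1, t1, mul_inv_cancel_right]
      · obtain ⟨-, t2⟩ := (hP t c' e').1 ht
        calc t * m * b * (t * m)⁻¹ = t * (m * b * m⁻¹) * t⁻¹ := by group
          _ = e' := by rw [hm2, t2, mul_inv_cancel_right]
    obtain ⟨m, hm, hm1, hm2⟩ := key c hc e he (fun x => hc1 (Subtype.ext x))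
      (fun x => he1 (Subtype.ext x)) (fun x => hce (Subtype.ext x))
    obtain ⟨m', hm', hm1', hm2'⟩ := key c' hc' e' he' (fun x => hc1' (Subtype.ext x))
      (fun x => he1' (Subtype.ext x)) (fun x => hce' (Subtype.ext x))
    refine ⟨⟨m' * m⁻¹, mul_mem hm' (inv_mem hm)⟩, Subtype.ext ?_, Subtype.ext ?_⟩
    · show m' * m⁻¹ * (c : G) * (m' * m⁻¹)⁻¹ = c'
      rw [← hm1, ← hm1']; group
    · show m' * m⁻¹ * (e : G) * (m' * m⁻¹)⁻¹ = e'
      rw [← hm2, ← hm2']; group
  -- the new subgroup is smaller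
  have hXV : X < V := by
    refine lt_of_le_of_ne inf_le_left fun e => hwK (mem_centralizer_iff.2 fun v hv => ?_)
    have hvX : v ∈ X := e.symm ▸ hv
    exact (mem_centralizer_iff.1 (mem_inf.1 hvX).2 w hwR).symm
  have hcard : Nat.card XN = Nat.card X :=
    Nat.card_congr (Subgroup.subgroupOfEquivOfLe hXN).toEquiv
  have hlt : Nat.card XN < n := by
    rw [hcard, ← hn]
    refine lt_of_le_of_ne (Subgroup.card_le_of_le hXV.le) fun e => hXV.ne ?_
    exact Subgroup.eq_of_le_of_card_ge hXV.le e.ge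
  have hge : 4 ≤ Nat.card XN := by
    rw [hcard]
    have habX : a * b ∈ X := mul_mem haX hbX
    have hab1 : a * b ≠ 1 := fun e => hab (by
      rw [mul_eq_one_iff_eq_inv.1 e, h.inv_eq hb])
    have : Function.Injective ![(⟨1, one_mem X⟩ : X), ⟨a, haX⟩, ⟨b, hbX⟩, ⟨a * b, habX⟩] := by
      intro i j hij
      fin_cases i <;> fin_cases j <;>
        simp_all [Subtype.ext_iff, eq_comm (a := (1 : G))]
    simpa using Nat.card_le_card_of_injective _ this
  exact ih _ hlt N XN rfl hInv hge hTwo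

end CfsgLib.InvolNormal
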