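import Mathlib

/-!
# An inverted automorphism with one fixed point

On a finite group of exponent two, let `σ` have odd order with exactly one non-trivial fixed point
`c`, and let the involutory `τ` invert it. Then the fixed points of `τ` are `I ∪ c I`, where `I` is
the image of `a ↦ τ a * a`.
-/

set_option autoImplicit false

namespace CfsgLib.InvolNormal

variable {A : Type*} [CommGroup A]

/-- The map `a ↦ σ a * a`. -/
def diffHom (σ : MulAut A) : A →* A where
  toFun a := σ a * a
  map_one' := by simp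
  map_mul' a b := by rw [map_mul, mul_mul_mul_comm]

@[simp] theorem diffHom_apply (σ : MulAut A) (a : A) : diffHom σ a = σ a * a := rfl

theorem mem_ker_diffHom (hA : ∀ a : A, a * a = 1) (σ : MulAut A) (a : A) :
    a ∈ (diffHom σ).ker ↔ σ a = a := by
  rw [MonoidHom.mem_ker, diffHom_apply, mul_eq_one_iff_eq_inv, inv_eq_of_mul_eq_one_right (hA a)]

theorem free_of_inverted [Finite A] (hA : ∀ a : A, a * a = 1) (σ τ : MulAut A) {r : ℕ} (hr : Odd r)
    (hσ : σ ^ r = 1) (hτ : τ * τ = 1) (hinv : τ * σ * τ⁻¹ = σ⁻¹) {c : A} (hc1 : c ≠ 1)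
    (hσc : σ c = c) (hfix : ∀ a, σ a = a → a = 1 ∨ a = c) :
    τ c = c ∧ c ∉ (diffHom τ).range ∧ Nat.card A = 2 * Nat.card (diffHom τ).range ^ 2 := by
  classical
  have hinvA : ∀ a : A, a⁻¹ = a := fun a => inv_eq_of_mul_eq_one_right (hA a)
  have hττ : ∀ a, τ (τ a) = a := fun a => by
    have := DFunLike.congr_fun hτ a
    simpa using this
  have hσinv : σ⁻¹ c = c := by
    conv_lhs => rw [← hσc]
    simp
  have hτσ : ∀ a, τ (σ a) = σ⁻¹ (τ a) := fun a => by
    have h1 : τ * σ = σ⁻¹ * τ := by rw [← hinv]; group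
    simpa using DFunLike.congr_fun h1 a
  have hτσ' : ∀ a, τ (σ⁻¹ a) = σ (τ a) := fun a => by
    have h2 := hτσ (σ⁻¹ a)
    rw [MulAut.apply_inv_self] at h2
    rw [h2, MulAut.apply_inv_self]
  have hτc : τ c = c := by
    have h1 : σ⁻¹ (τ c) = τ c := by rw [← hτσ, hσc]
    have h2 : σ (τ c) = τ c := by
      conv_lhs => rw [← h1]
      simp
    rcases hfix _ h2 with h | h
    · exact absurd (τ.injective (h.trans (map_one τ).symm)) hc1
    · exact h
  set E := (diffHom σ).range with hE
  -- the fixed point is not of the form `σ a * a`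
  have hcE : c ∉ E := by
    rintro ⟨a, ha⟩
    rw [diffHom_apply] at ha
    have h1 : σ a = a * c := by
      rw [← ha, mul_comm a, mul_assoc, hA, mul_one]
    have h2 : ∀ i : ℕ, (σ ^ i) a = a * c ^ i := by
      intro i
      induction i with
      | zero => simp
      | succ i ih => rw [pow_succ', MulAut.mul_apply, ih, map_mul, map_pow, hσc, h1, pow_succ', mul_assoc]
    have h3 := h2 r
    obtain ⟨m, hm⟩ := hr
    rw [hσ, hm, pow_succ, pow_mul, pow_two, hA, one_pow, one_mul, MulAut.one_apply] at h3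
    exact hc1 (left_eq_mul.1 h3)
  have hkerσ : ((diffHom σ).ker : Set A) = {1, c} := by
    ext a
    simp only [SetLike.mem_coe, mem_ker_diffHom hA, Set.mem_insert_iff, Set.mem_singleton_iff]
    refine ⟨hfix a, ?_⟩
    rintro (rfl | rfl)
    · exact map_one σ
    · exact hσc
  have hcardE : Nat.card A = 2 * Nat.card E := by
    have h1 := Subgroup.card_mul_index (diffHom σ).ker
    rw [Subgroup.index_ker] at h1
    have h2 : Nat.card (diffHom σ).ker = 2 := by
      rw [show Nat.card (diffHom σ).ker = ((diffHom σ).ker : Set A).ncard from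
        (Nat.card_coe_set_eq _), hkerσ, Set.ncard_pair (Ne.symm hc1)]
    rw [← h1, h2]
  -- every element is `e` or `c * e` with `e ∈ E`
  have hdec : ∀ a : A, a ∈ E ∨ c * a ∈ E := by
    have hidx : E.index = 2 := by
      have h1 := Subgroup.card_mul_index E
      rw [hcardE, mul_comm] at h1
      exact Nat.eq_of_mul_eq_mul_right Nat.card_pos h1
    intro a
    by_cases ha : a ∈ E
    · exact Or.inl ha
    · exact Or.inr ((Subgroup.mul_mem_iff_of_index_two hidx).2 (iff_of_false hcE ha))
  -- `τ` and `σ` stabilise `E`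
  have hσE : ∀ e ∈ E, σ e ∈ E := by
    rintro _ ⟨a, rfl⟩
    exact ⟨σ a, by simp⟩
  have hσiE : ∀ e ∈ E, σ⁻¹ e ∈ E := by
    rintro _ ⟨a, rfl⟩
    exact ⟨σ⁻¹ a, by simp⟩
  have hτE : ∀ e ∈ E, τ e ∈ E := by
    rintro _ ⟨a, rfl⟩
    refine ⟨σ⁻¹ (τ a), ?_⟩
    simp only [diffHom_apply, map_mul, hτσ, MulAut.apply_inv_self]
    rw [mul_comm]
  set I := (diffHom τ).range with hI
  have hIE : ∀ y ∈ I, y ∈ E := by
    rintro _ ⟨a, rfl⟩
    rcases hdec a with h | h
    · exact mul_mem (hτE a h) h
    · have h1 := mul_mem (hτE _ h) h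
      rw [map_mul, hτc, mul_mul_mul_comm, hA, one_mul] at h1
      exact h1
  -- a fixed point of `τ` in `E` lies in `I`
  have hfixI : ∀ y ∈ E, τ y = y → y ∈ I := by
    intro y hy hty
    let φ : E → E := fun z => ⟨σ z * σ⁻¹ z, mul_mem (hσE _ z.2) (hσiE _ z.2)⟩
    have hφ : Function.Injective φ := by
      intro z₁ z₂ hz
      have hz' : σ (z₁ : A) * σ⁻¹ z₁ = σ z₂ * σ⁻¹ z₂ := congrArg Subtype.val hz
      set d : A := (z₁ : A) * z₂ with hd
      have hdE : d ∈ E := mul_mem z₁.2 z₂.2
      have h1 : σ d * σ⁻¹ d = 1 := by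
        rw [hd, map_mul, map_mul, mul_mul_mul_comm, hz', hA]
      have h2 : σ d = σ⁻¹ d := by rw [mul_eq_one_iff_eq_inv.1 h1, hinvA]
      have h3 : (σ ^ 2) d = d := by rw [pow_two, MulAut.mul_apply, h2, MulAut.apply_inv_self]
      have h4 : ∀ i : ℕ, (σ ^ (2 * i)) d = d := by
        intro i
        induction i with
        | zero => simp
        | succ i ih => rw [mul_add, mul_one, pow_add, MulAut.mul_apply, h3, ih]
      obtain ⟨m, hm⟩ := hr
      have h5 : σ d = d := by
        have h6 : (σ ^ (2 * (m + 1))) d = σ d := by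
          rw [show 2 * (m + 1) = r + 1 by omega, pow_add, hσ, one_mul, pow_one]
        rw [← h6, h4]
      rcases hfix d h5 with h | h
      · exact Subtype.ext (by rwa [mul_eq_one_iff_eq_inv, hinvA] at h)
      · exact absurd (h ▸ hdE) hcE
    obtain ⟨z, hz⟩ := (Finite.injective_iff_surjective.1 hφ) ⟨y, hy⟩
    have hzy : σ (z : A) * σ⁻¹ z = y := congrArg Subtype.val hz
    have htz : τ (z : A) = z := by
      have h1 : φ ⟨τ z, hτE _ z.2⟩ = φ z := Subtype.ext (by
        show σ (τ (z : A)) * σ⁻¹ (τ z) = σ z * σ⁻¹ z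
        rw [← hτσ', ← hτσ, ← map_mul, mul_comm, hzy, hty])
      exact congrArg Subtype.val (hφ h1)
    exact ⟨σ z, by rw [diffHom_apply, hτσ, htz, mul_comm, hzy]⟩
  have hcI : c ∉ I := fun h => hcE (hIE c h)
  refine ⟨hτc, hcI, ?_⟩
  have hkerτ : ((diffHom τ).ker : Set A) = (I : Set A) ∪ (fun y => c * y) '' (I : Set A) := by
    ext a
    simp only [SetLike.mem_coe, mem_ker_diffHom hA, Set.mem_union, Set.mem_image]
    constructor
    · intro ha
      rcases hdec a with h | h
      · exact Or.inl (hfixI a h ha)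
      · exact Or.inr ⟨c * a, hfixI _ h (by rw [map_mul, hτc, ha]), by rw [← mul_assoc, hA, one_mul]⟩
    · have hf : ∀ y ∈ I, τ y = y := by
        rintro _ ⟨b, rfl⟩
        rw [diffHom_apply, map_mul, hττ, mul_comm]
      rintro (h | ⟨y, hy, rfl⟩)
      · exact hf a h
      · rw [map_mul, hτc, hf y hy]
  have hker : Nat.card (diffHom τ).ker = 2 * Nat.card I := by
    rw [show Nat.card (diffHom τ).ker = ((diffHom τ).ker : Set A).ncard from Nat.card_coe_set_eq _,
      hkerτ, Set.ncard_union_eq ?_ (Set.toFinite _) (Set.toFinite _),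
      Set.ncard_image_of_injective _ (mul_right_injective c), show Nat.card I = (I : Set A).ncard
        from Nat.card_coe_set_eq _, two_mul]
    rw [Set.disjoint_left]
    rintro _ h ⟨y, hy, rfl⟩
    exact hcI ((Subgroup.mul_mem_cancel_right I hy).1 h)
  have h1 := Subgroup.card_mul_index (diffHom τ).ker
  rw [Subgroup.index_ker, hker] at h1
  rw [← h1, ← hI]
  ring

end CfsgLib.InvolNormal
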