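import Cfsg.Agent.Lib.Chars.Burnside
import Cfsg.Agent.Lib.FT.OddOrderTheorem

/-!
# Index of the fixed points of a central involution in a perfect subgroup

If a perfect group containing the central involution `t` acts on a group `O` of odd order, then the
index of the fixed points of `t` is a square different from nine.
-/

set_option autoImplicit false
set_option linter.style.haveILetI false

namespace CfsgLib.InvolNormal

open scoped commutatorElement

universe u v

theorem eq_of_sq_mul {a b : ℕ} (ha : IsSquare a) (hb : IsSquare b) (ha9 : a ≠ 9) (hb9 : b ≠ 9) :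
    a * b ≠ 9 := by
  intro h
  have h1 : a ∈ Nat.divisors 9 := Nat.mem_divisors.2 ⟨⟨b, h.symm⟩, by norm_num⟩
  rw [show Nat.divisors 9 = {1, 3, 9} by decide] at h1
  simp only [Finset.mem_insert, Finset.mem_singleton] at h1
  rcases h1 with rfl | rfl | rfl
  · exact hb9 (by omega)
  · obtain ⟨c, hc⟩ := ha
    rcases lt_or_ge c 2 with hc2 | hc2
    · interval_cases c <;> omega
    · nlinarith
  · exact ha9 rfl

/-- A perfect group acting on a nine element elementary group acts trivially. -/
theorem trivial_of_perfect {E : Type u} [Group E] (hE : commutator E = ⊤) {H : Type v} [Group H]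
    (hH : Group.IsSolvable H) (f : E →* H) : f = 1 := by
  have h : ∀ n, (⊤ : Subgroup E).map f ≤ derivedSeries H n := by
    intro n
    induction n with
    | zero => exact le_top
    | succ n ih =>
      rw [derivedSeries_succ]
      calc (⊤ : Subgroup E).map f = ⁅(⊤ : Subgroup E).map f, (⊤ : Subgroup E).map f⁆ := by
            rw [← Subgroup.map_commutator, ← commutator_def, hE]
        _ ≤ _ := Subgroup.commutator_mono ih ih
  obtain ⟨n, hn⟩ := (Group.isSolvable_def H).1 hH
  ext x
  have := h n ⟨x, trivial, rfl⟩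
  rw [hn, Subgroup.mem_bot] at this
  simpa using this

/-- The elementary abelian case, additively. -/
theorem card_antifixed_add {E : Type u} [Group E] [Finite E] (hE : commutator E = ⊤) {t : E}
    {r : ℕ} [Fact r.Prime] (hr2 : r ≠ 2) {M : Type v} [AddCommGroup M] [Module (ZMod r) M] [Finite M]
    (ψ : E → M →+ M) (h1 : ∀ a, ψ 1 a = a) (hmul : ∀ e f a, ψ (e * f) a = ψ e (ψ f a))
    (hneg : ∀ a, ψ t a = -a) : IsSquare (Nat.card M) ∧ Nat.card M ≠ 9 := by
  classical
  have hr : r.Prime := Fact.out
  let L : E →* Module.End (ZMod r) M :=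
    { toFun := fun e => (ψ e).toZModLinearMap r
      map_one' := LinearMap.ext fun a => h1 a
      map_mul' := fun e f => LinearMap.ext fun a => hmul e f a }
  have hdetE : ∀ (f : E →* ZMod r) (e : E), f e = 1 := by
    intro f e
    have h1 := trivial_of_perfect hE (Group.isSolvable_of_comm (fun a b : (ZMod r)ˣ => mul_comm a b))
      f.toHomUnits
    have := congrArg Units.val (DFunLike.congr_fun h1 e)
    simpa using this
  have hLt : L t = (-1 : ZMod r) • LinearMap.id := by
    ext a
    simp only [LinearMap.smul_apply, LinearMap.id_apply, neg_smul, one_smul]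
    exact hneg a
  haveI : Module.Finite (ZMod r) M := Module.Finite.of_finite
  have hdim : Even (Module.finrank (ZMod r) M) := by
    have h1 := hdetE (LinearMap.det.comp L) t
    rw [MonoidHom.comp_apply, hLt, LinearMap.det_smul, LinearMap.det_id, mul_one] at h1
    by_contra hodd
    rw [(Nat.not_even_iff_odd.1 hodd).neg_one_pow] at h1
    have h2 : ((2 : ℕ) : ZMod r) = 0 := by
      push_cast
      linear_combination -h1
    exact hr2 ((Nat.prime_dvd_prime_iff_eq hr Nat.prime_two).1
      ((CharP.cast_eq_zero_iff (ZMod r) r 2).1 h2))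
  have hcard : Nat.card M = r ^ Module.finrank (ZMod r) M := by
    rw [Module.natCard_eq_pow_finrank (K := ZMod r), Nat.card_zmod]
  refine ⟨hcard ▸ hdim.isSquare_pow r, fun h9 => ?_⟩
  -- a plane over three elements
  have hr3 : r = 3 := by
    have hrd : r ∣ 9 := by
      rw [← h9, hcard]
      refine dvd_pow_self r fun e => ?_
      rw [hcard, e, pow_zero] at h9
      omega
    have := (Nat.mem_divisors.2 ⟨hrd, by norm_num⟩ : r ∈ Nat.divisors 9)
    rw [show Nat.divisors 9 = {1, 3, 9} by decide] at this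
    simp only [Finset.mem_insert, Finset.mem_singleton] at this
    rcases this with rfl | rfl | rfl
    · exact absurd hr Nat.not_prime_one
    · rfl
    · exact absurd hr (by decide)
  subst hr3
  have hd2 : Module.finrank (ZMod 3) M = 2 :=
    Nat.pow_right_injective (le_of_lt (by norm_num : 2 < 3))
      (show 3 ^ Module.finrank (ZMod 3) M = 3 ^ 2 by rw [← hcard, h9])
  have hsolv : Group.IsSolvable (GL (Fin 2) (ZMod 3)) := by
    refine CfsgLib.Chars.isSolvable_of_primeFactors_pair 2 3 fun s hs hdvd => ?_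
    have h48 : Nat.card (GL (Fin 2) (ZMod 3)) = 48 := by
      rw [Matrix.card_GL_field]
      simp [Fin.prod_univ_two]
    rw [h48, show (48 : ℕ) = 2 ^ 4 * 3 by norm_num] at hdvd
    rcases (Nat.Prime.dvd_mul hs).1 hdvd with h | h
    · exact Or.inl ((Nat.prime_dvd_prime_iff_eq hs Nat.prime_two).1 (hs.dvd_of_dvd_pow h))
    · exact Or.inr ((Nat.prime_dvd_prime_iff_eq hs Nat.prime_three).1 h)
  let b := Module.finBasisOfFinrankEq (ZMod 3) M hd2
  let f : E →* Matrix (Fin 2) (Fin 2) (ZMod 3) :=
    (LinearMap.toMatrixAlgEquiv b).toAlgHom.toRingHom.toMonoidHom.comp L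
  have h2 := trivial_of_perfect hE hsolv f.toHomUnits
  have h2' : f t = 1 := by
    have := congrArg Units.val (DFunLike.congr_fun h2 t)
    simpa using this
  have h3 : L t = 1 := (LinearMap.toMatrixAlgEquiv b).injective (by
    rw [map_one]; exact h2')
  haveI : Nontrivial M := Finite.one_lt_card_iff_nontrivial.1 (by omega)
  obtain ⟨a, ha⟩ := exists_ne (0 : M)
  have h5 : ψ t a = a := LinearMap.congr_fun h3 a
  rw [hneg] at h5
  have h6 : (2 : ZMod 3) • a = 0 := by
    rw [two_smul]
    exact (congrArg (· + a) h5).symm.trans (neg_add_cancel a)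
  refine ha ((smul_eq_zero.1 h6).resolve_left fun e => ?_)
  have := (CharP.cast_eq_zero_iff (ZMod 3) 3 2).1 (by exact_mod_cast e)
  omega

/-- The elementary abelian case. -/
theorem card_antifixed {E : Type u} [Group E] [Finite E] (hE : commutator E = ⊤) {t : E}
    {r : ℕ} (hr : r.Prime) (hr2 : r ≠ 2) {A : Type v} [CommGroup A] [Finite A]
    (hA : ∀ a : A, a ^ r = 1) (φ : E →* MulAut A) (hneg : ∀ a, φ t a = a⁻¹) :
    IsSquare (Nat.card A) ∧ Nat.card A ≠ 9 := by
  haveI := Fact.mk hr
  letI : Module (ZMod r) (Additive A) := AddCommGroup.zmodModule fun a => by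
    rw [← toMul_eq_one, toMul_nsmul]
    exact hA _
  have h := card_antifixed_add (r := r) hE hr2 (M := Additive A) (t := t)
    (fun e => AddMonoidHom.mk' (fun a => Additive.ofMul (φ e a.toMul)) fun a b => by
      show Additive.ofMul (φ e (a.toMul * b.toMul)) = Additive.ofMul (φ e a.toMul * φ e b.toMul)
      rw [map_mul])
    (fun a => by
      show Additive.ofMul (φ 1 a.toMul) = a
      rw [map_one]; rfl)
    (fun e f a => by
      show Additive.ofMul (φ (e * f) a.toMul) = Additive.ofMul (φ e (φ f a.toMul))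
      rw [map_mul]; rfl)
    (fun a => by
      show Additive.ofMul (φ t a.toMul) = -a
      rw [hneg]; rfl)
  exact h

/-- The fixed subgroup of an automorphism. -/
def fixedSub {O : Type v} [Group O] (τ : MulAut O) : Subgroup O :=
  τ.toMonoidHom.eqLocus (MonoidHom.id O)

theorem mem_fixedSub {O : Type v} [Group O] {τ : MulAut O} {x : O} : x ∈ fixedSub τ ↔ τ x = x :=
  Iff.rfl

theorem index_fixed_aux {E : Type u} [Group E] [Finite E] (hE : commutator E = ⊤) {t : E}
    (htc : ∀ e : E, e * t = t * e) (htt : t * t = 1) :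
    ∀ (n : ℕ) (O : Type v) [Group O] [Finite O], Nat.card O = n → Odd n → ∀ φ : E →* MulAut O,
      IsSquare (fixedSub (φ t)).index ∧ (fixedSub (φ t)).index ≠ 9 := by
  intro n
  induction n using Nat.strong_induction_on with
  | _ n ih =>
  intro O _ _ hn hodd φ
  classical
  by_cases hO1 : n = 1
  · haveI : Subsingleton O := (Nat.card_eq_one_iff_unique.1 (hn.trans hO1)).1
    rw [Subsingleton.elim (fixedSub (φ t)) ⊤, Subgroup.index_top]
    exact ⟨IsSquare.one, by norm_num⟩
  have hOs : Group.IsSolvable O := CfsgLib.FT.isSolvable_of_odd (hn ▸ hodd)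
  -- the last term of the derived series
  obtain ⟨m, hm⟩ := (Group.isSolvable_def O).1 hOs
  have hex : ∃ m, derivedSeries O m = ⊥ := ⟨m, hm⟩
  have h0 : Nat.find hex ≠ 0 := by
    intro e
    have := Nat.find_spec hex
    rw [e, derivedSeries_zero] at this
    exact hO1 (by rw [← hn, ← Subgroup.card_top, this, Subgroup.card_bot])
  obtain ⟨i, hi⟩ := Nat.exists_eq_succ_of_ne_zero h0
  set D := derivedSeries O i with hD
  have hDbot : D ≠ ⊥ := Nat.find_min hex (by omega)
  have hDab : ∀ a ∈ D, ∀ b ∈ D, a * b = b * a := by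
    intro a ha b hb
    rw [← commutatorElement_eq_one_iff_mul_comm, ← Subgroup.mem_bot]
    have h1 := Nat.find_spec hex
    rw [hi, derivedSeries_succ] at h1
    rw [← h1]
    exact Subgroup.commutator_mem_commutator ha hb
  set r := (Nat.card D).minFac with hrdef
  have hDone : Nat.card D ≠ 1 := fun e => hDbot (Subgroup.card_eq_one.1 e)
  have hr : r.Prime := Nat.minFac_prime hDone
  haveI := Fact.mk hr
  have hr2 : r ≠ 2 := by
    intro e
    have h1 : 2 ∣ Nat.card O := (e ▸ Nat.minFac_dvd (Nat.card D) : 2 ∣ Nat.card D).trans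
      (Subgroup.card_subgroup_dvd_card D)
    rw [hn] at h1
    exact Nat.not_even_iff_odd.2 hodd (even_iff_two_dvd.2 h1)
  let A : Subgroup O :=
    { carrier := {x | x ∈ D ∧ x ^ r = 1}
      one_mem' := ⟨one_mem _, one_pow r⟩
      mul_mem' := fun {a b} ha hb => ⟨mul_mem ha.1 hb.1, by
        rw [Commute.mul_pow (hDab a ha.1 b hb.1), ha.2, hb.2, one_mul]⟩
      inv_mem' := fun {a} ha => ⟨inv_mem ha.1, by rw [inv_pow, ha.2, inv_one]⟩ }
  have hAinv : ∀ (f : MulAut O) (a : O), a ∈ A → f a ∈ A := by
    rintro f a ⟨ha, har⟩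
    haveI : D.Characteristic := by rw [hD]; exact derivedSeries_characteristic O i
    refine ⟨?_, by rw [← map_pow, har, map_one]⟩
    have := Subgroup.characteristic_iff_map_eq.1 ‹D.Characteristic› f
    exact this ▸ Subgroup.mem_map_of_mem f.toMonoidHom ha
  haveI hAn : A.Normal := ⟨fun a ha g => hAinv (MulAut.conj g) a ha⟩
  have hAbot : A ≠ ⊥ := by
    obtain ⟨⟨x, hxD⟩, hx⟩ := exists_prime_orderOf_dvd_card' r (Nat.minFac_dvd (Nat.card D))
    intro e
    have hxA : x ∈ A := ⟨hxD, by
      rw [Subgroup.orderOf_mk] at hx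
      rw [← hx, pow_orderOf_eq_one]⟩
    rw [e, Subgroup.mem_bot] at hxA
    rw [Subgroup.orderOf_mk, hxA, orderOf_one] at hx
    exact hr.one_lt.ne hx
  have hmap : ∀ f : MulAut O, A.map f.toMonoidHom = A := fun f =>
    le_antisymm (by rintro _ ⟨a, ha, rfl⟩; exact hAinv f a ha)
      (fun a ha => ⟨f⁻¹ a, hAinv f⁻¹ a ha, MulAut.apply_inv_self O f a⟩)
  -- the action on `A` and on `O ⧸ A`
  let φA : E →* MulAut A :=
    { toFun := fun e => ((φ e).subgroupMap A).trans (MulEquiv.subgroupCongr (hmap (φ e)))
      map_one' := MulEquiv.ext fun x => Subtype.ext (by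
        show φ 1 (x : O) = x
        rw [map_one]; rfl)
      map_mul' := fun a b => MulEquiv.ext fun x => Subtype.ext (by
        show φ (a * b) (x : O) = φ a (φ b x)
        rw [map_mul]; rfl) }
  let φQ : E →* MulAut (O ⧸ A) :=
    { toFun := fun e => QuotientGroup.congr A A (φ e) (hmap (φ e))
      map_one' := MulEquiv.ext fun q => by
        obtain ⟨q, rfl⟩ := QuotientGroup.mk_surjective q; simp
      map_mul' := fun a b => MulEquiv.ext fun q => by
        obtain ⟨q, rfl⟩ := QuotientGroup.mk_surjective q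
        show QuotientGroup.mk (φ (a * b) q) = QuotientGroup.mk (φ a (φ b q))
        rw [map_mul]; rfl }
  set τ := φ t with hτ
  have hττ : ∀ x, τ (τ x) = x := fun x => by
    rw [← MulAut.mul_apply, hτ, ← map_mul, htt, map_one, MulAut.one_apply]
  letI : CommGroup A := { (inferInstance : Group A) with
    mul_comm := fun a b => Subtype.ext (hDab a a.2.1 b b.2.1) }
  -- the antifixed part
  let Am : Subgroup A :=
    { carrier := {a | φA t a = a⁻¹}
      one_mem' := by simp
      mul_mem' := fun {a b} ha hb => by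
        show φA t (a * b) = (a * b)⁻¹
        rw [map_mul, ha, hb, mul_inv]
      inv_mem' := fun {a} ha => by
        show φA t a⁻¹ = a⁻¹⁻¹
        rw [map_inv, ha] }
  have hAmmap : ∀ (e : E) (a : A), a ∈ Am → φA e a ∈ Am := by
    intro e a ha
    show φA t (φA e a) = (φA e a)⁻¹
    rw [← MulAut.mul_apply, ← map_mul, ← htc, map_mul, MulAut.mul_apply, ha, map_inv]
  have hAmeq : ∀ e : E, Am.map (φA e).toMonoidHom = Am := fun e =>
    le_antisymm (by rintro _ ⟨a, ha, rfl⟩; exact hAmmap e a ha)
      (fun a ha => ⟨φA e⁻¹ a, hAmmap e⁻¹ a ha, by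
        show φA e (φA e⁻¹ a) = a
        rw [map_inv, MulAut.apply_inv_self]⟩)
  let φm : E →* MulAut Am :=
    { toFun := fun e => ((φA e).subgroupMap Am).trans (MulEquiv.subgroupCongr (hAmeq e))
      map_one' := MulEquiv.ext fun x => Subtype.ext (by
        show φA 1 (x : A) = x
        rw [map_one]; rfl)
      map_mul' := fun a b => MulEquiv.ext fun x => Subtype.ext (by
        show φA (a * b) (x : A) = φA a (φA b x)
        rw [map_mul]; rfl) }
  have hAr : ∀ a : A, a ^ r = 1 := fun a => Subtype.ext a.2.2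
  obtain ⟨hsA, h9A⟩ := card_antifixed hE hr hr2 (A := Am) (t := t)
    (fun a => Subtype.ext (hAr a)) φm (fun a => Subtype.ext a.2)
  -- the quotient
  have hlt : Nat.card (O ⧸ A) < n := by
    rw [← hn, Subgroup.card_eq_card_quotient_mul_card_subgroup A]
    exact lt_mul_of_one_lt_right Nat.card_pos ((Subgroup.one_lt_card_iff_ne_bot A).2 hAbot)
  have hoddQ : Odd (Nat.card (O ⧸ A)) :=
    Odd.of_dvd_nat (hn ▸ hodd) (Subgroup.card_quotient_dvd_card A)
  obtain ⟨hsQ, h9Q⟩ := ih _ hlt (O ⧸ A) rfl hoddQ φQ
  -- fixed points lift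
  let C := fixedSub τ
  let CQ := fixedSub (φQ t)
  let CA := fixedSub (φA t)
  let f : C →* CQ :=
    { toFun := fun x => ⟨QuotientGroup.mk (x : O), by
        show QuotientGroup.mk (τ (x : O)) = QuotientGroup.mk (x : O)
        rw [mem_fixedSub.1 x.2]⟩
      map_one' := rfl
      map_mul' := fun _ _ => rfl }
  have hf : Function.Surjective f := by
    rintro ⟨q, hq⟩
    obtain ⟨x, rfl⟩ := QuotientGroup.mk_surjective q
    have ha : x⁻¹ * τ x ∈ A := (QuotientGroup.eq).1 (mem_fixedSub.1 hq).symm
    set a : A := ⟨x⁻¹ * τ x, ha⟩ with hadef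
    have hτa : τ (a : O) = ((a : O))⁻¹ := by
      show τ (x⁻¹ * τ x) = (x⁻¹ * τ x)⁻¹
      rw [map_mul, map_inv, hττ]; group
    obtain ⟨j, hj⟩ := hr.odd_of_ne_two hr2
    have har : (a : O) ^ r = 1 := a.2.2
    refine ⟨⟨x * (a : O) ^ (j + 1), mem_fixedSub.2 ?_⟩, Subtype.ext ?_⟩
    · rw [map_mul, map_pow, hτa, show τ x = x * (a : O) by rw [hadef]; group, mul_assoc]
      congr 1
      rw [inv_pow, mul_inv_eq_iff_eq_mul, ← pow_add]
      rw [show j + 1 + (j + 1) = r + 1 by omega, pow_succ, har, one_mul]
    · show QuotientGroup.mk (x * (a : O) ^ (j + 1)) = QuotientGroup.mk x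
      rw [QuotientGroup.eq]
      exact A.inv_mem (A.pow_mem a.2 (j+1)) |> fun h => by simpa using h
  have hkerf : Nat.card f.ker = Nat.card CA := by
    refine Nat.card_congr
      { toFun := fun x => ⟨⟨(x : C), (QuotientGroup.eq_one_iff _).1
          (congrArg Subtype.val (MonoidHom.mem_ker.1 x.2))⟩, mem_fixedSub.2 (Subtype.ext
            (mem_fixedSub.1 (x : C).2))⟩
        invFun := fun y => ⟨⟨((y : A) : O), mem_fixedSub.2
          (congrArg Subtype.val (mem_fixedSub.1 y.2))⟩, MonoidHom.mem_ker.2 (Subtype.ext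
            ((QuotientGroup.eq_one_iff _).2 (y : A).2))⟩
        left_inv := fun _ => rfl
        right_inv := fun _ => rfl }
  have hC : Nat.card C = Nat.card CQ * Nat.card CA := by
    have h1 := Subgroup.card_mul_index f.ker
    rw [Subgroup.index_ker, hkerf] at h1
    have h2 : Nat.card f.range = Nat.card CQ :=
      Nat.card_congr (Equiv.subtypeUnivEquiv fun y => hf y)
    rw [h2] at h1
    rw [← h1, mul_comm]
  -- the index in `A` is the size of the antifixed part
  have hidxA : CA.index = Nat.card Am := by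
    let g : A →* A :=
      { toFun := fun a => φA t a * a⁻¹
        map_one' := by simp
        map_mul' := fun a b => by rw [map_mul, mul_inv, mul_mul_mul_comm] }
    have hker : g.ker = CA := by
      ext a
      show φA t a * a⁻¹ = 1 ↔ φA t a = a
      exact mul_inv_eq_one
    have hrange : g.range = Am := by
      apply le_antisymm
      · rintro _ ⟨a, rfl⟩
        show φA t (φA t a * a⁻¹) = (φA t a * a⁻¹)⁻¹
        rw [map_mul, map_inv, ← MulAut.mul_apply, ← map_mul, htt, map_one, MulAut.one_apply,
          mul_inv_rev, inv_inv]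
      · intro a (ha : φA t a = a⁻¹)
        obtain ⟨j, hj⟩ := hr.odd_of_ne_two hr2
        refine ⟨a ^ j, ?_⟩
        show φA t (a ^ j) * (a ^ j)⁻¹ = a
        rw [map_pow, ha, inv_pow, ← mul_inv, ← pow_add, inv_eq_iff_mul_eq_one, ← pow_succ,
          show j + j + 1 = r by omega]
        exact hAr a
    rw [← hker, Subgroup.index_ker, hrange]
  have hidx : C.index = CQ.index * CA.index := by
    refine Nat.eq_of_mul_eq_mul_left (Nat.card_pos : 0 < Nat.card C) ?_
    rw [Subgroup.card_mul_index, hC, mul_mul_mul_comm, Subgroup.card_mul_index,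
      Subgroup.card_mul_index, ← Subgroup.card_eq_card_quotient_mul_card_subgroup]
  rw [hidx, hidxA]
  exact ⟨hsQ.mul hsA, eq_of_sq_mul hsQ hsA h9Q h9A⟩

/-- The index of the fixed points of a central involution of a perfect group is a square other than nine. -/
theorem index_fixed {E : Type u} [Group E] [Finite E] (hE : commutator E = ⊤) {t : E}
    (htc : ∀ e : E, e * t = t * e) (htt : t * t = 1) {O : Type v} [Group O] [Finite O]
    (hO : Odd (Nat.card O)) (φ : E →* MulAut O) :
    IsSquare (fixedSub (φ t)).index ∧ (fixedSub (φ t)).index ≠ 9 :=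
  index_fixed_aux hE htc htt _ O rfl hO φ

end CfsgLib.InvolNormal
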