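import Cfsg.Agent.Lib.InvolNormal.Base
import Cfsg.Agent.Lib.InvolNormal.Square
import Cfsg.Agent.Lib.CharApps.Kazarin
import Cfsg.Agent.Lib.Base.Cores

/-!
# Groups with `p ^ k` involutions forming one class
-/

set_option autoImplicit false
set_option linter.style.haveILetI false

namespace CfsgLib.InvolNormal

open Subgroup Cfsg

universe u

/-- The conjugates of `t` by `H` correspond to the cosets of the stabiliser. -/
theorem index_centralizer_subgroupOf {G : Type u} [Group G] (H : Subgroup G) (t : G)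
    (P : G → Prop) (h1 : ∀ h ∈ H, P (h * t * h⁻¹)) (h2 : ∀ x, P x → ∃ h ∈ H, h * t * h⁻¹ = x) :
    ((centralizer ({t} : Set G)).subgroupOf H).index = Nat.card {x : G // P x} := by
  have key : ∀ a b : H, QuotientGroup.leftRel ((centralizer ({t} : Set G)).subgroupOf H) a b ↔
      (a : G) * t * (a : G)⁻¹ = b * t * (b : G)⁻¹ := by
    intro a b
    rw [QuotientGroup.leftRel_apply, mem_subgroupOf, mem_centralizer_singleton_iff]
    simp only [Subgroup.coe_mul, Subgroup.coe_inv]
    constructor
    · intro e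
      calc (a : G) * t * (a : G)⁻¹ = a * (t * ((a : G)⁻¹ * b)) * (b : G)⁻¹ := by group
        _ = b * t * (b : G)⁻¹ := by rw [← e]; group
    · intro e
      calc (a : G)⁻¹ * b * t = (a : G)⁻¹ * (b * t * (b : G)⁻¹) * b := by group
        _ = t * ((a : G)⁻¹ * b) := by rw [← e]; group
  refine Nat.card_congr (Equiv.ofBijective
    (Quotient.lift (fun g : H => (⟨(g : G) * t * (g : G)⁻¹, h1 g g.2⟩ : {x : G // P x}))
      fun a b hab => Subtype.ext ((key a b).1 hab)) ⟨?_, ?_⟩)
  · intro a b
    induction a using Quotient.inductionOn with | _ a => ?_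
    induction b using Quotient.inductionOn with | _ b => ?_
    exact fun e => Quotient.sound ((key a b).2 (congrArg Subtype.val e))
  · rintro ⟨x, hx⟩
    obtain ⟨g, hg, rfl⟩ := h2 x hx
    exact ⟨Quotient.mk _ ⟨g, hg⟩, rfl⟩

/-- The index of the centraliser of an involution in a group with one class of them. -/
theorem index_centralizer_involution {G : Type u} [Group G]
    (hcl : ∀ x y : G, orderOf x = 2 → orderOf y = 2 → ∃ g : G, g * x * g⁻¹ = y) {t : G}
    (ht : orderOf t = 2) :
    (centralizer ({t} : Set G)).index = Nat.card {x : G // orderOf x = 2} := by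
  rw [← index_centralizer_subgroupOf ⊤ t (fun x => orderOf x = 2) (fun g _ => ?_) (fun x hx => ?_)]
  · have := Subgroup.relIndex_top_right (centralizer ({t} : Set G))
    exact this.symm
  · exact (orderOf_injective (MulAut.conj g).toMonoidHom (MulAut.conj g).injective t).trans ht
  · obtain ⟨g, hg⟩ := hcl t x ht hx
    exact ⟨g, mem_top g, hg⟩

/-- A Mersenne prime power is a prime. -/
theorem eq_one_of_mersenne {p a d : ℕ} (hp : p.Prime) (hp2 : p ≠ 2) (hd : 2 ≤ d)
    (h : 2 ^ d - 1 = p ^ a) : a = 1 := by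
  have h4 : 4 ∣ p ^ a + 1 := by
    rw [← h, Nat.sub_add_cancel Nat.one_le_two_pow]
    exact ⟨2 ^ (d - 2), by rw [show (4 : ℕ) = 2 ^ 2 by norm_num, ← pow_add, Nat.add_sub_cancel' hd]⟩
  have hodd : Odd p := hp.odd_of_ne_two hp2
  have haodd : Odd a := by
    by_contra hev
    rw [Nat.not_odd_iff_even] at hev
    obtain ⟨b, rfl⟩ := hev
    obtain ⟨c, hc⟩ := hodd.pow (n := b)
    rw [pow_add, hc, show (2 * c + 1) * (2 * c + 1) + 1 = 4 * (c * c + c) + 2 by ring] at h4
    omega
  have hdvd : p + 1 ∣ 2 ^ d := by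
    have h1 := haodd.nat_add_dvd_pow_add_pow p 1
    rwa [one_pow, ← h, Nat.sub_add_cancel Nat.one_le_two_pow] at h1
  obtain ⟨j, hjd, hj⟩ := (Nat.dvd_prime_pow Nat.prime_two).1 hdvd
  obtain ⟨b, hb⟩ := haodd
  have hj1 : 1 ≤ j := by
    by_contra hlt
    rw [show j = 0 by omega, pow_zero] at hj
    exact hp.ne_zero (by omega)
  have hsq : p ^ 2 ≡ 1 [MOD 2 ^ (j + 1)] := by
    obtain ⟨i, rfl⟩ : ∃ i, j = i + 1 := ⟨j - 1, by omega⟩
    have h1 : p ^ 2 + 2 ^ (i + 1 + 1) = 1 + 2 ^ (i + 1 + 1) * 2 ^ i := by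
      have e1 : (p + 1) * (p + 1) = 2 ^ (i + 1 + 1) * 2 ^ i := by
        rw [hj, ← pow_add, ← pow_add]; ring_nf
      have e2 : 2 ^ (i + 1 + 1) = 2 * (p + 1) := by rw [hj, pow_succ]; ring
      rw [← e1, e2]; ring
    calc p ^ 2 ≡ p ^ 2 + 2 ^ (i + 1 + 1) [MOD 2 ^ (i + 1 + 1)] := (Nat.add_modEq_right).symm
      _ = 1 + 2 ^ (i + 1 + 1) * 2 ^ i := h1
      _ ≡ 1 [MOD 2 ^ (i + 1 + 1)] := by simp [Nat.ModEq]
  have hpa : p ^ a + 1 ≡ 2 ^ j [MOD 2 ^ (j + 1)] := by
    rw [hb, pow_succ p, pow_mul, ← hj]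
    have := ((hsq.pow b).mul_right p).add_right 1
    rwa [one_pow, one_mul] at this
  have hjd' : d = j := by
    by_contra hne
    have h0 : p ^ a + 1 ≡ 0 [MOD 2 ^ (j + 1)] := by
      rw [← h, Nat.sub_add_cancel Nat.one_le_two_pow]
      exact Nat.modEq_zero_iff_dvd.2 (pow_dvd_pow 2 (by omega))
    have := Nat.modEq_zero_iff_dvd.1 (hpa.symm.trans h0)
    have := (Nat.pow_dvd_pow_iff_le_right (by norm_num : 1 < 2)).1 this
    omega
  have : p ^ a = p ^ 1 := by rw [← h, hjd', ← hj, pow_one]; omega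
  exact Nat.pow_right_injective hp.two_le this

/-- Groups with `p ^ k` involutions in one class are solvable for odd `k`, or `p ^ k = 9`. -/
theorem solvable_of_involutions (hseven : NoSeven.{u}) {G : Type u} [Group G] [Finite G] {p k : ℕ}
    (hp : p.Prime) (hp2 : p ≠ 2) (hk : Odd k ∨ p ^ k = 9)
    (hcard : Nat.card {x : G // orderOf x = 2} = p ^ k)
    (hcl : ∀ x y : G, orderOf x = 2 → orderOf y = 2 → ∃ g : G, g * x * g⁻¹ = y) :
    Group.IsSolvable G := by
  classical
  by_contra hns
  obtain ⟨⟨t, ht⟩⟩ : Nonempty {x : G // orderOf x = 2} :=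
    (Nat.card_pos_iff.1 (hcard ▸ pow_pos hp.pos k)).1
  have hidx := (index_centralizer_involution hcl ht).trans hcard
  have hNs := CfsgLib.CharApps.Kazarin.isSolvable_normalClosure t hp hidx
  set O := oddCore G with hO
  have hOodd := CfsgLib.Base.odd_card_oddCore G
  set π := QuotientGroup.mk' O with hπ
  set Q := G ⧸ O
  have hOs : Group.IsSolvable O := CfsgLib.FT.isSolvable_of_odd hOodd
  have hQns : ¬ Group.IsSolvable Q := fun hs => hns (by
    haveI := hs
    haveI := hOs
    exact Group.isSolvable_of_ker_le_range O.subtype π (by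
      rw [QuotientGroup.ker_mk', Subgroup.range_subtype]))
  have ht2 : t * t = 1 := by
    have := pow_orderOf_eq_one t
    rwa [ht, pow_two] at this
  -- involutions of the quotient lift
  have hlift : ∀ q : Q, orderOf q = 2 → ∃ x : G, orderOf x = 2 ∧ π x = q := by
    intro q hq
    obtain ⟨g, rfl⟩ := QuotientGroup.mk'_surjective O q
    have hg2 : g ^ 2 ∈ O := by
      rw [← QuotientGroup.eq_one_iff, ← QuotientGroup.mk'_apply, map_pow]
      have := pow_orderOf_eq_one (π g)
      rwa [hq] at this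
    have hx : (g ^ Nat.card O) ^ 2 = 1 := by
      rw [← pow_mul, mul_comm, pow_mul]
      exact congrArg Subtype.val (pow_card_eq_one' (x := (⟨g ^ 2, hg2⟩ : O)))
    have hπx : π (g ^ Nat.card O) = π g := by
      obtain ⟨c, hc⟩ := hOodd
      have h2 : π g ^ 2 = 1 := by have := pow_orderOf_eq_one (π g); rwa [hq] at this
      rw [map_pow, hc, pow_succ, pow_mul, h2, one_pow, one_mul]
    refine ⟨_, orderOf_eq_prime hx fun e => ?_, hπx⟩
    rw [e, map_one] at hπx
    rw [← hπx, orderOf_one] at hq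
    omega
  have hinv : ∀ x : G, orderOf x = 2 → orderOf (π x) = 2 := by
    intro x hx
    have hx2 : x ^ 2 = 1 := by have := pow_orderOf_eq_one x; rwa [hx] at this
    refine orderOf_eq_prime (by rw [← map_pow, hx2, map_one]) fun e => ?_
    have hxO : x ∈ O := (QuotientGroup.eq_one_iff x).1 e
    have : 2 ∣ Nat.card O := by
      rw [← hx, ← Subgroup.orderOf_mk x hxO]
      exact orderOf_dvd_natCard _
    exact Nat.not_even_iff_odd.2 hOodd (even_iff_two_dvd.2 this)
  have hclQ : ∀ x y : Q, orderOf x = 2 → orderOf y = 2 → ∃ g : Q, g * x * g⁻¹ = y := by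
    intro x y hx hy
    obtain ⟨a, ha, rfl⟩ := hlift x hx
    obtain ⟨b, hb, rfl⟩ := hlift y hy
    obtain ⟨g, rfl⟩ := hcl a b ha hb
    exact ⟨π g, by simp⟩
  have htq := hinv t ht
  -- an abelian normal subgroup of `Q` containing all involutions
  set N := (normalClosure ({t} : Set G)).map π with hN
  haveI : N.Normal := (inferInstance : (normalClosure ({t} : Set G)).Normal).map π
    (QuotientGroup.mk'_surjective O)
  haveI hNsolv : Group.IsSolvable N :=
    haveI := hNs
    Group.isSolvable_of_surjective (π.subgroupMap_surjective (normalClosure ({t} : Set G)))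
  have htN : π t ∈ N := mem_map_of_mem π (subset_normalClosure rfl)
  obtain ⟨m, hm⟩ := (Group.isSolvable_def N).1 hNsolv
  have hex : ∃ m, derivedSeries N m = ⊥ := ⟨m, hm⟩
  have h0 : Nat.find hex ≠ 0 := by
    intro e
    have h1 := Nat.find_spec hex
    rw [e, derivedSeries_zero] at h1
    have : (⟨π t, htN⟩ : N) ∈ (⊤ : Subgroup N) := trivial
    rw [h1, mem_bot] at this
    have := congrArg Subtype.val this
    simp only [Subgroup.coe_one] at this
    rw [this, orderOf_one] at htq
    omega
  obtain ⟨i, hi⟩ := Nat.exists_eq_succ_of_ne_zero h0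
  set D := (derivedSeries N i).map N.subtype with hD
  haveI : (derivedSeries N i).Characteristic := derivedSeries_characteristic N i
  haveI hDn : D.Normal := inferInstance
  have hDne : D ≠ ⊥ := fun e => Nat.find_min hex (m := i) (by omega)
    ((map_eq_bot_iff_of_injective _ N.subtype_injective).1 e)
  have hDab : ∀ a ∈ D, ∀ b ∈ D, a * b = b * a := by
    rintro _ ⟨a, ha, rfl⟩ _ ⟨b, hb, rfl⟩
    rw [← map_mul, ← map_mul]
    congr 1
    rw [← commutatorElement_eq_one_iff_mul_comm, ← mem_bot]
    have h1 := Nat.find_spec hex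
    rw [hi, derivedSeries_succ] at h1
    rw [← h1]
    exact commutator_mem_commutator ha hb
  have hDev : 2 ∣ Nat.card D := by
    by_contra hodd
    have hodd' : Odd (Nat.card D) := Nat.odd_iff.2 (Nat.two_dvd_ne_zero.1 hodd)
    have h1 : Odd (Nat.card (D.comap π)) := by
      have e := Subgroup.card_mul_index (O.subgroupOf (D.comap π))
      have hOle : O ≤ D.comap π := fun x hx => mem_comap.2 (by
        rw [show π x = 1 from (QuotientGroup.eq_one_iff x).2 hx]; exact one_mem D)
      rw [Nat.card_congr (Subgroup.subgroupOfEquivOfLe hOle).toEquiv] at e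
      rw [← e]
      refine hOodd.mul ?_
      have h2 : (O.subgroupOf (D.comap π)).index = Nat.card ((D.comap π).map π) := by
        rw [← Subgroup.relIndex_ker (D.comap π) π, QuotientGroup.ker_mk']; rfl
      rw [h2, map_comap_eq_self_of_surjective (QuotientGroup.mk'_surjective O)]
      exact hodd'
    haveI : (D.comap π).Normal := hDn.comap π
    refine hDne ((eq_bot_iff).2 fun x hx => mem_bot.2 ?_)
    obtain ⟨g, rfl⟩ := QuotientGroup.mk'_surjective O x
    exact (QuotientGroup.eq_one_iff g).2 (CfsgLib.Base.le_oddCore h1 (mem_comap.2 hx))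
  obtain ⟨⟨v₀, hv₀D⟩, hv₀⟩ := exists_prime_orderOf_dvd_card' 2 hDev
  rw [Subgroup.orderOf_mk] at hv₀
  have hallD : ∀ x : Q, x * x = 1 → x ∈ D := by
    intro x hx
    by_cases hx1 : x = 1
    · rw [hx1]; exact one_mem D
    obtain ⟨g, rfl⟩ := hclQ v₀ x hv₀ (orderOf_eq_prime (by rw [pow_two]; exact hx) hx1)
    exact hDn.conj_mem v₀ hv₀D g
  let V : Subgroup Q :=
    { carrier := {x | x * x = 1}
      one_mem' := mul_one 1
      mul_mem' := fun {a b} ha hb => by
        show a * b * (a * b) = 1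
        rw [mul_assoc, ← mul_assoc b a b, hDab b (hallD b hb) a (hallD a ha), mul_assoc a b b,
          show b * b = 1 from hb, mul_one]
        exact ha
      inv_mem' := fun {a} ha => by
        show a⁻¹ * a⁻¹ = 1
        rw [← mul_inv_rev, show a * a = 1 from ha, inv_one] }
  have hInv : InvV Q V := ⟨⟨fun x (hx : x * x = 1) g => by
    show g * x * g⁻¹ * (g * x * g⁻¹) = 1
    rw [conj_mul, hx, mul_one, mul_inv_cancel]⟩, fun x => Iff.rfl⟩
  have htV : π t ∈ V := by
    show π t * π t = 1
    rw [← map_mul, ht2, map_one]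
  have hord : ∀ x ∈ V, x ≠ 1 → orderOf x = 2 := fun x hx hx1 =>
    orderOf_eq_prime (by rw [pow_two]; exact hx) hx1
  have htr : ∀ a ∈ V, ∀ b ∈ V, a ≠ 1 → b ≠ 1 → ∃ g : Q, g * a * g⁻¹ = b :=
    fun a ha b hb ha1 hb1 => hclQ a b (hord a ha ha1) (hord b hb hb1)
  obtain ⟨d, hd⟩ := card_pow_two hInv
  have hcQ : Nat.card {x : Q // orderOf x = 2} + 1 = 2 ^ d := by
    have h1 : Nat.card {x : Q // orderOf x = 2} = ((V : Set Q) \ {1}).ncard := by
      rw [← Nat.card_coe_set_eq]
      refine Nat.card_congr (Equiv.subtypeEquivRight fun x => ?_)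
      constructor
      · intro hx
        refine ⟨?_, fun e => ?_⟩
        · show x * x = 1
          have := pow_orderOf_eq_one x
          rwa [hx, pow_two] at this
        · rw [show x = 1 from e, orderOf_one] at hx; omega
      · rintro ⟨hx, hx1⟩
        exact hord x hx hx1
    rw [h1, Set.ncard_sdiff_singleton_of_mem (one_mem V), ← Nat.card_coe_set_eq]
    show Nat.card V - 1 + 1 = _
    rw [Nat.sub_add_cancel Nat.card_pos, hd]
  -- the number of involutions of the quotient divides `p ^ k`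
  have hdiv : 2 ^ d - 1 ∣ p ^ k := by
    rw [← hidx, show 2 ^ d - 1 = (centralizer ({π t} : Set Q)).index by
      rw [index_centralizer_involution hclQ htq]; omega,
      ← index_comap_of_surjective _ (QuotientGroup.mk'_surjective O)]
    refine index_dvd_of_le fun g hg => ?_
    rw [mem_comap, mem_centralizer_singleton_iff, ← map_mul, ← map_mul,
      mem_centralizer_singleton_iff.1 hg]
  obtain ⟨a, -, ha⟩ := (Nat.dvd_prime_pow hp).1 hdiv
  rcases lt_or_ge d 2 with hd2 | hd2
  swap
  · -- the base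
    have ha1 := eq_one_of_mersenne hp hp2 hd2 ha
    rw [ha1, pow_one] at ha
    exact hQns (solvable_base hseven hInv hd2 hd (ha ▸ hp) htr)
  -- one involution in the quotient
  have hd1 : d = 1 := by
    rcases Nat.eq_zero_or_pos d with rfl | hpos
    · exfalso
      rw [pow_zero] at hd
      have : V = ⊥ := Subgroup.card_eq_one.1 hd
      rw [this, mem_bot] at htV
      rw [htV, orderOf_one] at htq
      omega
    · omega
  subst hd1
  have huniq : ∀ x : G, orderOf x = 2 → π x = π t := by
    intro x hx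
    by_contra hne
    have h2 : Nat.card {x : Q // orderOf x = 2} = 1 := by simpa using hcQ
    obtain ⟨hs, -⟩ := Nat.card_eq_one_iff_unique.1 h2
    exact hne (congrArg Subtype.val (hs.elim (⟨π x, hinv x hx⟩ : {x : Q // orderOf x = 2}) ⟨π t, htq⟩))
  -- involutions are conjugate under the odd core
  have hclO : ∀ x : G, orderOf x = 2 → ∃ h ∈ O, h * t * h⁻¹ = x := by
    intro x hx
    have hx2 : x * x = 1 := by
      have := pow_orderOf_eq_one x
      rwa [hx, pow_two] at this
    set z := x * t with hz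
    have hzO : z ∈ O := by
      rw [← QuotientGroup.eq_one_iff, ← QuotientGroup.mk'_apply, map_mul, ← hπ, huniq x hx,
        ← map_mul, ht2, map_one]
    have hti : t⁻¹ = t := inv_eq_of_mul_eq_one_right ht2
    have hxi : x⁻¹ = x := inv_eq_of_mul_eq_one_right hx2
    have htz : t * z * t⁻¹ = z⁻¹ := by
      rw [hz, hti, mul_inv_rev, hti, hxi, mul_assoc, mul_assoc, ht2, mul_one]
    obtain ⟨j, hj⟩ := hOodd
    have hzj : z ^ (2 * j + 1) = 1 := by
      rw [← hj]; exact congrArg Subtype.val (pow_card_eq_one' (x := (⟨z, hzO⟩ : O)))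
    refine ⟨z ^ (j + 1), pow_mem hzO _, ?_⟩
    have h1 : t * (z ^ (j + 1))⁻¹ = z ^ (j + 1) * t := by
      have e := congrArg (fun w => w⁻¹) (conj_pow (i := j + 1) (a := t) (b := z))
      simp only [htz, inv_pow, inv_inv, mul_inv_rev] at e
      rw [eq_comm]
      calc z ^ (j + 1) * t = t * ((z ^ (j + 1))⁻¹ * t⁻¹) * t := by rw [← e]
        _ = t * (z ^ (j + 1))⁻¹ := by group
    rw [mul_assoc, h1, ← mul_assoc, ← pow_add, show j + 1 + (j + 1) = 2 * j + 1 + 1 by omega,
      pow_succ, hzj, one_mul, hz, mul_assoc, ht2, mul_one]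
  set C := centralizer ({t} : Set G) with hC
  have hidxO : (C.subgroupOf O).index = p ^ k := by
    rw [hC, index_centralizer_subgroupOf O t (fun x => orderOf x = 2) (fun g _ =>
      (orderOf_injective (MulAut.conj g).toMonoidHom (MulAut.conj g).injective t).trans ht) hclO,
      hcard]
  -- the centraliser covers the quotient
  have hcov : ∀ q : Q, ∃ c ∈ C, π c = q := by
    intro q
    obtain ⟨g, rfl⟩ := QuotientGroup.mk'_surjective O q
    obtain ⟨h, hh, hht⟩ := hclO (g * t * g⁻¹)
      ((orderOf_injective (MulAut.conj g).toMonoidHom (MulAut.conj g).injective t).trans ht)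
    refine ⟨h⁻¹ * g, mem_centralizer_singleton_iff.2 ?_, ?_⟩
    · calc h⁻¹ * g * t = h⁻¹ * (g * t * g⁻¹) * g := by group
        _ = t * (h⁻¹ * g) := by rw [← hht]; group
    · rw [map_mul, map_inv, ← hπ, show π h = 1 from (QuotientGroup.eq_one_iff h).2 hh, inv_one,
        one_mul]
  have hCns : ¬ Group.IsSolvable C := fun hs => hQns (by
    haveI := hs
    refine Group.isSolvable_of_surjective (f := π.comp C.subtype) fun q => ?_
    obtain ⟨c, hc, rfl⟩ := hcov q
    exact ⟨⟨c, hc⟩, rfl⟩)
  obtain ⟨E, hEC, hEE, -, -, hEsol⟩ := CfsgLib.Recog.AltSub.exists_perfectResidual C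
  have hEne : E ≠ ⊥ := fun e => hCns (hEsol C le_rfl (by rw [e, inf_bot_eq]))
  have hperf : commutator E = ⊤ := by
    apply Subgroup.map_injective E.subtype_injective
    rw [map_subtype_commutator, hEE, ← MonoidHom.range_eq_map, range_subtype]
  have hEev : 2 ∣ Nat.card E := by
    by_contra hodd
    have hs := CfsgLib.FT.isSolvable_of_odd (G := E) (Nat.odd_iff.2 (Nat.two_dvd_ne_zero.1 hodd))
    obtain ⟨n, hn⟩ := (Group.isSolvable_def E).1 hs
    have : ∀ m, derivedSeries E m = ⊤ := fun m => by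
      induction m with
      | zero => rfl
      | succ m ih => rw [derivedSeries_succ, ih, ← _root_.commutator_def, hperf]
    rw [this] at hn
    haveI : Nontrivial E := (Subgroup.nontrivial_iff_ne_bot E).2 hEne
    exact top_ne_bot hn
  obtain ⟨⟨x, hxE⟩, hx⟩ := exists_prime_orderOf_dvd_card' 2 hEev
  rw [Subgroup.orderOf_mk] at hx
  have hxt : x = t := by
    obtain ⟨h, hhO, rfl⟩ := hclO x hx
    have hc := mem_centralizer_singleton_iff.1 (hEC hxE)
    -- `z = h t h⁻¹ t` is in `O` and squares to one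
    set z := h * t * h⁻¹ * t with hz
    have hzO : z ∈ O := by
      rw [hz, show h * t * h⁻¹ * t = h * (t * h⁻¹ * t) by group]
      refine mul_mem hhO ?_
      have := (inferInstance : O.Normal).conj_mem _ (inv_mem hhO) t
      rwa [show t⁻¹ = t from inv_eq_of_mul_eq_one_right ht2] at this
    have hz2 : z ^ 2 = 1 := by
      rw [pow_two]
      nth_rewrite 2 [hc]
      rw [hz]
      calc h * t * h⁻¹ * t * (t * (h * t * h⁻¹)) = h * t * h⁻¹ * (t * t) * (h * t * h⁻¹) := by group
        _ = h * (t * t) * h⁻¹ := by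
          rw [ht2, mul_one]
          calc h * t * h⁻¹ * (h * t * h⁻¹) = h * (t * t) * h⁻¹ := by group
            _ = h * 1 * h⁻¹ := by rw [ht2]
        _ = 1 := by rw [ht2, mul_one, mul_inv_cancel]
    have hz1 : z = 1 := by
      refine orderOf_eq_one_iff.1 (Nat.dvd_one.1 (((Nat.coprime_two_left.2 hOodd).gcd_eq_one) ▸
        Nat.dvd_gcd (orderOf_dvd_of_pow_eq_one hz2) ?_))
      rw [← Subgroup.orderOf_mk z hzO]
      exact orderOf_dvd_natCard _
    calc h * t * h⁻¹ = z * t⁻¹ := by rw [hz]; group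
      _ = t := by rw [hz1, one_mul, inv_eq_of_mul_eq_one_right ht2]
  subst hxt
  have hsq := index_fixed hperf (t := (⟨x, hxE⟩ : E))
    (fun e => Subtype.ext (mem_centralizer_singleton_iff.1 (hEC e.2))) (Subtype.ext ht2) hOodd
    ((MulAut.conjNormal : G →* MulAut O).comp E.subtype)
  have hfix : fixedSub (((MulAut.conjNormal : G →* MulAut O).comp E.subtype) ⟨x, hxE⟩) =
      C.subgroupOf O := by
    ext y
    rw [mem_fixedSub, mem_subgroupOf, hC, mem_centralizer_singleton_iff, Subtype.ext_iff]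
    show x * (y : G) * x⁻¹ = y ↔ _
    rw [mul_inv_eq_iff_eq_mul]
    exact eq_comm
  rw [hfix, hidxO] at hsq
  rcases hk with hk | hk
  · obtain ⟨c, hc⟩ := hsq.1
    have h1 : (p ^ k).factorization p = (c * c).factorization p := by rw [hc]
    rw [Nat.factorization_pow, Finsupp.smul_apply, hp.factorization_self, smul_eq_mul, mul_one] at h1
    rcases eq_or_ne c 0 with rfl | hc0
    · exact absurd hc (by simpa using pow_ne_zero k hp.ne_zero)
    rw [Nat.factorization_mul hc0 hc0, Finsupp.add_apply] at h1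
    obtain ⟨e, he⟩ := hk
    omega
  · exact hsq.2 hk

end CfsgLib.InvolNormal
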