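import Cfsg.Agent.Lib.InvolNormal.NAStab

/-!
# Orbit counting on a fibre of the squaring map
-/

set_option autoImplicit false
set_option linter.unusedSectionVars false
set_option linter.style.haveILetI false

namespace CfsgLib.InvolNormal.SevenNA

open Subgroup SevenAbelian

universe u

variable {M : Type u} [Group M] [Finite M] {V T : Subgroup M} [(V.subgroupOf T).Normal]

/-- Fixed by all elations with centre `v`. -/
def UFix (D : NA V T) {v : M} (hv : v ∈ V) (e : W V T) : Prop :=
  ∀ u ∈ elations D hv, act D u e = e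

theorem ufix_act (D : NA V T) {v : M} (hv : v ∈ V) {e : W V T} (he : UFix D hv e) {g : M}
    (hg : g * v * g⁻¹ = v) : UFix D hv (act D g e) := by
  intro u hu
  rw [← act_mul, show u * g = g * (g⁻¹ * u * g) by group, act_mul, he _ (elations_conj D hv hg hu)]

theorem ufix_inv (D : NA V T) {v : M} (hv : v ∈ V) {e : W V T} {u : M} (hu : u ∈ elations D hv)
    (he : UFix D hv (act D u e)) : UFix D hv e := by
  have h := he _ (inv_mem hu)
  rw [← act_mul, inv_mul_cancel, act_one] at h
  intro u' hu'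
  conv_lhs => rw [h]
  rw [he u' hu', ← h]

theorem act_e_one (D : NA V T) (g : M) : act D g (1 : W V T) = 1 := by
  have h := act_map_mul D g (1 : W V T) 1
  rw [mul_one] at h
  exact left_eq_mul.1 h

theorem Maps.inv {g a b c a' b' c' : M} (h : Maps g a b c a' b' c') : Maps g⁻¹ a' b' c' a b c := by
  obtain ⟨h1, h2, h3⟩ := h
  refine ⟨?_, ?_, ?_⟩
  · rw [← h1]; group
  · rw [← h2]; group
  · rw [← h3]; group

theorem seven_cases (D : NA V T) {v b c x : M} (hG : Good V v b c) (hx : x ∈ V) :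
    x = 1 ∨ x = v ∨ x = b ∨ x = b * v ∨ x = c ∨ x = c * v ∨ x = b * c ∨ x = b * c * v := by
  obtain ⟨hv, hb, hc, -⟩ := id hG
  obtain ⟨i, j, l, rfl⟩ := span D.inv D.card hG hx
  rcases exp2 D hv i with ⟨-, ei⟩ | ⟨-, ei⟩ <;> rcases exp2 D hb j with ⟨-, ej⟩ | ⟨-, ej⟩ <;>
    rcases exp2 D hc l with ⟨-, el⟩ | ⟨-, el⟩ <;> rw [ei, ej, el] <;> (try simp only [one_mul, mul_one])
  · tauto
  · tauto
  · tauto
  · tauto
  · tauto
  · exact Or.inr (Or.inr (Or.inr (Or.inr (Or.inr (Or.inl (D.inv.comm hv hc))))))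
  · exact Or.inr (Or.inr (Or.inr (Or.inl (D.inv.comm hv hb))))
  · refine Or.inr (Or.inr (Or.inr (Or.inr (Or.inr (Or.inr (Or.inr ?_))))))
    rw [mul_assoc, D.inv.comm hv (mul_mem hb hc)]

/-- The section value over `v`. -/
theorem exists_section_point (D : NA V T) (hne : ∃ e : W V T, e ≠ 1)
    (hcard : Nat.card (W V T) = 8 ∨ Nat.card (W V T) = 64) {v : M} (hv : v ∈ V) (hv1 : v ≠ 1) :
    ∃ e : W V T, ((qW D e : V) : M) = v ∧ ∀ g : M, g * v * g⁻¹ = v → act D g e = e := by
  classical
  obtain ⟨b, c, hG⟩ := good_exists D hv hv1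
  obtain ⟨-, hb, hc, -, hb1, hbv, hc1, hcv, hcb, hcvb⟩ := id hG
  set F := {e : W V T | ((qW D e : V) : M) = v} with hF
  -- the fibres have the same size
  have hnum : 7 * F.ncard + 1 = Nat.card (W V T) := by
    haveI := Fintype.ofFinite (W V T)
    haveI := Fintype.ofFinite V
    have h1 := Finset.card_eq_sum_card_fiberwise (f := qW D) (s := (Finset.univ : Finset (W V T)))
      (t := (Finset.univ : Finset V)) (fun x _ => Finset.mem_univ _)
    rw [Finset.card_univ, ← Nat.card_eq_fintype_card] at h1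
    rw [h1, ← Finset.add_sum_erase _ _ (Finset.mem_univ (1 : V)), add_comm]
    congr 1
    · symm
      rw [Finset.card_eq_one]
      refine ⟨1, Finset.ext fun e => ?_⟩
      simp only [Finset.mem_filter, Finset.mem_univ, true_and, Finset.mem_singleton]
      exact ⟨qW_eq_one D e, fun h => h ▸ qW_one D⟩
    · have hcongr : ∀ x ∈ (Finset.univ : Finset V).erase 1,
          ((Finset.univ : Finset (W V T)).filter fun e => qW D e = x).card = F.ncard := by
        intro x hx
        obtain ⟨g, hg⟩ := conj_transitive D hv hv1 x.2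
          (fun e => (Finset.mem_erase.1 hx).1 (Subtype.ext e))
        rw [hF, fibre_eq D g v x hg, ← Set.ncard_coe_finset]
        congr 1
        ext e
        simp only [Finset.coe_filter, Finset.mem_univ, true_and, Set.mem_setOf_eq]
        exact Subtype.ext_iff
      rw [Finset.sum_congr rfl hcongr, Finset.sum_const, smul_eq_mul,
        Finset.card_erase_of_mem (Finset.mem_univ _), Finset.card_univ, ← Nat.card_eq_fintype_card, D.card]
  have hFact : ∀ g : M, g * v * g⁻¹ = v → ∀ e ∈ F, act D g e ∈ F := by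
    intro g hg e he
    show ((qW D (act D g e) : V) : M) = v
    rw [qW_act, show ((qW D e : V) : M) = v from he, hg]
  rcases hcard with h8 | h64
  · obtain ⟨e, he⟩ := Set.ncard_eq_one.1 (show F.ncard = 1 by omega)
    have heF : e ∈ F := by rw [he]; rfl
    refine ⟨e, heF, fun g hg => ?_⟩
    have := hFact g hg e heF
    rw [he] at this
    exact this
  have hF9 : F.ncard = 9 := by omega
  -- three elations, a three-cycle and a transposition
  have gbv : Good V v (b * v) c := by
    refine ⟨hv, mul_mem hb hv, hc, hv1, ?_, ?_, hc1, hcv, ?_, ?_⟩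
    · exact fun e => hbv (by rw [mul_eq_one_iff_eq_inv.1 e, D.inv.inv_eq hv])
    · exact fun e => hb1 (mul_eq_right.1 e)
    · exact fun e => hcvb (e.trans (D.inv.comm hb hv))
    · intro e
      rw [D.inv.comm hb hv, ← mul_assoc, D.inv.mul_self hv, one_mul] at e
      exact hcb e
  have gcv : Good V v b (c * v) := by
    refine ⟨hv, hb, mul_mem hc hv, hv1, hb1, hbv, ?_, ?_, ?_, ?_⟩
    · exact fun e => hcv (by rw [mul_eq_one_iff_eq_inv.1 e, D.inv.inv_eq hv])
    · exact fun e => hc1 (mul_eq_right.1 e)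
    · intro e
      exact hcvb (by rw [← e, D.inv.comm hc hv, ← mul_assoc, D.inv.mul_self hv, one_mul])
    · intro e
      rw [D.inv.comm hv hb] at e
      exact hcb (mul_right_cancel e)
  have gw : Good V v c (b * c) := by
    refine ⟨hv, hc, mul_mem hb hc, hv1, hc1, hcv, ?_, ?_, ?_, ?_⟩
    · exact fun e => hcb (by rw [mul_eq_one_iff_eq_inv.1 e, D.inv.inv_eq hc])
    · intro e
      exact hcvb (by rw [← e, mul_assoc, D.inv.comm hc hb, ← mul_assoc, D.inv.mul_self hb, one_mul])
    · exact fun e => hb1 (mul_eq_right.1 e)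
    · exact fun e => hbv (mul_right_cancel e)
  have gs : Good V v c b := ⟨hv, hc, hb, hv1, hc1, hcv, hb1, hbv, hcb.symm, fun e => hcvb (by
    rw [e, ← mul_assoc, D.inv.mul_self hv, one_mul])⟩
  obtain ⟨u1, m1⟩ : ∃ u, Maps u v b c v (b * v) c := map_exists D hG gbv
  obtain ⟨u2, m2⟩ : ∃ u, Maps u v b c v b (c * v) := map_exists D hG gcv
  obtain ⟨w, mw⟩ : ∃ u, Maps u v b c v c (b * c) := map_exists D hG gw
  obtain ⟨s, ms⟩ : ∃ u, Maps u v b c v c b := map_exists D hG gs
  have hu1 : u1 ∈ elations D hv := mem_elations_of_maps D hG m1.1 (Or.inr m1.2.1) (Or.inl m1.2.2)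
  have hu2 : u2 ∈ elations D hv := mem_elations_of_maps D hG m2.1 (Or.inl m2.2.1) (Or.inr m2.2.2)
  have mc : ∀ (g x y : M), g * (x * y) * g⁻¹ = g * x * g⁻¹ * (g * y * g⁻¹) := fun g x y => by group
  have m12 : Maps (u1 * u2) v b c v (b * v) (c * v) :=
    Maps.comp m2 ⟨m1.1, m1.2.1, by rw [mc, m1.2.2, m1.1]⟩
  set u3 := u1 * u2 with hu3
  have m3 : Maps u3 v b c v (b * v) (c * v) := m12
  -- the four kinds of elations
  have hfour : ∀ u ∈ elations D hv, ∀ e, act D u e = e ∨ act D u e = act D u1 e ∨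
      act D u e = act D u2 e ∨ act D u e = act D u3 e := by
    intro u hu e
    have huv := elations_fix D hv hu
    rcases hu b hb with e1 | e1 <;> rcases hu c hc with e2 | e2
    · exact Or.inl (act_eq_self D hG ⟨huv, e1, e2⟩ e)
    · exact Or.inr (Or.inr (Or.inl (act_eq D hG ⟨huv, e1, e2⟩ m2 e)))
    · exact Or.inr (Or.inl (act_eq D hG ⟨huv, e1, e2⟩ m1 e))
    · exact Or.inr (Or.inr (Or.inr (act_eq D hG ⟨huv, e1, e2⟩ m3 e)))
  have hufix : ∀ e, act D u1 e = e → act D u2 e = e → UFix D hv e := by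
    intro e h1 h2 u hu
    rcases hfour u hu e with h | h | h | h
    · exact h
    · rw [h, h1]
    · rw [h, h2]
    · rw [h, hu3, act_mul, h2, h1]
  have hww : ∀ e, act D (w * u1) e = act D (u3 * w) e ∧ act D (w * u3) e = act D (u2 * w) e ∧
      act D (w * u2) e = act D (u1 * w) e := by
    intro e
    have hbb : b * v * (c * v) = b * c := by
      rw [D.inv.comm hc hv, ← mul_assoc, mul_assoc b v v, D.inv.mul_self hv, mul_one]
    refine ⟨?_, ?_, ?_⟩
    · refine act_eq D hG (Maps.comp m1 ⟨mw.1, by rw [mc, mw.2.1, mw.1], mw.2.2⟩)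
        (Maps.comp mw ⟨m3.1, m3.2.2, ?_⟩) e
      rw [mc, m3.2.1, m3.2.2, hbb]
    · refine act_eq D hG (Maps.comp m3 ⟨mw.1, by rw [mc, mw.2.1, mw.1], by rw [mc, mw.2.2, mw.1]⟩)
        (Maps.comp mw ⟨m2.1, m2.2.2, ?_⟩) e
      rw [mc, m2.2.1, m2.2.2, mul_assoc]
    · refine act_eq D hG (Maps.comp m2 ⟨mw.1, mw.2.1, by rw [mc, mw.2.2, mw.1]⟩)
        (Maps.comp mw ⟨m1.1, m1.2.2, ?_⟩) e
      rw [mc, m1.2.1, m1.2.2, mul_assoc, D.inv.comm hv hc, ← mul_assoc]
  have hone : ∀ e, act D w e = e → (act D u1 e = e ∨ act D u2 e = e ∨ act D u3 e = e) →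
      UFix D hv e := by
    intro e hwe hor
    obtain ⟨w13, w32, w21⟩ := hww e
    rw [act_mul D w, act_mul D u3, hwe] at w13
    rw [act_mul D w, act_mul D u2, hwe] at w32
    rw [act_mul D w, act_mul D u1, hwe] at w21
    have c1 : act D u1 e = e → act D u3 e = e := fun h => by rw [h, hwe] at w13; exact w13.symm
    have c3 : act D u3 e = e → act D u2 e = e := fun h => by rw [h, hwe] at w32; exact w32.symm
    have c2 : act D u2 e = e → act D u1 e = e := fun h => by rw [h, hwe] at w21; exact w21.symm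
    rcases hor with h | h | h
    · exact hufix e h (c3 (c1 h))
    · exact hufix e (c2 h) h
    · exact hufix e (c2 (c3 h)) (c3 h)
  have hqe : ∀ e : W V T, e ≠ 1 → UFix D hv e → ((qW D e : V) : M) = v := by
    intro e he1 heU
    have hfix : ∀ u ∈ elations D hv, u * (qW D e : M) * u⁻¹ = (qW D e : M) := fun u hu => by
      rw [← qW_act, heU u hu]
    have hne1 : ((qW D e : V) : M) ≠ 1 := fun h => he1 (qW_eq_one D e (Subtype.ext h))
    have f1 := hfix u1 hu1
    have f2 := hfix u2 hu2
    have hv0 : ∀ {z : M}, z = z * v → False := fun h => hv1 (left_eq_mul.1 h)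
    rcases seven_cases D hG (qW D e).2 with hq | hq | hq | hq | hq | hq | hq | hq
    · exact absurd hq hne1
    · exact hq
    · rw [hq, m1.2.1] at f1; exact (hv0 f1.symm).elim
    · rw [hq, mc, m1.2.1, m1.1] at f1; exact (hv0 (mul_right_cancel f1).symm).elim
    · rw [hq, m2.2.2] at f2; exact (hv0 f2.symm).elim
    · rw [hq, mc, m2.2.2, m2.1] at f2; exact (hv0 (mul_right_cancel f2).symm).elim
    · rw [hq, mc, m2.2.1, m2.2.2, ← mul_assoc] at f2; exact (hv0 f2.symm).elim
    · rw [hq, mc, mc, m2.2.1, m2.2.2, m2.1, ← mul_assoc] at f2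
      exact (hv0 (mul_right_cancel f2).symm).elim
  -- a point fixed by the elations and the three-cycle suffices
  suffices hmain : ∃ e : W V T, e ≠ 1 ∧ UFix D hv e ∧ act D w e = e by
    obtain ⟨e, he1, heU, hew⟩ := hmain
    have hsv : s * v * s⁻¹ = v := ms.1
    set e' := act D s e with he'
    have hss : act D s e' = e := by
      rw [he', ← act_mul]
      exact act_eq_self D hG (Maps.comp ms ⟨ms.1, ms.2.2, ms.2.1⟩) e
    have he'U : UFix D hv e' := ufix_act D hv heU hsv
    have hww' : ∀ e, act D (w * s) e = act D (s * (w * w)) e := by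
      intro e
      refine act_eq D hG (Maps.comp ms ⟨mw.1, mw.2.2, mw.2.1⟩)
        (Maps.comp (Maps.comp mw (⟨mw.1, mw.2.2, rfl⟩ : Maps w v c (b * c) v (b * c) _))
          ⟨ms.1, ?_, ?_⟩) e
      · rw [mc, ms.2.1, ms.2.2, D.inv.comm hc hb]
      · rw [mc w b c, mw.2.1, mw.2.2, mc, mc, ms.2.1, ms.2.2, D.inv.comm hc hb, ← mul_assoc,
          D.inv.mul_self hb, one_mul]
    have he'w : act D w e' = e' := by
      rw [he', ← act_mul, hww', act_mul, act_mul, hew, hew]
    obtain ⟨f, hf1, hfU, hfw, hfs⟩ : ∃ f, f ≠ 1 ∧ UFix D hv f ∧ act D w f = f ∧ act D s f = f := by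
      by_cases hee : e' = e
      · exact ⟨e, he1, heU, hew, hee⟩
      · refine ⟨e * e', fun h => hee ?_, fun u hu => by rw [act_map_mul, heU u hu, he'U u hu],
          by rw [act_map_mul, hew, he'w], by rw [act_map_mul, hss, ← he', W_comm D]⟩
        rw [← W_inv D e]
        exact (inv_eq_of_mul_eq_one_right h).symm
    refine ⟨f, hqe f hf1 hfU, fun g hg => ?_⟩
    have hgb1 : g * b * g⁻¹ ≠ 1 := fun e0 => hb1 (by
      have := congrArg (fun z => g⁻¹ * z * g) e0; simpa [mul_assoc] using this)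
    have hgbv : g * b * g⁻¹ ≠ v := fun e0 => hbv (by
      have := congrArg (fun z => g⁻¹ * z * g) (e0.trans hg.symm); simpa [mul_assoc] using this)
    have hgc1 : g * c * g⁻¹ ≠ 1 := fun e0 => hc1 (by
      have := congrArg (fun z => g⁻¹ * z * g) e0; simpa [mul_assoc] using this)
    have hgcv : g * c * g⁻¹ ≠ v := fun e0 => hcv (by
      have := congrArg (fun z => g⁻¹ * z * g) (e0.trans hg.symm); simpa [mul_assoc] using this)
    -- reduce to a generator pattern
    have hred : ∀ (h : M) (p r : M), Maps h v b c v p r → act D h f = f →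
        (g * b * g⁻¹ = p ∨ g * b * g⁻¹ = p * v) → (g * c * g⁻¹ = r ∨ g * c * g⁻¹ = r * v) →
        act D g f = f := by
      intro h p r hm hhf hp hr
      obtain ⟨i1, i2, i3⟩ := hm.inv
      have h1 : h⁻¹ * g * v * (h⁻¹ * g)⁻¹ = v := by
        calc h⁻¹ * g * v * (h⁻¹ * g)⁻¹ = h⁻¹ * (g * v * g⁻¹) * h⁻¹⁻¹ := by group
          _ = v := by rw [hg, i1]
      have hmv : ∀ (x y z : M), g * x * g⁻¹ = y ∨ g * x * g⁻¹ = y * v → h⁻¹ * y * h⁻¹⁻¹ = z →
          h⁻¹ * g * x * (h⁻¹ * g)⁻¹ = z ∨ h⁻¹ * g * x * (h⁻¹ * g)⁻¹ = z * v := by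
        intro x y z hor hz
        rw [show h⁻¹ * g * x * (h⁻¹ * g)⁻¹ = h⁻¹ * (g * x * g⁻¹) * h⁻¹⁻¹ by group]
        rcases hor with e0 | e0 <;> rw [e0]
        · exact Or.inl hz
        · right; rw [mc, hz, i1]
      have hel : h⁻¹ * g ∈ elations D hv :=
        mem_elations_of_maps D hG h1 (hmv b p b hp i2) (hmv c r c hr i3)
      have := congrArg (act D h) (hfU _ hel)
      rwa [hhf, ← act_mul, mul_inv_cancel_left] at this
    have hne : ∀ {p : M}, p ∈ V → (g * b * g⁻¹ = p ∨ g * b * g⁻¹ = p * v) →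
        (g * c * g⁻¹ = p ∨ g * c * g⁻¹ = p * v) → False := by
      intro p hp h1 h2
      have hbc : g * (b * c) * g⁻¹ = 1 ∨ g * (b * c) * g⁻¹ = v := by
        rw [mc]
        rcases h1 with e0 | e0 <;> rcases h2 with e1 | e1 <;> rw [e0, e1]
        · exact Or.inl (D.inv.mul_self hp)
        · right; rw [← mul_assoc, D.inv.mul_self hp, one_mul]
        · right; rw [mul_assoc, D.inv.comm hv hp, ← mul_assoc, D.inv.mul_self hp, one_mul]
        · exact Or.inl (D.inv.mul_self (mul_mem hp hv))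
      rcases hbc with e0 | e0
      · have : b * c = 1 := by
          have := congrArg (fun z => g⁻¹ * z * g) e0; simpa [mul_assoc] using this
        exact hcb (by rw [mul_eq_one_iff_eq_inv.1 this, D.inv.inv_eq hc])
      · have : b * c = v := by
          have := congrArg (fun z => g⁻¹ * z * g) (e0.trans hg.symm); simpa [mul_assoc] using this
        exact hcvb (by rw [← this, mul_assoc, D.inv.comm hc hb, ← mul_assoc, D.inv.mul_self hb, one_mul])
    have hclass : ∀ x ∈ V, x ≠ 1 → x ≠ v →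
        (x = b ∨ x = b * v) ∨ (x = c ∨ x = c * v) ∨ (x = b * c ∨ x = b * c * v) := by
      intro x hx hx1 hxv
      rcases seven_cases D hG hx with h | h | h | h | h | h | h | h <;> tauto
    have hbcb : b * c * b = c := by rw [mul_assoc, D.inv.comm hc hb, ← mul_assoc, D.inv.mul_self hb, one_mul]
    have mww : Maps (w * w) v b c v (b * c) b := by
      refine Maps.comp mw ⟨mw.1, mw.2.2, ?_⟩
      rw [mc, mw.2.1, mw.2.2, D.inv.comm hb hc, ← mul_assoc, D.inv.mul_self hc, one_mul]
    rcases hclass _ (D.inv.conj_mem hb g) hgb1 hgbv with p | p | p <;>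
      rcases hclass _ (D.inv.conj_mem hc g) hgc1 hgcv with r | r | r
    · exact (hne hb p r).elim
    · exact hred 1 b c ⟨by group, by group, by group⟩ (act_one D f) p r
    · exact hred (s * w) b (b * c) (Maps.comp mw ⟨ms.1, ms.2.2, by rw [mc, ms.2.1, ms.2.2, D.inv.comm hc hb]⟩)
        (by rw [act_mul, hfw, hfs]) p r
    · exact hred s c b ms hfs p r
    · exact (hne hc p r).elim
    · exact hred w c (b * c) mw hfw p r
    · exact hred (w * w) (b * c) b mww (by rw [act_mul, hfw, hfw]) p r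
    · refine hred (s * (w * w)) (b * c) c
        (Maps.comp mww ⟨ms.1, by rw [mc, ms.2.1, ms.2.2, D.inv.comm hc hb], ms.2.1⟩)
        (by rw [act_mul, act_mul, hfw, hfw, hfs]) p r
    · exact (hne (mul_mem hb hc) p r).elim
  -- existence
  obtain ⟨e0, he01, he0w⟩ := exists_w_fixed D hG mw hne
  by_cases he0U : UFix D hv e0
  · exact ⟨e0, he01, he0U, he0w⟩
  by_contra hcon
  push Not at hcon
  have hn1 : act D u1 e0 ≠ e0 := fun h => he0U (hone e0 he0w (Or.inl h))
  have hn2 : act D u2 e0 ≠ e0 := fun h => he0U (hone e0 he0w (Or.inr (Or.inl h)))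
  have hn3 : act D u3 e0 ≠ e0 := fun h => he0U (hone e0 he0w (Or.inr (Or.inr h)))
  have e11 : ∀ e, act D u1 (act D u1 e) = e := fun e => by
    rw [← act_mul]
    exact act_eq_self D hG (Maps.comp m1 ⟨m1.1, by
      rw [mc, m1.2.1, m1.1, mul_assoc, D.inv.mul_self hv, mul_one], m1.2.2⟩) e
  have e22 : ∀ e, act D u2 (act D u2 e) = e := fun e => by
    rw [← act_mul]
    exact act_eq_self D hG (Maps.comp m2 ⟨m2.1, m2.2.1, by
      rw [mc, m2.2.2, m2.1, mul_assoc, D.inv.mul_self hv, mul_one]⟩) e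
  have h3' : ∀ e, act D u3 e = act D u1 (act D u2 e) := fun e => act_mul D u1 u2 e
  have n12 : act D u1 e0 ≠ act D u2 e0 := by
    intro h
    exact hn3 (by rw [h3', ← h, e11])
  have n13 : act D u1 e0 ≠ act D u3 e0 := by
    intro h
    rw [h3'] at h
    exact hn2 (act_injective D u1 h).symm
  have n21 : ∀ e, act D u1 (act D u2 e) = act D u2 (act D u1 e) := fun e => by
    rw [← act_mul, ← act_mul]
    exact act_eq D hG m3 (Maps.comp m1 ⟨m2.1, by rw [mc, m2.2.1, m2.1], m2.2.2⟩) e
  have n23 : act D u2 e0 ≠ act D u3 e0 := by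
    intro h
    rw [h3', n21] at h
    exact hn1 (act_injective D u2 h).symm
  -- a second point, fixed by the elations
  have hwv : w * v * w⁻¹ = v := mw.1
  have hw3 : ∀ e, act D w (act D w (act D w e)) = e := by
    intro e
    rw [← act_mul, ← act_mul, mul_assoc]
    have m' : Maps w v c (b * c) v (b * c) b := by
      refine ⟨mw.1, mw.2.2, ?_⟩
      rw [mc, mw.2.1, mw.2.2, D.inv.comm hb hc, ← mul_assoc, D.inv.mul_self hc, one_mul]
    refine act_eq_self D hG (Maps.comp (Maps.comp mw m') ⟨mw.1, ?_, mw.2.1⟩) e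
    exact m'.2.2
  obtain ⟨e1, he11, he1U⟩ : ∃ e : W V T, e ≠ 1 ∧ UFix D hv e := by
    haveI : Fact (Nat.Prime 2) := ⟨Nat.prime_two⟩
    letI : MulAction (elations D hv) (W V T) :=
      { smul := fun g e => act D (g : M) e
        one_smul := fun e => act_one D e
        mul_smul := fun g h e => act_mul D (g : M) h e }
    obtain ⟨e, he, he1⟩ := (elations_two D hv).exists_fixed_point_of_prime_dvd_card_of_fixed_point
      (W V T) (by rw [h64]; norm_num) (a := (1 : W V T)) (fun g => act_e_one D (g : M))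
    exact ⟨e, Ne.symm he1, fun u hu => he ⟨u, hu⟩⟩
  have hwe1 : act D w e1 ≠ e1 := fun h => hcon e1 he11 he1U h
  set f1 := act D w e1 with hf1
  set f2 := act D w f1 with hf2
  have hwf2 : act D w f2 = e1 := hw3 e1
  have hne12 : f1 ≠ f2 := fun h => hwe1 (act_injective D w (h.symm.trans rfl))
  have hne02 : e1 ≠ f2 := by
    intro h
    have : act D w e1 = e1 := by conv_lhs => rw [h, hwf2]
    exact hwe1 this
  have hf1U : UFix D hv f1 := ufix_act D hv he1U hwv
  have hf2U : UFix D hv f2 := ufix_act D hv hf1U hwv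
  have hf11 : f1 ≠ 1 := fun h => he11 (act_injective D w (h.trans (act_e_one D w).symm))
  have hf21 : f2 ≠ 1 := fun h => hf11 (act_injective D w (h.trans (act_e_one D w).symm))
  have hu3 : u3 ∈ elations D hv := mul_mem hu1 hu2
  set O : Finset (W V T) := {e0, act D u1 e0, act D u2 e0, act D u3 e0, e1, f1, f2} with hO
  have hsep : ∀ u ∈ elations D hv, ∀ f, UFix D hv f → act D u e0 ≠ f := fun u hu f hf h =>
    he0U (ufix_inv D hv hu (h ▸ hf))
  have hsep0 : ∀ f, UFix D hv f → e0 ≠ f := fun f hf h => he0U (h ▸ hf)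
  have hO7 : O.card = 7 := by
    rw [hO, Finset.card_insert_of_notMem, Finset.card_insert_of_notMem, Finset.card_insert_of_notMem,
      Finset.card_insert_of_notMem, Finset.card_insert_of_notMem, Finset.card_insert_of_notMem,
      Finset.card_singleton]
    · simp only [Finset.mem_singleton]; exact hne12
    · simp only [Finset.mem_insert, Finset.mem_singleton, not_or]; exact ⟨Ne.symm hwe1, hne02⟩
    · simp only [Finset.mem_insert, Finset.mem_singleton, not_or]
      exact ⟨hsep u3 hu3 _ he1U, hsep u3 hu3 _ hf1U, hsep u3 hu3 _ hf2U⟩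
    · simp only [Finset.mem_insert, Finset.mem_singleton, not_or]
      exact ⟨n23, hsep u2 hu2 _ he1U, hsep u2 hu2 _ hf1U, hsep u2 hu2 _ hf2U⟩
    · simp only [Finset.mem_insert, Finset.mem_singleton, not_or]
      exact ⟨n12, n13, hsep u1 hu1 _ he1U, hsep u1 hu1 _ hf1U, hsep u1 hu1 _ hf2U⟩
    · simp only [Finset.mem_insert, Finset.mem_singleton, not_or]
      exact ⟨Ne.symm hn1, Ne.symm hn2, Ne.symm hn3, hsep0 _ he1U, hsep0 _ hf1U, hsep0 _ hf2U⟩
  have e0F : e0 ∈ F := by
    show ((qW D e0 : V) : M) = v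
    have hfix : w * (qW D e0 : M) * w⁻¹ = (qW D e0 : M) := by rw [← qW_act, he0w]
    have hne1 : ((qW D e0 : V) : M) ≠ 1 := fun h => he01 (qW_eq_one D e0 (Subtype.ext h))
    have hb0 : ∀ {y : M}, y = y * b → False := fun h => hb1 (left_eq_mul.1 h)
    rcases seven_cases D hG (qW D e0).2 with hq | hq | hq | hq | hq | hq | hq | hq
    · exact absurd hq hne1
    · exact hq
    · rw [hq, mw.2.1] at hfix; exact (hcb hfix).elim
    · rw [hq, mc, mw.2.1, mw.1] at hfix; exact (hcb (mul_right_cancel hfix)).elim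
    · rw [hq, mw.2.2] at hfix; exact (hb1 (mul_eq_right.1 hfix)).elim
    · rw [hq, mc, mw.2.2, mw.1] at hfix; exact (hb1 (mul_eq_right.1 (mul_right_cancel hfix))).elim
    · rw [hq, mc, mw.2.1, mw.2.2, D.inv.comm hb hc, ← mul_assoc, D.inv.mul_self hc, one_mul] at hfix
      exact (hc1 (right_eq_mul.1 hfix)).elim
    · rw [hq, mc, mc, mw.2.1, mw.2.2, mw.1, D.inv.comm hb hc, ← mul_assoc, D.inv.mul_self hc,
        one_mul] at hfix
      exact (hc1 (right_eq_mul.1 (mul_right_cancel hfix))).elim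
  have hOF : ∀ p ∈ O, p ∈ F := by
    intro p hp
    simp only [hO, Finset.mem_insert, Finset.mem_singleton] at hp
    rcases hp with h | h | h | h | h | h | h <;> rw [h]
    · exact e0F
    · exact hFact u1 m1.1 _ e0F
    · exact hFact u2 m2.1 _ e0F
    · exact hFact u3 m3.1 _ e0F
    · exact hqe _ he11 he1U
    · exact hqe _ hf11 hf1U
    · exact hqe _ hf21 hf2U
  have hdiff : (F \ (O : Set (W V T))).ncard = 2 := by
    rw [Set.ncard_sdiff (fun p hp => hOF p hp) (Set.toFinite _), Set.ncard_coe_finset, hF9, hO7]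
  obtain ⟨p, q, hpq, hpqs⟩ := Set.ncard_eq_two.1 hdiff
  -- invariance of the rest
  have o0 : e0 ∈ O := by rw [hO]; exact Finset.mem_insert_self _ _
  have o1 : act D u1 e0 ∈ O := by
    rw [hO]; exact Finset.mem_insert_of_mem (Finset.mem_insert_self _ _)
  have o2 : act D u2 e0 ∈ O := by
    rw [hO]; exact Finset.mem_insert_of_mem (Finset.mem_insert_of_mem (Finset.mem_insert_self _ _))
  have o3 : act D u3 e0 ∈ O := by
    rw [hO]
    exact Finset.mem_insert_of_mem (Finset.mem_insert_of_mem (Finset.mem_insert_of_mem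
      (Finset.mem_insert_self _ _)))
  have o4 : e1 ∈ O := by
    rw [hO]
    exact Finset.mem_insert_of_mem (Finset.mem_insert_of_mem (Finset.mem_insert_of_mem
      (Finset.mem_insert_of_mem (Finset.mem_insert_self _ _))))
  have o5 : f1 ∈ O := by
    rw [hO]
    exact Finset.mem_insert_of_mem (Finset.mem_insert_of_mem (Finset.mem_insert_of_mem
      (Finset.mem_insert_of_mem (Finset.mem_insert_of_mem (Finset.mem_insert_self _ _)))))
  have o6 : f2 ∈ O := by
    rw [hO]
    exact Finset.mem_insert_of_mem (Finset.mem_insert_of_mem (Finset.mem_insert_of_mem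
      (Finset.mem_insert_of_mem (Finset.mem_insert_of_mem (Finset.mem_insert_of_mem
        (Finset.mem_singleton_self _))))))
  have hcase : ∀ r ∈ O, r = e0 ∨ r = act D u1 e0 ∨ r = act D u2 e0 ∨ r = act D u3 e0 ∨
      r = e1 ∨ r = f1 ∨ r = f2 := by
    intro r hr
    rw [hO, Finset.mem_insert, Finset.mem_insert, Finset.mem_insert, Finset.mem_insert,
      Finset.mem_insert, Finset.mem_insert, Finset.mem_singleton] at hr
    exact hr
  have hmapU : ∀ u ∈ elations D hv, ∀ r ∈ O, act D u r ∈ O := by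
    intro u hu r hr
    rcases hcase r hr with h | h | h | h | h | h | h <;> rw [h]
    · rcases hfour u hu e0 with e | e | e | e <;> rw [e]
      exacts [o0, o1, o2, o3]
    · rcases hfour u hu (act D u1 e0) with e | e | e | e <;> rw [e]
      · exact o1
      · rw [e11]; exact o0
      · rw [← n21, ← h3']; exact o3
      · rw [h3', ← n21, e11]; exact o2
    · rcases hfour u hu (act D u2 e0) with e | e | e | e <;> rw [e]
      · exact o2
      · rw [← h3']; exact o3
      · rw [e22]; exact o0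
      · rw [h3', e22]; exact o1
    · rcases hfour u hu (act D u3 e0) with e | e | e | e <;> rw [e]
      · exact o3
      · rw [h3', e11]; exact o2
      · rw [h3', ← n21, e22]; exact o1
      · rw [h3' (act D u3 e0), h3' e0, ← n21, e22, e11]; exact o0
    · rw [he1U u hu]; exact o4
    · rw [hf1U u hu]; exact o5
    · rw [hf2U u hu]; exact o6
  have hmapw : ∀ r ∈ O, act D w r ∈ O := by
    intro r hr
    obtain ⟨w13, w32, w21⟩ := hww e0
    rw [act_mul D w, act_mul D u3, he0w] at w13
    rw [act_mul D w, act_mul D u2, he0w] at w32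
    rw [act_mul D w, act_mul D u1, he0w] at w21
    rcases hcase r hr with h | h | h | h | h | h | h <;> rw [h]
    · rw [he0w]; exact o0
    · rw [w13]; exact o3
    · rw [w21]; exact o1
    · rw [w32]; exact o2
    · rw [← hf1]; exact o5
    · rw [← hf2]; exact o6
    · rw [hwf2]; exact o4
  have hrest : ∀ g : M, g * v * g⁻¹ = v → (∀ r ∈ O, act D g r ∈ O) →
      ∀ r, r ∈ ({p, q} : Set (W V T)) → act D g r ∈ ({p, q} : Set (W V T)) := by
    intro g hg hgO r hr
    rw [← hpqs] at hr ⊢
    refine ⟨hFact g hg r hr.1, fun hm => hr.2 ?_⟩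
    have himg : O.image (act D g) = O := Finset.eq_of_subset_of_card_le
      (fun x hx => by obtain ⟨y, hy, rfl⟩ := Finset.mem_image.1 hx; exact hgO y hy)
      (by rw [Finset.card_image_of_injective _ (act_injective D g)])
    have hm' : act D g r ∈ O.image (act D g) := by rw [himg]; exact hm
    obtain ⟨y, hy, hyr⟩ := Finset.mem_image.1 hm'
    rw [← act_injective D g hyr]; exact hy
  have hpin : p ∈ ({p, q} : Set (W V T)) := Or.inl rfl
  have hpmem : p ∈ F \ (O : Set (W V T)) := hpqs ▸ hpin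
  have hp1 : p ≠ 1 := fun h => by
    have := hpmem.1
    rw [h] at this
    rw [hF, Set.mem_setOf_eq, qW_one] at this
    exact hv1 this.symm
  have hwp : act D w p = p := by
    rcases hrest w hwv hmapw p hpin with h | h
    · exact h
    · exfalso
      rcases hrest w hwv hmapw q (Or.inr rfl) with h' | h'
      · have := hw3 p
        rw [h, h', h] at this
        exact hpq this.symm
      · exact hpq (act_injective D w (h.trans h'.symm))
  refine hcon p hp1 (hone p hwp ?_) hwp
  rcases hrest u1 m1.1 (hmapU u1 hu1) p hpin with h | h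
  · exact Or.inl h
  rcases hrest u2 m2.1 (hmapU u2 hu2) p hpin with h' | h'
  · exact Or.inr (Or.inl h')
  refine Or.inr (Or.inr ?_)
  rw [h3', show act D u2 p = q from h', ← show act D u1 p = q from h, e11]

end CfsgLib.InvolNormal.SevenNA
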