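import Cfsg.Agent.Lib.InvolNormal.Rigid

/-!
# In the rigid case `|V| = 8`
-/

set_option autoImplicit false

namespace CfsgLib.InvolNormal

open Subgroup

universe u

variable {G : Type u} [Group G] [Finite G] {V : Subgroup G}

/-- Conjugation on `V` as an automorphism. -/
def actV (h : InvV G V) (g : G) : MulAut V where
  toFun v := ⟨g * v * g⁻¹, h.conj_mem v.2 g⟩
  invFun v := ⟨g⁻¹ * v * g, by simpa using h.conj_mem v.2 g⁻¹⟩
  left_inv v := Subtype.ext (by show g⁻¹ * (g * (v : G) * g⁻¹) * g = v; group)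
  right_inv v := Subtype.ext (by show g * (g⁻¹ * (v : G) * g) * g⁻¹ = v; group)
  map_mul' a b := Subtype.ext (by
    show g * ((a : G) * b) * g⁻¹ = g * a * g⁻¹ * (g * b * g⁻¹); group)

theorem actV_mul (h : InvV G V) (a b : G) : actV h (a * b) = actV h a * actV h b := by
  ext v
  show a * b * (v : G) * (a * b)⁻¹ = a * (b * v * b⁻¹) * a⁻¹
  group

theorem actV_one (h : InvV G V) : actV h 1 = 1 := by
  ext v
  show (1 : G) * v * 1⁻¹ = v
  group

/-- The conjugation homomorphism. -/
def actHom (h : InvV G V) : G →* MulAut V where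
  toFun := actV h
  map_one' := actV_one h
  map_mul' := actV_mul h

theorem actHom_eq_one (h : InvV G V) (g : G) :
    actHom h g = 1 ↔ g ∈ centralizer (V : Set G) := by
  rw [mem_centralizer_iff]
  constructor
  · intro e v hv
    have := congrArg Subtype.val (DFunLike.congr_fun e ⟨v, hv⟩)
    exact (mul_inv_eq_iff_eq_mul.1 (this : g * v * g⁻¹ = v)).symm
  · intro e
    ext v
    show g * (v : G) * g⁻¹ = v
    rw [mul_inv_eq_iff_eq_mul]
    exact (e v v.2).symm

theorem actHom_fix (h : InvV G V) (g : G) (v : V) : actHom h g v = v ↔ g * v = v * g := by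
  rw [Subtype.ext_iff]
  show g * (v : G) * g⁻¹ = v ↔ _
  exact mul_inv_eq_iff_eq_mul

/-- The commutative group structure on `V`. -/
abbrev commV (h : InvV G V) : CommGroup V :=
  { (inferInstance : Group V) with mul_comm := fun a b => Subtype.ext (h.comm a.2 b.2) }

theorem card_pow_two (h : InvV G V) : ∃ n, Nat.card V = 2 ^ n :=
  IsPGroup.iff_card.1 fun v => ⟨1, Subtype.ext (by simpa [pow_two] using h.mul_self v.2)⟩

/-- The image of `v ↦ g v g⁻¹ v`. -/
def moveV (h : InvV G V) (g : G) : Subgroup V :=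
  letI := commV h
  (diffHom (actHom h g)).range

/-- An inverted element with one fixed point. -/
theorem card_of_inverted (h : InvV G V) [(centralizer (V : Set G)).Normal] {x w : G} {r : ℕ}
    (hrig : Rigid G V) (hr : r.Prime) (hr2 : r ≠ 2)
    (hw : orderOf (QuotientGroup.mk' (centralizer (V : Set G)) w) = r)
    (hinv : QuotientGroup.mk' (centralizer (V : Set G)) (x * w * x⁻¹) =
      (QuotientGroup.mk' (centralizer (V : Set G)) w)⁻¹)
    (hx : x ∉ centralizer (V : Set G)) (hx2 : x * x ∈ centralizer (V : Set G)) :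
    ∃ c : V, (c : G) ≠ 1 ∧ (∀ v ∈ V, v ≠ 1 → w * v = v * w → v = c) ∧ c ∉ moveV h x ∧
      Nat.card V = 2 * Nat.card (moveV h x) ^ 2 := by
  classical
  set K := centralizer (V : Set G) with hK
  obtain ⟨c, hcV, hc1, hwc⟩ := exists_fixed_of_inverted h hr hr2 hw hinv hx hx2
  have huniq : ∀ v ∈ V, v ≠ 1 → w * v = v * w → v = c := by
    intro v hv hv1 hwv
    by_contra hne
    obtain ⟨w', hk, hw'w, hgen⟩ := exists_primePow_lift (w := w) (K := K) hr hw
    obtain ⟨i, rfl⟩ := hw'w
    have hmem := hrig v hv c hcV hv1 hc1 hne r hr hr2 (w ^ i) hk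
      ((show Commute w v from hwv).zpow_left i).eq ((show Commute w c from hwc).zpow_left i).eq
    have h1 : QuotientGroup.mk' K (w ^ i) = 1 := (QuotientGroup.eq_one_iff _).2 hmem
    have h2 : QuotientGroup.mk' K w ∈ zpowers (QuotientGroup.mk' K (w ^ i)) :=
      hgen ▸ mem_zpowers _
    rw [h1, zpowers_one_eq_bot, Subgroup.mem_bot] at h2
    rw [h2, orderOf_one] at hw
    exact hr.one_lt.ne hw
  letI := commV h
  have hσ : actHom h w ^ r = 1 := by
    rw [← map_pow, actHom_eq_one, ← QuotientGroup.eq_one_iff, ← QuotientGroup.mk'_apply, map_pow,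
      ← hw, pow_orderOf_eq_one]
  have hτ : actHom h x * actHom h x = 1 := by rw [← map_mul, actHom_eq_one]; exact hx2
  have hinv' : actHom h x * actHom h w * (actHom h x)⁻¹ = (actHom h w)⁻¹ := by
    rw [← map_inv, ← map_inv, ← map_mul, ← map_mul, ← mul_inv_eq_one, ← map_inv, inv_inv, ← map_mul,
      actHom_eq_one, ← QuotientGroup.eq_one_iff, ← QuotientGroup.mk'_apply, map_mul,
      hinv, inv_mul_cancel]
  obtain ⟨-, h2, h3⟩ := free_of_inverted (fun a : V => Subtype.ext (h.mul_self a.2))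
    (actHom h w) (actHom h x) (hr.odd_of_ne_two hr2) hσ hτ hinv' (c := ⟨c, hcV⟩)
    (fun e => hc1 (congrArg Subtype.val e)) ((actHom_fix h _ _).2 hwc) (fun a ha => by
      by_cases ha1 : a = 1
      · exact Or.inl ha1
      · exact Or.inr (Subtype.ext (huniq a a.2 (fun e => ha1 (Subtype.ext e))
          ((actHom_fix h _ _).1 ha))))
  exact ⟨⟨c, hcV⟩, hc1, huniq, h2, h3⟩

/-- If conjugates of `a` by `S` cover the non-trivial elements of `A`, a normal subgroup of `S`
acting as a `2`-group fixing `a` fixes `A`. -/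
theorem fixed_conj {G : Type*} [Group G] {N S : Subgroup G} (hNn : ∀ s ∈ S, ∀ n ∈ N, s⁻¹ * n * s ∈ N)
    {s a : G} (hs : s ∈ S) (ha : ∀ n ∈ N, n * a * n⁻¹ = a) : ∀ n ∈ N,
      n * (s * a * s⁻¹) * n⁻¹ = s * a * s⁻¹ := by
  intro n hn
  calc n * (s * a * s⁻¹) * n⁻¹ = s * ((s⁻¹ * n * s) * a * (s⁻¹ * n * s)⁻¹) * s⁻¹ := by group
    _ = s * a * s⁻¹ := by rw [ha _ (hNn s hs n hn)]

/-- An element of order two modulo the centraliser moves a subgroup `M` with `|V| = 2 |M|²`. -/
theorem exists_inverted (h : InvV G V) [(centralizer (V : Set G)).Normal] (S : Subgroup G)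
    (hS : ∀ N : Subgroup G, N ≤ S → (∀ s ∈ S, ∀ n ∈ N, s⁻¹ * n * s ∈ N) →
      IsPGroup 2 (N.map (QuotientGroup.mk' (centralizer (V : Set G)))) →
      N ≤ centralizer (V : Set G))
    {x : G} (hxS : x ∈ S) (hx : x ∉ centralizer (V : Set G))
    (hx2 : x * x ∈ centralizer (V : Set G)) :
    ∃ w ∈ S, ∃ r : ℕ, r.Prime ∧ r ≠ 2 ∧
      orderOf (QuotientGroup.mk' (centralizer (V : Set G)) w) = r ∧
      QuotientGroup.mk' (centralizer (V : Set G)) (x * w * x⁻¹) =
        (QuotientGroup.mk' (centralizer (V : Set G)) w)⁻¹ := by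
  set K := centralizer (V : Set G) with hK
  set π := QuotientGroup.mk' K with hπ
  set Q := S.map π with hQ
  have hxQ : π x ∈ Q := mem_map_of_mem π hxS
  obtain ⟨⟨y, hy⟩, r, hr, hr2, hor, hinv⟩ := CfsgLib.FgsB.exists_odd_prime_inverted_by
    (t := (⟨π x, hxQ⟩ : Q)) (Subtype.ext (by
      show π x ^ 2 = 1
      rw [pow_two, ← map_mul]; exact (QuotientGroup.eq_one_iff _).2 hx2))
    (fun N hN hNp hxN => by
      set N' := (N.map Q.subtype).comap π ⊓ S with hN'
      have hmap : ∀ z : G, z ∈ N' → ∃ hz : π z ∈ Q, (⟨π z, hz⟩ : Q) ∈ N := by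
        rintro z ⟨⟨⟨q, hq⟩, hqN, hqz⟩, -⟩
        simp only [Subgroup.coe_subtype] at hqz
        subst hqz
        exact ⟨hq, hqN⟩
      have hxN' : x ∈ N' := ⟨⟨_, hxN, rfl⟩, hxS⟩
      refine hx (hS N' inf_le_right ?_ ?_ hxN')
      · intro s hs n hn
        obtain ⟨hq, hn'⟩ := hmap n hn
        have := hN.conj_mem _ hn' (⟨π s, mem_map_of_mem π hs⟩ : Q)⁻¹
        have hnS : n ∈ S := (mem_inf.1 hn).2
        refine mem_inf.2 ⟨mem_comap.2 ⟨_, this, ?_⟩, mul_mem (mul_mem (inv_mem hs) hnS) hs⟩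
        simp
      · refine (hNp.map Q.subtype).to_le ?_
        rw [map_le_iff_le_comap]
        exact inf_le_left)
  obtain ⟨w, hwS, rfl⟩ := hy
  refine ⟨w, hwS, r, hr, hr2, ?_, ?_⟩
  · rw [← hor]
    exact (Subgroup.orderOf_mk _ _).symm
  · have := congrArg Subtype.val hinv
    simpa using this

/-- In the rigid case `|V| = 8`. -/
theorem card_eq_eight (h : InvV G V) (h2 : Two2 G V) (hrig : Rigid G V) (h4 : 4 ≤ Nat.card V) :
    Nat.card V = 8 := by
  classical
  haveI := centralizer_normal h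
  haveI : Fact (Nat.Prime 2) := ⟨Nat.prime_two⟩
  set K := centralizer (V : Set G) with hK
  set π := QuotientGroup.mk' K with hπ
  obtain ⟨d, hd⟩ := card_pow_two h
  -- two distinct elements
  haveI : Nontrivial V := Finite.one_lt_card_iff_nontrivial.1 (by omega)
  obtain ⟨a, ha⟩ := exists_ne (1 : V)
  obtain ⟨b, hb1, hba⟩ : ∃ b : V, b ≠ 1 ∧ b ≠ a := by
    by_contra hcon
    push Not at hcon
    have : Nat.card V ≤ 2 := by
      rw [← Nat.card_univ (α := V), Nat.card_coe_set_eq]
      calc (Set.univ : Set V).ncard ≤ ({1, a} : Set V).ncard :=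
            Set.ncard_le_ncard (fun z _ => by
              by_cases hz : z = 1
              · exact Or.inl hz
              · exact Or.inr (hcon z hz)) (Set.toFinite _)
        _ ≤ 2 := (Set.ncard_insert_le _ _).trans (by rw [Set.ncard_singleton])
    omega
  have ha1 : (a : G) ≠ 1 := fun e => ha (Subtype.ext e)
  have hb1' : (b : G) ≠ 1 := fun e => hb1 (Subtype.ext e)
  have hab : (a : G) ≠ b := fun e => hba (Subtype.ext e.symm)
  have htr : ∀ u ∈ V, ∀ v ∈ V, u ≠ 1 → v ≠ 1 → ∃ g : G, g * u * g⁻¹ = v := by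
    intro u hu v hv hu1 hv1
    have hother : ∀ z : G, ∃ z' ∈ V, z' ≠ 1 ∧ z ≠ z' := by
      intro z
      by_cases hz : z = a
      · exact ⟨b, b.2, hb1', hz ▸ hab⟩
      · exact ⟨a, a.2, ha1, hz⟩
    obtain ⟨u', hu', hu1', huu⟩ := hother u
    obtain ⟨v', hv', hv1', hvv⟩ := hother v
    obtain ⟨g, hg, -⟩ := h2 u hu u' hu' v hv v' hv' hu1 hu1' hv1 hv1' huu hvv
    exact ⟨g, hg⟩
  -- a `2`-group fixes something
  have hact : ∀ N : Subgroup G, IsPGroup 2 (N.map π) →
      IsPGroup 2 (N.map (actHom h)) := by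
    intro N hN
    let f : G ⧸ K →* MulAut V := QuotientGroup.lift K (actHom h) fun k hk =>
      (actHom_eq_one h k).2 hk
    have e : N.map (actHom h) = (N.map π).map f := by
      rw [Subgroup.map_map]
      rfl
    rw [e]
    exact hN.map f
  -- the whole group
  have hTop : ∀ N : Subgroup G, N ≤ ⊤ → (∀ s ∈ (⊤ : Subgroup G), ∀ n ∈ N, s⁻¹ * n * s ∈ N) →
      IsPGroup 2 (N.map π) → N ≤ K := by
    intro N _ hNn hN
    obtain ⟨v, hv, hv1⟩ : ∃ v : V, v ∈ MulAction.fixedPoints (N.map (actHom h)) V ∧ (1 : V) ≠ v :=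
      (hact N hN).exists_fixed_point_of_prime_dvd_card_of_fixed_point V
        (by rw [hd]; exact dvd_pow_self 2 (fun e => by rw [e, pow_zero] at hd; omega))
        (a := 1) (fun g => map_one (g : MulAut V))
    have hfv : ∀ n ∈ N, n * (v : G) * n⁻¹ = v := fun n hn =>
      congrArg Subtype.val (hv ⟨actHom h n, mem_map_of_mem _ hn⟩)
    intro n hn
    refine mem_centralizer_iff.2 fun z hz => ?_
    by_cases hz1 : z = 1
    · rw [hz1]; group
    obtain ⟨g, rfl⟩ := htr v v.2 z hz (fun e => hv1 (Subtype.ext e.symm)) hz1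
    exact (mul_inv_eq_iff_eq_mul.1 (fixed_conj hNn (mem_top g) hfv n hn)).symm
  have hmain : ∀ x : G, x ∉ K → x * x ∈ K → Nat.card V = 2 * Nat.card (moveV h x) ^ 2 := by
    intro x hx hx2
    obtain ⟨w, -, r, hr, hr2, hw, hinv⟩ := exists_inverted h ⊤ hTop (mem_top x) hx hx2
    obtain ⟨c, -, -, -, hc⟩ := card_of_inverted h hrig hr hr2 hw hinv hx hx2
    exact hc
  -- an element of order two modulo `K`
  obtain ⟨g, hg1, hg2⟩ := h2 a a.2 b b.2 b b.2 a a.2 ha1 hb1' hb1' ha1 hab hab.symm
  have hgev : 2 ∣ orderOf (π g) := by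
    by_contra hodd
    obtain ⟨m, hm⟩ := Nat.odd_iff.2 (Nat.two_dvd_ne_zero.1 hodd)
    have h1 : g ^ (orderOf (π g)) ∈ K := by
      rw [← QuotientGroup.eq_one_iff]; exact pow_orderOf_eq_one (π g)
    have h2' : actHom h (g ^ (orderOf (π g))) = 1 := (actHom_eq_one h _).2 h1
    have hsq : ∀ i : ℕ, ((actHom h g) ^ (2 * i)) a = a := by
      intro i
      induction i with
      | zero => simp
      | succ i ih =>
        rw [mul_add, mul_one, pow_add, MulAut.mul_apply]
        have : ((actHom h g) ^ 2) a = a := by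
          rw [pow_two, MulAut.mul_apply]
          refine Subtype.ext ?_
          show g * (g * (a : G) * g⁻¹) * g⁻¹ = a
          rw [hg1, hg2]
        rw [this, ih]
    rw [map_pow, hm, pow_succ'] at h2'
    have h3 := DFunLike.congr_fun h2' a
    rw [MulAut.mul_apply, hsq, MulAut.one_apply] at h3
    exact hab ((congrArg Subtype.val h3).symm.trans hg1)
  obtain ⟨m, hm⟩ := hgev
  have hmpos : 0 < m := by have := orderOf_pos (π g); omega
  set x := g ^ m with hxdef
  have hx : x ∉ K := by
    intro e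
    have h1 : π g ^ m = 1 := by rw [← map_pow]; exact (QuotientGroup.eq_one_iff _).2 e
    have := orderOf_le_of_pow_eq_one hmpos h1
    omega
  have hx2 : x * x ∈ K := by
    rw [← QuotientGroup.eq_one_iff, hxdef, ← pow_add, ← two_mul, ← hm]
    exact pow_orderOf_eq_one (π g)
  have hV := hmain x hx hx2
  by_contra hne
  -- the image of `x` is small or large
  obtain ⟨v, hvI, hv1⟩ : ∃ v : V, v ∈ moveV h x ∧ v ≠ 1 := by
    by_contra hcon
    push Not at hcon
    have : moveV h x = ⊥ := (Subgroup.eq_bot_iff_forall _).2 hcon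
    rw [this, Subgroup.card_bot] at hV
    omega
  have hI4 : 2 < Nat.card (moveV h x) := by
    by_contra hle
    interval_cases hh : Nat.card (moveV h x)
    all_goals omega
  have hv1' : (v : G) ≠ 1 := fun e => hv1 (Subtype.ext e)
  set S := centralizer ({(v : G)} : Set G) with hSdef
  have hxS : x ∈ S := by
    rw [mem_centralizer_singleton_iff]
    letI := commV h
    obtain ⟨z, hz⟩ := hvI
    have hxx : actHom h x (actHom h x z) = z := by
      rw [← MulAut.mul_apply, ← map_mul, (actHom_eq_one h _).2 hx2, MulAut.one_apply]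
    have hfix : actHom h x v = v := by
      rw [← hz, diffHom_apply, map_mul, hxx, mul_comm]
    exact (actHom_fix h x v).1 hfix
  have hSstab : ∀ N : Subgroup G, N ≤ S → (∀ s ∈ S, ∀ n ∈ N, s⁻¹ * n * s ∈ N) →
      IsPGroup 2 (N.map π) → N ≤ K := by
    intro N hNS hNn hN n₁ hn₁
    by_contra hn₁K
    -- an element of order two modulo `K` in `N`
    obtain ⟨k, hk⟩ := hN ⟨π n₁, mem_map_of_mem π hn₁⟩
    have hk' : π n₁ ^ 2 ^ k = 1 := congrArg Subtype.val hk
    have hex : ∃ j : ℕ, π n₁ ^ 2 ^ j = 1 := ⟨k, hk'⟩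
    have hj0 : Nat.find hex ≠ 0 := by
      intro e
      have := Nat.find_spec hex
      rw [e, pow_zero, pow_one] at this
      exact hn₁K ((QuotientGroup.eq_one_iff _).1 this)
    obtain ⟨j, hj⟩ := Nat.exists_eq_succ_of_ne_zero hj0
    set n := n₁ ^ 2 ^ j with hndef
    have hnN : n ∈ N := pow_mem hn₁ _
    have hnK : n ∉ K := fun e => Nat.find_min hex (m := j) (by omega)
      (by rw [← map_pow]; exact (QuotientGroup.eq_one_iff _).2 e)
    have hn2 : n * n ∈ K := by
      rw [← QuotientGroup.eq_one_iff, hndef, ← pow_add, ← two_mul, ← pow_succ', ← QuotientGroup.mk'_apply,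
        map_pow, ← hπ, ← Nat.succ_eq_add_one, ← hj]
      exact Nat.find_spec hex
    -- `N` fixes a coset other than the trivial one
    letI := commV h
    set A := zpowers v with hA
    have hA2 : Nat.card A = 2 := by
      rw [Nat.card_zpowers, orderOf_eq_prime (p := 2) (Subtype.ext (by
        simpa [pow_two] using h.mul_self v.2)) hv1]
    have hfixv : ∀ f ∈ N.map (actHom h), f v = v := by
      rintro _ ⟨m', hm', rfl⟩
      exact (actHom_fix h m' v).2 (mem_centralizer_singleton_iff.1 (hNS hm'))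
    have hstab : ∀ (f : N.map (actHom h)) (z : V), z ∈ A → (f : MulAut V) z ∈ A := by
      rintro ⟨f, hf⟩ _ ⟨i, rfl⟩
      refine ⟨i, ?_⟩
      show v ^ i = f (v ^ i)
      rw [map_zpow, hfixv f hf]
    letI : MulAction (N.map (actHom h)) (V ⧸ A) :=
      { smul := fun f => Quotient.map' (fun z => (f : MulAut V) z) (by
          intro p q hpq
          rw [QuotientGroup.leftRel_apply] at hpq ⊢
          rw [← map_inv, ← map_mul]
          exact hstab f _ hpq)
        one_smul := fun q => by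
          induction q using Quotient.inductionOn' with | _ z => rfl
        mul_smul := fun f f' q => by
          induction q using Quotient.inductionOn' with | _ z => rfl }
    have hquot : 2 ∣ Nat.card (V ⧸ A) := by
      have h1 := Subgroup.card_eq_card_quotient_mul_card_subgroup A
      rw [hA2, hV] at h1
      obtain ⟨e, he⟩ : ∃ e, Nat.card (moveV h x) = 2 ^ e := by
        have hp : IsPGroup 2 (moveV h x) := IsPGroup.to_subgroup
          (fun z => ⟨1, Subtype.ext (by simpa [pow_two] using h.mul_self z.2)⟩) _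
        exact IsPGroup.iff_card.1 hp
      have hqe : Nat.card (V ⧸ A) = Nat.card (moveV h x) ^ 2 := by omega
      rw [hqe, he, ← pow_mul]
      exact dvd_pow_self 2 (fun e0 => by
        rw [Nat.mul_eq_zero] at e0
        rcases e0 with e0 | e0
        · rw [he, e0] at hI4; omega
        · omega)
    obtain ⟨q, hq, hq1⟩ := (hact N hN).exists_fixed_point_of_prime_dvd_card_of_fixed_point (V ⧸ A)
      hquot (a := QuotientGroup.mk (1 : V)) (fun f => by
        show QuotientGroup.mk ((f : MulAut V) 1) = _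
        rw [map_one])
    obtain ⟨z, rfl⟩ := QuotientGroup.mk_surjective q
    have hzA : z ∉ A := fun e => hq1 ((QuotientGroup.eq).2 (by simpa using e))
    have hzv : (z : G) ≠ v := fun e => hzA (Subtype.ext e ▸ mem_zpowers v)
    have hz1 : (z : G) ≠ 1 := fun e => hzA (by rw [show z = 1 from Subtype.ext e]; exact one_mem _)
    have hmovz : ∀ n' ∈ N, n' * (z : G) * n'⁻¹ = z ∨ n' * (z : G) * n'⁻¹ = z * v := by
      intro n' hn'
      have h1 := hq ⟨actHom h n', mem_map_of_mem _ hn'⟩
      obtain ⟨i, hi⟩ := (QuotientGroup.eq).1 h1.symm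
      simp only at hi
      have h2' : n' * (z : G) * n'⁻¹ = z * (v : G) ^ i := by
        have := congrArg Subtype.val (show z * v ^ i = actHom h n' z by
          rw [hi, mul_inv_cancel_left])
        rw [Subgroup.coe_mul, Subgroup.coe_zpow] at this
        exact this.symm
      rcases Int.even_or_odd i with ⟨j', rfl⟩ | ⟨j', rfl⟩
      · left
        rw [h2', ← two_mul, zpow_mul, zpow_two, h.mul_self v.2, one_zpow, mul_one]
      · right
        rw [h2', zpow_add_one, zpow_mul, zpow_two, h.mul_self v.2, one_zpow, one_mul]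
    have hmov : ∀ n' ∈ N, ∀ u ∈ V, n' * u * n'⁻¹ = u ∨ n' * u * n'⁻¹ = u * v := by
      intro n' hn' u hu
      by_cases hu1 : u = 1
      · left; rw [hu1]; group
      by_cases huv : u = v
      · left
        rw [huv, mul_inv_eq_iff_eq_mul]
        exact mem_centralizer_singleton_iff.1 (hNS hn')
      obtain ⟨s, hs1, hs2⟩ := h2 v v.2 z z.2 v v.2 u hu hv1' hz1 hv1' hu1 (Ne.symm hzv) (Ne.symm huv)
      have hsS : s ∈ S := mem_centralizer_singleton_iff.2 (mul_inv_eq_iff_eq_mul.1 hs1)
      have hm' := hNn s hsS n' hn'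
      have e : n' * u * n'⁻¹ = s * ((s⁻¹ * n' * s) * z * (s⁻¹ * n' * s)⁻¹) * s⁻¹ := by
        rw [← hs2]; group
      rcases hmovz _ hm' with e' | e'
      · left; rw [e, e', hs2]
      · right
        rw [e, e']
        calc s * ((z : G) * v) * s⁻¹ = s * z * s⁻¹ * (s * v * s⁻¹) := by group
          _ = u * v := by rw [hs1, hs2]
    have hsub : moveV h n ≤ A := by
      rintro _ ⟨u, rfl⟩
      rcases hmov n hnN u u.2 with e | e
      · have : (diffHom (actHom h n)) u = 1 := Subtype.ext (by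
          show n * (u : G) * n⁻¹ * u = 1
          rw [e, h.mul_self u.2])
        rw [this]; exact one_mem _
      · have : (diffHom (actHom h n)) u = v := Subtype.ext (by
          show n * (u : G) * n⁻¹ * u = v
          rw [e, mul_assoc, h.comm v.2 u.2, ← mul_assoc, h.mul_self u.2, one_mul])
        rw [this]; exact mem_zpowers v
    have hVn := hmain n hnK hn2
    have hle := Subgroup.card_le_of_le hsub
    rw [hA2] at hle
    have : Nat.card V ≤ 8 := by rw [hVn]; nlinarith
    rw [hV] at this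
    nlinarith
  obtain ⟨w, hwS, r, hr, hr2, hw, hinv⟩ := exists_inverted h S hSstab hxS hx hx2
  obtain ⟨c, -, huniq, hcI, -⟩ := card_of_inverted h hrig hr hr2 hw hinv hx hx2
  exact hcI (Subtype.ext (huniq v v.2 hv1' (mem_centralizer_singleton_iff.1 hwS)) ▸ hvI)

end CfsgLib.InvolNormal
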