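import Cfsg.Agent.Lib.InvolNormal.NASection
import Cfsg.Agent.Lib.InvolNormal.RigidCard

/-!
# The nonabelian seven point case does not occur

An equivariant section `s : V → W` of the squaring map is a homomorphism with isotropic image `W₀`.
For `|W| = 8` this makes `T` abelian. For `|W| = 64` the image is its own orthogonal, so
`c ↦ (v ↦ ⟨c, s v⟩)` gives for all `a ≠ 1`, `b` exactly one map with `a ↦ b`; that map commutes with
the stabiliser of `a` and `b`, which is impossible.
-/

set_option autoImplicit false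
set_option linter.unusedSectionVars false
set_option linter.style.haveILetI false

namespace CfsgLib.InvolNormal.SevenNA

open Subgroup SevenAbelian

/-- An isotropic subgroup of half the dimension is its own orthogonal. -/
theorem mem_of_perp {A : Type*} [AddCommGroup A] [Finite A] (hA : ∀ x : A, x + x = 0)
    (f : A →+ A →+ ZMod 2) (hnd : ∀ y, (∀ x, f x y = 0) → y = 0) (W₀ : AddSubgroup A)
    (hiso : ∀ x ∈ W₀, ∀ y ∈ W₀, f x y = 0) (hcard : Nat.card A = Nat.card W₀ * Nat.card W₀)
    {c : A} (hc : ∀ y ∈ W₀, f c y = 0) : c ∈ W₀ := by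
  classical
  let res : A →+ (W₀ →+ ZMod 2) :=
    AddMonoidHom.mk' (fun x => (f x).comp W₀.subtype) fun x y => by
      ext z; simp
  set P := res.ker
  have hmem : ∀ x, x ∈ P ↔ ∀ y ∈ W₀, f x y = 0 := by
    intro x
    constructor
    · intro hx y hy
      exact DFunLike.congr_fun (AddMonoidHom.mem_ker.1 hx) ⟨y, hy⟩
    · intro hx
      exact AddMonoidHom.mem_ker.2 (AddMonoidHom.ext fun y => hx y.1 y.2)
  have hle : W₀ ≤ P := fun x hx => (hmem x).2 (hiso x hx)
  haveI : Finite (A ⧸ P →+ ZMod 2) :=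
    Finite.of_injective _ (DFunLike.coe_injective (F := A ⧸ P →+ ZMod 2))
  let ψ : W₀ → (A ⧸ P →+ ZMod 2) := fun y =>
    QuotientAddGroup.lift P (AddMonoidHom.flip f y.1) fun x hx => (hmem x).1 hx y.1 y.2
  have hψ : Function.Injective ψ := by
    intro y z e
    refine Subtype.ext (sub_eq_zero.1 (hnd _ fun x => ?_))
    have h : f x y.1 = f x z.1 := DFunLike.congr_fun e (QuotientAddGroup.mk x)
    rw [map_sub, h, sub_self]
  have hq : ∀ w : A ⧸ P, w + w = 0 := fun w => by
    induction w using QuotientAddGroup.induction_on with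
    | H x => rw [← QuotientAddGroup.mk_add, hA, QuotientAddGroup.mk_zero]
  haveI := Fintype.ofFinite (A ⧸ P)
  haveI := Fintype.ofFinite (A ⧸ P →+ ZMod 2)
  have h1 : Nat.card W₀ ≤ Nat.card (A ⧸ P) := by
    rw [Nat.card_eq_fintype_card (α := A ⧸ P), ← card_functionals hq, ← Nat.card_eq_fintype_card]
    exact Nat.card_le_card_of_injective ψ hψ
  have h2 := P.card_eq_card_quotient_mul_card_addSubgroup
  have h3 : Nat.card P ≤ Nat.card W₀ := by
    rw [hcard] at h2
    have h0 : 0 < Nat.card W₀ := Nat.card_pos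
    by_contra hlt
    have h4 := Nat.mul_le_mul h1 (Nat.succ_le_of_lt (not_le.1 hlt))
    rw [← h2, Nat.mul_succ] at h4
    omega
  rw [AddSubgroup.eq_of_le_of_card_ge hle h3]
  exact (hmem c).2 hc

universe u

variable {M : Type u} [Group M] [Finite M] {V T : Subgroup M}

/-- Only the identity of `V` is fixed by everything stabilising the line through `x` and `y`. -/
theorem line_fix (h : InvV M V) (hV : Nat.card V = 8) {x y c u g₁ g₂ g₃ : M} (hG : Good V x y c)
    (hu : u ∈ V) (h₁ : Maps g₁ x y c x y (c * x)) (h₂ : Maps g₂ x y c x (x * y) c)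
    (h₃ : Maps g₃ x y c (x * y) y c) (f₁ : g₁ * u * g₁⁻¹ = u) (f₂ : g₂ * u * g₂⁻¹ = u)
    (f₃ : g₃ * u * g₃⁻¹ = u) : u = 1 := by
  obtain ⟨i, j, l, rfl⟩ := span h hV hG hu
  obtain ⟨hx, hy, hc, -⟩ := id hG
  have h2 : ∀ {v : M}, v ∈ V → ∀ n : ℕ, 2 ∣ n → v ^ n = 1 := fun hv n ⟨k, hk⟩ => by
    rw [hk, pow_mul, pow_two, h.mul_self hv, one_pow]
  have hconj : ∀ g : M, g * (x ^ i * y ^ j * c ^ l) * g⁻¹ =
      (g * x * g⁻¹) ^ i * (g * y * g⁻¹) ^ j * (g * c * g⁻¹) ^ l := fun g => by
    rw [conj_pow, conj_pow, conj_pow]; group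
  rw [hconj, h₁.1, h₁.2.1, h₁.2.2, (show Commute c x from h.comm hc hx).mul_pow, mul_assoc] at f₁
  rw [hconj, h₂.1, h₂.2.1, h₂.2.2, (show Commute x y from h.comm hx hy).mul_pow] at f₂
  rw [hconj, h₃.1, h₃.2.1, h₃.2.2, (show Commute x y from h.comm hx hy).mul_pow] at f₃
  have hxl : x ^ l = 1 := by
    have e : c ^ l * x ^ l = c ^ l := by
      have := f₁
      rw [mul_assoc (x ^ i)] at this
      exact mul_left_cancel (mul_left_cancel this)
    simpa using e
  have hxj : x ^ j = 1 := by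
    have e := mul_right_cancel f₂
    have e' : x ^ j * y ^ j = y ^ j := mul_left_cancel e
    simpa using e'
  have hyi : y ^ i = 1 := by
    have e : x ^ i * y ^ i * y ^ j = x ^ i * y ^ j := mul_right_cancel f₃
    have e' : x ^ i * y ^ i = x ^ i := mul_right_cancel e
    simpa using e'
  have el : 2 ∣ l := (combo h hG (i := l) (j := 0) (l := 0) (by simpa using hxl)).1
  have ej : 2 ∣ j := (combo h hG (i := j) (j := 0) (l := 0) (by simpa using hxj)).1
  have ei : 2 ∣ i := (combo h hG (i := 0) (j := i) (l := 0) (by simpa using hyi)).2.1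
  rw [h2 hx i ei, h2 hy j ej, h2 hc l el, one_mul, one_mul]

/-- The bases used below. -/
theorem good_moves (h : InvV M V) {a b c : M} (g : Good V a b c) :
    Good V a b (c * a) ∧ Good V a (a * b) c ∧ Good V (a * b) b c := by
  obtain ⟨ha, hb, hc, ha1, hb1, hba, hc1, hca, hcb, hcab⟩ := g
  have two : ∀ {u v : M}, v ∈ V → u * v = 1 → u = v := fun hv e => by
    rw [eq_inv_of_mul_eq_one_left e, h.inv_eq hv]
  have shift : ∀ {u v w : M}, v ∈ V → u * v = w → u = w * v := fun {u v w} hv e => by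
    rw [← e, mul_assoc, h.mul_self hv, mul_one]
  have hab : a * b ≠ 1 := fun e => hba (two hb e).symm
  refine ⟨⟨ha, hb, mul_mem hc ha, ha1, hb1, hba, ?_, ?_, ?_, ?_⟩,
    ⟨ha, mul_mem ha hb, hc, ha1, hab, ?_, hc1, hca, hcab, ?_⟩,
    ⟨mul_mem ha hb, hb, hc, hab, hb1, ?_, hc1, hcab, hcb, ?_⟩⟩
  · exact fun e => hca (two ha e)
  · exact fun e => hc1 (mul_eq_right.1 e)
  · exact fun e => hcab ((shift ha e).trans (h.comm hb ha))
  · exact fun e => hcb (mul_right_cancel (e.trans (h.comm ha hb)))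
  · exact fun e => hb1 (mul_eq_left.1 e)
  · rw [← mul_assoc, h.mul_self ha, one_mul]; exact hcb
  · exact fun e => ha1 (mul_eq_right.1 e.symm)
  · rw [mul_assoc, h.mul_self hb, mul_one]; exact hca

variable [(V.subgroupOf T).Normal]

theorem no_na (D : NA V T) (hna : ∃ a ∈ T, ∃ b ∈ T, a * b ≠ b * a)
    (hcard : Nat.card (W V T) = 8 ∨ (Nat.card (W V T) = 64 ∧
      letI := CfsgLib.InvolNormal.commV D.inv
      ∀ l : Additive V →+ ZMod 2, l ≠ 0 → ∀ y : W V T,
        (∀ x, l (Additive.ofMul (bW D x y)) = 0) → y = 1))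
    (hsec : ∀ v ∈ V, v ≠ 1 → ∃ b : W V T, ((qW D b : V) : M) = v ∧
      ∀ g : M, g * v * g⁻¹ = v → act D g b = b) : False := by
  classical
  letI : CommGroup V := CfsgLib.InvolNormal.commV D.inv
  letI : CommGroup (W V T) :=
    { (inferInstance : Group (W V T)) with mul_comm := W_comm D }
  obtain ⟨v₀, hv₀, hv₀1⟩ : ∃ v ∈ V, v ≠ 1 := by
    obtain ⟨v, hv, hl⟩ := exists_not_mem D.card [1] (by simp)
    exact ⟨v, hv, by simpa using hl⟩
  obtain ⟨b₀, hqb₀, hfix₀⟩ := hsec v₀ hv₀ hv₀1
  have htrans : ∀ v : V, v ≠ 1 → ∃ g : M, g * v₀ * g⁻¹ = v := by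
    intro v hv
    obtain ⟨b, c, G⟩ := good_exists D hv₀ hv₀1
    obtain ⟨b', c', G'⟩ := good_exists D v.2 (fun e => hv (Subtype.ext e))
    obtain ⟨g, hg, -⟩ := map_exists D G G'
    exact ⟨g, hg⟩
  choose gv hgv using htrans
  let s : V → W V T := fun v => if hv : v = 1 then 1 else act D (gv v hv) b₀
  let cj : M → V → V := fun g v => ⟨g * v * g⁻¹, D.inv.conj_mem v.2 g⟩
  have hs1 : s 1 = 1 := dif_pos rfl
  have cj_one : ∀ g v, cj g v = 1 → v = 1 := fun g v e =>
    Subtype.ext (conj_eq_one_iff.1 (congrArg Subtype.val e))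
  have act1 : ∀ g, act D g 1 = 1 := fun g => by
    have h := act_map_mul D g 1 1
    rw [mul_one] at h
    exact left_eq_mul.1 h
  have hseq : ∀ g v, s (cj g v) = act D g (s v) := by
    intro g v
    by_cases hv : v = 1
    · subst hv
      rw [hs1, act1, show cj g 1 = 1 from Subtype.ext (by simp [cj]), hs1]
    have hv' : cj g v ≠ 1 := fun e => hv (cj_one g v e)
    simp only [s, dif_neg hv, dif_neg hv']
    set k := gv (cj g v) hv'
    set m := gv v hv
    have hk : k * v₀ * k⁻¹ = g * v * g⁻¹ := hgv (cj g v) hv'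
    have hm : m * v₀ * m⁻¹ = v := hgv v hv
    have hfix : (g * m)⁻¹ * k * v₀ * ((g * m)⁻¹ * k)⁻¹ = v₀ := by
      calc (g * m)⁻¹ * k * v₀ * ((g * m)⁻¹ * k)⁻¹
          = (g * m)⁻¹ * (k * v₀ * k⁻¹) * (g * m) := by group
        _ = (g * m)⁻¹ * (g * (m * v₀ * m⁻¹) * g⁻¹) * (g * m) := by rw [hk, hm]
        _ = v₀ := by group
    calc act D k b₀ = act D (g * m) (act D ((g * m)⁻¹ * k) b₀) := by
          rw [← act_mul, mul_inv_cancel_left]
      _ = act D g (act D m b₀) := by rw [hfix₀ _ hfix, act_mul]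
  have hqs : ∀ v, qW D (s v) = v := by
    intro v
    by_cases hv : v = 1
    · subst hv; rw [hs1, qW_one]
    · apply Subtype.ext
      simp only [s, dif_neg hv]
      rw [qW_act, hqb₀]; exact hgv v hv
  have hinv : ∀ v : V, v * v = 1 := fun v => Subtype.ext (D.inv.mul_self v.2)
  have hsadd : ∀ x y : V, s (x * y) = s x * s y := by
    intro x y
    by_cases hx : x = 1
    · subst hx; rw [one_mul, hs1, one_mul]
    by_cases hy : y = 1
    · subst hy; rw [mul_one, hs1, mul_one]
    by_cases hxy : x = y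
    · subst hxy; rw [hinv, hs1, W_sq D]
    obtain ⟨c, hc, hcl⟩ := exists_not_mem D.card [1, (x : M), y, (x : M) * y] (by simp)
    simp only [List.mem_cons, List.not_mem_nil, or_false, not_or] at hcl
    have G : Good V (x : M) y c := ⟨x.2, y.2, hc, fun e => hx (Subtype.ext e),
      fun e => hy (Subtype.ext e), fun e => hxy (Subtype.ext e.symm), hcl.1, hcl.2.1, hcl.2.2.1,
      hcl.2.2.2⟩
    obtain ⟨G1, G2, G3⟩ := good_moves D.inv G
    obtain ⟨g₁, m₁⟩ : ∃ g : M, Maps g (x : M) y c x y (c * x) := map_exists D G G1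
    obtain ⟨g₂, m₂⟩ : ∃ g : M, Maps g (x : M) y c x ((x : M) * y) c := map_exists D G G2
    obtain ⟨g₃, m₃⟩ : ∃ g : M, Maps g (x : M) y c ((x : M) * y) y c := map_exists D G G3
    set e := s x * s y * s (x * y) with he
    have hcm : ∀ g u v, cj g (u * v) = cj g u * cj g v := fun g u v =>
      Subtype.ext (show g * ((u : M) * v) * g⁻¹ = g * u * g⁻¹ * (g * v * g⁻¹) by group)
    have e₁ : act D g₁ e = e := by
      rw [he, act_map_mul, act_map_mul, ← hseq, ← hseq, ← hseq, hcm,
        show cj g₁ x = x from Subtype.ext m₁.1, show cj g₁ y = y from Subtype.ext m₁.2.1]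
    have e₂ : act D g₂ e = e := by
      rw [he, act_map_mul, act_map_mul, ← hseq, ← hseq, ← hseq, hcm,
        show cj g₂ x = x from Subtype.ext m₂.1, show cj g₂ y = x * y from Subtype.ext m₂.2.1,
        ← mul_assoc x, hinv, one_mul]
      ac_rfl
    have e₃ : act D g₃ e = e := by
      rw [he, act_map_mul, act_map_mul, ← hseq, ← hseq, ← hseq, hcm,
        show cj g₃ x = x * y from Subtype.ext m₃.1, show cj g₃ y = y from Subtype.ext m₃.2.1,
        mul_assoc x, hinv, mul_one]
      ac_rfl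
    have fe : ∀ g, act D g e = e → g * (qW D e : M) * g⁻¹ = qW D e := fun g hg => by
      rw [← qW_act, hg]
    have hu : qW D e = 1 :=
      Subtype.ext (line_fix D.inv D.card G (qW D e).2 m₁ m₂ m₃ (fe _ e₁) (fe _ e₂) (fe _ e₃))
    have he1 := qW_eq_one D e hu
    rw [he, mul_eq_one_iff_eq_inv, W_inv D] at he1
    exact he1.symm
  have hiso : ∀ x y, bW D (s x) (s y) = 1 := fun x y => by
    unfold bW
    rw [← hsadd, hqs, hqs, hqs, mul_assoc, hinv]
  have hsinj : Function.Injective s := Function.LeftInverse.injective hqs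
  rcases hcard with h8 | ⟨h64, hnd⟩
  · obtain ⟨a, ha, b, hb, hne⟩ := hna
    have hle : Nat.card (W V T) ≤ Nat.card V := by rw [h8, D.card]
    have hsurj := (hsinj.bijective_of_nat_card_le hle).2
    obtain ⟨x, hx⟩ := hsurj (mkW ⟨a, ha⟩)
    obtain ⟨y, hy⟩ := hsurj (mkW ⟨b, hb⟩)
    have h := congrArg Subtype.val (hiso x y)
    rw [hx, hy, bW_mk] at h
    have h1 : b * a * b⁻¹ * a⁻¹ = 1 := h
    refine hne ?_
    calc a * b = 1 * (a * b) := (one_mul _).symm
      _ = b * a * b⁻¹ * a⁻¹ * (a * b) := by rw [h1]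
      _ = b * a := by group
  -- the case of order 64
  have hWA : ∀ w : Additive (W V T), w + w = 0 := fun w => W_sq D w.toMul
  let L : W V T → V → V := fun c v => bW D c (s v)
  have hLc : ∀ c d v, L (c * d) v = L c v * L d v := fun c d v => bW_add D c d _
  have badd : ∀ a b c, bW D a (b * c) = bW D a b * bW D a c := fun a b c => by
    rw [bW_symm, bW_add, bW_symm D b, bW_symm D c]
  have hLv : ∀ c u v, L c (u * v) = L c u * L c v := fun c u v => by
    simp only [L, hsadd]; rw [badd]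
  let W₀ : AddSubgroup (Additive (W V T)) :=
    (AddMonoidHom.mk' (fun v : Additive V => Additive.ofMul (s v.toMul))
      fun u v => hsadd u.toMul v.toMul).range
  have hW₀ : ∀ w : Additive (W V T), w ∈ W₀ ↔ ∃ v : V, Additive.ofMul (s v) = w := fun w =>
    ⟨fun ⟨v, hv⟩ => ⟨v.toMul, hv⟩, fun ⟨v, hv⟩ => ⟨Additive.ofMul v, hv⟩⟩
  have hW₀c : Nat.card W₀ = 8 := by
    rw [← D.card]
    refine (Nat.card_congr (Equiv.ofBijective
      (fun v : V => (⟨Additive.ofMul (s v), (hW₀ _).2 ⟨v, rfl⟩⟩ : W₀)) ⟨?_, ?_⟩)).symm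
    · exact fun u v e => hsinj (congrArg (fun w : W₀ => w.1.toMul) e)
    · rintro ⟨w, hw⟩
      obtain ⟨v, hv⟩ := (hW₀ w).1 hw
      exact ⟨v, Subtype.ext hv⟩
  -- the orthogonal of `W₀` for every functional
  have hperp : ∀ (l : Additive V →+ ZMod 2), l ≠ 0 → ∀ c,
      (∀ u, l (Additive.ofMul (L c u)) = 0) → Additive.ofMul c ∈ W₀ := by
    intro l hl0 c hlR
    let f : Additive (W V T) →+ Additive (W V T) →+ ZMod 2 :=
      AddMonoidHom.mk' (fun p => AddMonoidHom.mk'
        (fun r => l (Additive.ofMul (bW D p.toMul r.toMul)))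
        fun r r' => by
          show l (Additive.ofMul (bW D p.toMul (r.toMul * r'.toMul))) = _
          rw [badd, ofMul_mul, map_add])
        fun p p' => AddMonoidHom.ext fun r => by
          show l (Additive.ofMul (bW D (p.toMul * p'.toMul) r.toMul)) = _
          rw [bW_add, ofMul_mul, map_add]; rfl
    refine mem_of_perp hWA f (fun y hy => ?_) W₀ ?_ ?_ ?_
    · exact hnd l hl0 y.toMul fun x => hy (Additive.ofMul x)
    · intro p hp r hr
      obtain ⟨p', rfl⟩ := (hW₀ p).1 hp
      obtain ⟨r', rfl⟩ := (hW₀ r).1 hr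
      show l (Additive.ofMul (bW D (s p') (s r'))) = 0
      rw [hiso, ofMul_one, map_zero]
    · rw [hW₀c]; exact (Nat.card_congr Additive.toMul).trans h64
    · intro r hr
      obtain ⟨r', rfl⟩ := (hW₀ r).1 hr
      exact hlR r'
  -- outside `W₀` every `L c` is injective
  have hker : ∀ c (v : V), v ≠ 1 → L c v = 1 → ∀ u, L c u = 1 := by
    intro c v hv hcv
    let Lc : V →* V := MonoidHom.mk' (L c) (hLv c)
    have hns : ¬ Function.Surjective Lc := fun hs => hv (by
      have hi := Finite.injective_iff_surjective.2 hs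
      exact hi (hcv.trans (map_one Lc).symm))
    obtain ⟨z, hz⟩ := not_forall.1 hns
    let R : AddSubgroup (Additive V) := (MonoidHom.toAdditive Lc).range
    have hzR : Additive.ofMul z ∉ R := fun ⟨u, hu⟩ => hz ⟨u.toMul, hu⟩
    have hV2 : ∀ w : Additive V ⧸ R, w + w = 0 := fun w => by
      induction w using QuotientAddGroup.induction_on with
      | H x => rw [← QuotientAddGroup.mk_add, show x + x = 0 from hinv x.toMul,
          QuotientAddGroup.mk_zero]
    obtain ⟨l₀, hl₀⟩ := exists_functional hV2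
      (v := (QuotientAddGroup.mk (Additive.ofMul z) : Additive V ⧸ R))
      (fun e => hzR ((QuotientAddGroup.eq_zero_iff _).1 e))
    set l := l₀.comp (QuotientAddGroup.mk' R) with hl
    have hl0 : l ≠ 0 := fun e => hl₀ (DFunLike.congr_fun e (Additive.ofMul z))
    have hlR : ∀ u, l (Additive.ofMul (L c u)) = 0 := fun u => by
      rw [hl, AddMonoidHom.comp_apply, QuotientAddGroup.mk'_apply,
        (QuotientAddGroup.eq_zero_iff _).2 (show Additive.ofMul (L c u) ∈ R from
          ⟨Additive.ofMul u, rfl⟩), map_zero]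
    have hmem : Additive.ofMul c ∈ W₀ := hperp l hl0 c hlR
    obtain ⟨p, hp⟩ := (hW₀ _).1 hmem
    intro u
    rw [show c = s p from (congrArg Additive.toMul hp).symm]
    exact hiso p u
  -- `c ↦ L c a` is onto and determines `L c`
  obtain ⟨b, c, G⟩ := good_exists D hv₀ hv₀1
  obtain ⟨ha, hb, hc, ha1, hb1, hba, -⟩ := id G
  let A : V := ⟨v₀, ha⟩
  let B : V := ⟨b, hb⟩
  let X : V := ⟨c, hc⟩
  have hA1 : A ≠ 1 := fun e => ha1 (congrArg Subtype.val e)
  let φ : W V T →* V := MonoidHom.mk' (fun d => L d A) fun d d' => hLc d d' A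
  have hkerW : ∀ d, L d A = 1 → Additive.ofMul d ∈ W₀ := by
    intro d hd
    obtain ⟨l, hl⟩ : ∃ l : Additive V →+ ZMod 2, l (Additive.ofMul A) ≠ 0 :=
      exists_functional (fun w => hinv w.toMul) (fun e => hA1 (congrArg Additive.toMul e))
    refine hperp l (fun e => hl (DFunLike.congr_fun e _)) d fun u => ?_
    rw [hker d A hA1 hd u, ofMul_one, map_zero]
  have hkerle : Nat.card φ.ker ≤ 8 := by
    rw [← hW₀c]
    exact Nat.card_le_card_of_injective
      (fun d : φ.ker => (⟨Additive.ofMul (d : W V T), hkerW d d.2⟩ : W₀))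
      fun d d' e => Subtype.ext (congrArg (fun w : W₀ => w.1.toMul) e)
  have hrange : φ.range = ⊤ := by
    apply Subgroup.eq_top_of_le_card
    have h := φ.ker.card_mul_index
    rw [Subgroup.index_ker, h64] at h
    rw [D.card]
    nlinarith
  obtain ⟨d, hd⟩ : ∃ d, L d A = B := MonoidHom.range_eq_top.1 hrange B
  have huniq : ∀ d', L d' A = L d A → ∀ u, L d' u = L d u := by
    intro d' e u
    have h1 := hker (d' * d) A hA1 (by rw [hLc, e, hinv]) u
    rw [hLc, mul_eq_one_iff_eq_inv, inv_eq_of_mul_eq_one_right (hinv _)] at h1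
    exact h1
  -- the map with `a ↦ b` does not commute with a transvection fixing both
  obtain ⟨g, hg⟩ : ∃ g : M, Maps g v₀ b c v₀ b (c * v₀) :=
    map_exists D G (good_moves D.inv G).1
  have hbact : ∀ p r, bW D (act D g p) (act D g r) = cj g (bW D p r) := fun p r => by
    apply Subtype.ext
    simp only [bW, ← act_map_mul, Subgroup.coe_mul, qW_act, cj]
    group
  have hLact : ∀ p v, L (act D g p) (cj g v) = cj g (L p v) := fun p v => by
    simp only [L, hseq, hbact]
  have hgA : cj g A = A := Subtype.ext hg.1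
  have hgB : cj g B = B := Subtype.ext hg.2.1
  have hgX : cj g X = X * A := Subtype.ext hg.2.2
  have hd' : L (act D g d) A = L d A := by
    conv_lhs => rw [← hgA]
    rw [hLact, hd, hgB]
  have key : L d (X * A) = cj g (L d X) := by
    rw [← hgX, ← huniq _ hd', hLact]
  rw [hLv, hd] at key
  obtain ⟨i, j, k, hw⟩ := span D.inv D.card G (L d X).2
  have key' : ((L d X : V) : M) * b = g * (L d X : M) * g⁻¹ := congrArg Subtype.val key
  rw [hw, show g * (v₀ ^ i * b ^ j * c ^ k) * g⁻¹ =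
    g * v₀ ^ i * g⁻¹ * (g * b ^ j * g⁻¹) * (g * c ^ k * g⁻¹) by group, ← conj_pow, ← conj_pow,
    ← conj_pow, hg.1, hg.2.1, hg.2.2, (show Commute c v₀ from D.inv.comm hc ha).mul_pow,
    ← mul_assoc] at key'
  have hb' : b = v₀ ^ k := mul_left_cancel key'
  rcases Nat.even_or_odd' k with ⟨m, rfl | rfl⟩
  · exact hb1 (by rw [hb', pow_mul, pow_two, D.inv.mul_self ha, one_pow])
  · exact hba (by rw [hb', pow_succ, pow_mul, pow_two, D.inv.mul_self ha, one_pow, one_mul])

end CfsgLib.InvolNormal.SevenNA
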