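import Cfsg.Agent.Lib.InvolNormal.SevenAbelian
import Cfsg.Agent.Lib.InvolNormal.Forms
import Cfsg.Agent.S3776

/-!
# The nonabelian seven point case: squares and commutators on `T / V`
-/

set_option autoImplicit false
set_option linter.unusedSectionVars false
set_option linter.style.haveILetI false

namespace CfsgLib.InvolNormal.SevenNA

open Subgroup SevenAbelian
open scoped commutatorElement

universe u

variable {M : Type u} [Group M] [Finite M]

/-- The data. -/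
structure NA (V T : Subgroup M) : Prop where
  inv : InvV M V
  card : Nat.card V = 8
  normal : T.Normal
  two : IsPGroup 2 T
  le : V ≤ T
  cent : ∀ g : M, (∀ v ∈ V, g * v = v * g) ↔ g ∈ T
  idx : T.index = 168
  sq : ∀ x ∈ T, x * x ∈ V
  comm : ∀ x ∈ T, ∀ y ∈ T, x * y * x⁻¹ * y⁻¹ ∈ V

variable {V T : Subgroup M}

theorem map_exists (D : NA V T) {a b c a' b' c' : M} (g : Good V a b c) (g' : Good V a' b' c') :
    ∃ x : M, x * a * x⁻¹ = a' ∧ x * b * x⁻¹ = b' ∧ x * c * x⁻¹ = c' :=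
  haveI := D.normal
  exists_map D.inv D.card D.cent D.idx g g'

theorem good_exists (D : NA V T) {a : M} (ha : a ∈ V) (ha1 : a ≠ 1) : ∃ b c : M, Good V a b c :=
  exists_good D.card ha ha1

/-- The hypothesis structure from the statement. -/
theorem na_of (h : InvV M V) (hV : Nat.card V = 8) [T.Normal] (hT2 : IsPGroup 2 T) (hVT : V ≤ T)
    (hcent : ∀ g : M, (∀ v ∈ V, g * v = v * g) ↔ g ∈ T) (hidx : T.index = 168)
    (hna : ∃ a ∈ T, ∃ b ∈ T, a * b ≠ b * a) : NA V T := by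
  classical
  obtain ⟨a₀, ha₀, ha₀1⟩ : ∃ a ∈ V, a ≠ 1 := by
    obtain ⟨a, ha, hl⟩ := exists_not_mem hV [1] (by simp)
    exact ⟨a, ha, by simpa using hl⟩
  obtain ⟨b₀, c₀, g₀⟩ := exists_good hV ha₀ ha₀1
  obtain ⟨ha, hb, hc, ha1, hb1, hba, hc1, hca, hcb, hcab⟩ := g₀
  have g0 : Good V a₀ b₀ c₀ := ⟨ha, hb, hc, ha1, hb1, hba, hc1, hca, hcb, hcab⟩
  -- the companion map `a ↦ b ↦ c ↦ a * b`
  have g1 : Good V b₀ c₀ (a₀ * b₀) := by
    refine ⟨hb, hc, mul_mem ha hb, hb1, hc1, hcb, ?_, ?_, hcab.symm, ?_⟩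
    · exact fun e => hba (by rw [mul_eq_one_iff_eq_inv.1 e, h.inv_eq hb])
    · exact fun e => ha1 (mul_eq_right.1 e)
    · intro e
      rw [h.comm ha hb] at e
      exact hca (mul_left_cancel e).symm
  obtain ⟨x, x1, x2, x3⟩ := exists_map h hV hcent hidx g0 g1
  -- its powers are transitive
  let s : MulAut T := MulAut.conjNormal x
  have hs : ∀ (v : T), ((s v : T) : M) = x * v * x⁻¹ := fun v => MulAut.conjNormal_apply _ _
  have hpow : ∀ (i : ℕ) (v : T), (((s ^ i) v : T) : M) = x ^ i * v * (x ^ i)⁻¹ := by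
    intro i v
    rw [show s ^ i = MulAut.conjNormal (x ^ i) from (map_pow _ _ _).symm, MulAut.conjNormal_apply]
  have hconj : ∀ u v : M, x * (u * v) * x⁻¹ = x * u * x⁻¹ * (x * v * x⁻¹) := fun u v => by group
  have step : ∀ (i : ℕ) (u w : M), x ^ i * a₀ * (x ^ i)⁻¹ = u → x * u * x⁻¹ = w →
      x ^ (i + 1) * a₀ * (x ^ (i + 1))⁻¹ = w := by
    intro i u w hu hw
    rw [← hw, ← hu, pow_succ']; group
  have p0 : x ^ 0 * a₀ * (x ^ 0)⁻¹ = a₀ := by simp
  have p1 := step 0 _ _ p0 x1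
  have p2 := step 1 _ _ p1 x2
  have p3 := step 2 _ _ p2 x3
  have p4 := step 3 _ (b₀ * c₀) p3 (by rw [hconj, x1, x2])
  have p5 := step 4 _ (c₀ * (a₀ * b₀)) p4 (by rw [hconj, x2, x3])
  have p6 := step 5 _ (a₀ * b₀ * (b₀ * c₀)) p5 (by rw [hconj, x3, hconj, x1, x2])
  have hall : ∀ v ∈ V, v ≠ 1 → ∃ i : ℕ, x ^ i * a₀ * (x ^ i)⁻¹ = v := by
    intro v hv hv1
    obtain ⟨i, j, l, rfl⟩ := span h hV g0 hv
    have hs2 : ∀ {u : M}, u ∈ V → ∀ n : ℕ, u ^ n = 1 ∨ u ^ n = u := fun hu n => by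
      rcases Nat.even_or_odd' n with ⟨k, rfl | rfl⟩
      · left; rw [pow_mul, pow_two, h.mul_self hu, one_pow]
      · right; rw [pow_succ, pow_mul, pow_two, h.mul_self hu, one_pow, one_mul]
    have e6 : a₀ * b₀ * (b₀ * c₀) = a₀ * c₀ := by
      rw [mul_assoc, ← mul_assoc b₀, h.mul_self hb, one_mul]
    have e5 : c₀ * (a₀ * b₀) = a₀ * b₀ * c₀ := h.comm hc (mul_mem ha hb)
    rcases hs2 ha i with ei | ei <;> rcases hs2 hb j with ej | ej <;>
      rcases hs2 hc l with el | el <;> rw [ei, ej, el] at hv1 ⊢ <;>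
      simp only [one_mul, mul_one, ne_eq] at hv1 ⊢
    · exact absurd trivial hv1
    · exact ⟨2, p2⟩
    · exact ⟨1, p1⟩
    · exact ⟨4, p4⟩
    · exact ⟨0, p0⟩
    · exact ⟨6, p6.trans e6⟩
    · exact ⟨3, p3⟩
    · exact ⟨5, p5.trans e5⟩
  have hna' : ¬ IsMulCommutative T := by
    intro hc
    obtain ⟨a, ha, b, hb, hne⟩ := hna
    exact hne (congrArg Subtype.val (hc.is_comm.comm (⟨a, ha⟩ : T) ⟨b, hb⟩))
  have hmemV : ∀ u : T, u ^ 2 = 1 ↔ (u : M) ∈ V := fun u => by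
    rw [h.mem_iff, pow_two, Subtype.ext_iff]; exact Iff.rfl
  obtain ⟨h1, h2, h3⟩ := Cfsg.Agent.S3776.result (G := T) hT2 hna'
    ⟨⟨a₀, hVT ha⟩, ⟨b₀, hVT hb⟩, fun e => hba (congrArg Subtype.val e).symm,
      fun e => ha1 (congrArg Subtype.val e), (hmemV _).2 ha,
      fun e => hb1 (congrArg Subtype.val e), (hmemV _).2 hb⟩
    ⟨zpowers s, Group.isSolvable_of_comm (fun a b => mul_comm' a b), by
      intro u v hu1 hu hv1 hv
      obtain ⟨i, hi⟩ := hall u ((hmemV u).1 hu) (fun e => hu1 (Subtype.ext e))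
      obtain ⟨j, hj⟩ := hall v ((hmemV v).1 hv) (fun e => hv1 (Subtype.ext e))
      refine ⟨s ^ j * (s ^ i)⁻¹, mul_mem (pow_mem (mem_zpowers s) j)
        (inv_mem (pow_mem (mem_zpowers s) i)), ?_⟩
      have e1 : (s ^ i)⁻¹ u = ⟨a₀, hVT ha⟩ := by
        apply (s ^ i).injective
        rw [MulAut.apply_inv_self]
        exact Subtype.ext ((hpow i ⟨a₀, hVT ha⟩).trans hi).symm
      rw [MulAut.mul_apply, e1]
      exact Subtype.ext ((hpow j ⟨a₀, hVT ha⟩).trans hj)⟩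
  have hsq : ∀ y ∈ T, y * y ∈ V := by
    intro y hy
    haveI : Fact (Nat.Prime 2) := ⟨Nat.prime_two⟩
    have hm : (⟨y, hy⟩ : T) ^ 2 ∈ frattini T := CfsgLib.PGroups.pow_mem_frattini hT2 _
    rw [h2, h3, hmemV] at hm
    simpa [pow_two] using hm
  refine ⟨h, hV, inferInstance, hT2, hVT, hcent, hidx, hsq, fun y hy z hz => ?_⟩
  have hm : ⁅(⟨y, hy⟩ : T), (⟨z, hz⟩ : T)⁆ ∈ commutator T :=
    Subgroup.commutator_mem_commutator (mem_top _) (mem_top _)
  rw [h1, h2, h3, hmemV] at hm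
  simpa [commutatorElement_def] using hm
where
  mul_comm' {G : Type u} [Group G] {s : G} (a b : zpowers s) : a * b = b * a :=
    Subtype.ext (by
      obtain ⟨a, i, rfl⟩ := a
      obtain ⟨b, j, rfl⟩ := b
      exact zpow_mul_comm s i j)

end CfsgLib.InvolNormal.SevenNA
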