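import Cfsg.Agent.Lib.InvolNormal.NAFrame

/-!
# The quotient `W = T / V` with its squaring map and the action
-/

set_option autoImplicit false
set_option linter.unusedSectionVars false
set_option linter.style.haveILetI false

namespace CfsgLib.InvolNormal.SevenNA

open Subgroup SevenAbelian

universe u

variable {M : Type u} [Group M] [Finite M] {V T : Subgroup M}

/-- The quotient `T / V`. -/
abbrev W (V T : Subgroup M) : Type u := T ⧸ V.subgroupOf T

theorem vt_normal (D : NA V T) : (V.subgroupOf T).Normal :=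
  haveI := D.inv.normal
  inferInstance

variable [(V.subgroupOf T).Normal]

/-- Class of an element. -/
def mkW (x : T) : W V T := QuotientGroup.mk x

theorem mkW_surjective (w : W V T) : ∃ x : T, mkW (V := V) x = w := QuotientGroup.mk_surjective w

theorem mkW_mul (x y : T) : mkW (V := V) (x * y) = mkW x * mkW y := rfl

theorem mkW_eq_one (x : T) : mkW (V := V) x = 1 ↔ (x : M) ∈ V :=
  (QuotientGroup.eq_one_iff x).trans mem_subgroupOf

theorem mkW_eq (x y : T) : mkW (V := V) x = mkW y ↔ (x : M)⁻¹ * y ∈ V :=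
  (QuotientGroup.eq).trans mem_subgroupOf

theorem T_comm (D : NA V T) {x v : M} (hx : x ∈ T) (hv : v ∈ V) : x * v = v * x :=
  (D.cent x).2 hx v hv

theorem sq_congr (D : NA V T) {x y : T} (h : (x : M)⁻¹ * y ∈ V) :
    (x : M) * x = (y : M) * y := by
  set v := (x : M)⁻¹ * y with hv
  have hy : (y : M) = x * v := by rw [hv]; group
  calc (x : M) * x = x * x * (v * v) := by rw [D.inv.mul_self h, mul_one]
    _ = x * (v * x) * v := by rw [← T_comm D x.2 h]; group
    _ = (y : M) * y := by rw [hy]; group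

/-- Squaring `W → V`. -/
def qW (D : NA V T) : W V T → V :=
  Quotient.lift (fun x : T => (⟨(x : M) * x, D.sq _ x.2⟩ : V)) fun x y h => Subtype.ext (sq_congr D
    (mem_subgroupOf.1 (QuotientGroup.leftRel_apply.1 h)))

theorem qW_mk (D : NA V T) (x : T) : ((qW D (mkW x) : V) : M) = x * x := rfl

theorem qW_eq_one (D : NA V T) (w : W V T) (h : qW D w = 1) : w = 1 := by
  obtain ⟨x, rfl⟩ := mkW_surjective w
  exact (mkW_eq_one x).2 ((D.inv.mem_iff _).2 (congrArg Subtype.val h))

theorem qW_one (D : NA V T) : qW D 1 = 1 := Subtype.ext (mul_one (1 : M))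

theorem W_comm (D : NA V T) (a b : W V T) : a * b = b * a := by
  obtain ⟨x, rfl⟩ := mkW_surjective a
  obtain ⟨y, rfl⟩ := mkW_surjective b
  rw [← mkW_mul, ← mkW_mul, mkW_eq]
  show ((x : M) * y)⁻¹ * ((y : M) * x) ∈ V
  have h := D.comm _ (T.inv_mem y.2) _ (T.inv_mem x.2)
  rw [inv_inv, inv_inv] at h
  rw [show ((x : M) * y)⁻¹ * (y * x) = (y : M)⁻¹ * (x : M)⁻¹ * y * x by group]
  exact h

theorem W_sq (D : NA V T) (a : W V T) : a * a = 1 := by
  obtain ⟨x, rfl⟩ := mkW_surjective a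
  rw [← mkW_mul, mkW_eq_one]
  exact D.sq _ x.2

theorem W_inv (D : NA V T) (a : W V T) : a⁻¹ = a := inv_eq_of_mul_eq_one_right (W_sq D a)

/-- The polar map. -/
noncomputable def bW (D : NA V T) (a b : W V T) : V := qW D (a * b) * qW D a * qW D b

theorem bW_mk (D : NA V T) (x y : T) :
    ((bW D (mkW x) (mkW y) : V) : M) = (y : M) * x * (y : M)⁻¹ * (x : M)⁻¹ := by
  have hc := D.comm _ y.2 _ x.2
  show (x : M) * y * (x * y) * (x * x) * (y * y) = _
  calc (x : M) * y * (x * y) * (x * x) * (y * y)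
      = x * (y * x * (y : M)⁻¹ * (x : M)⁻¹) * x * (y * y) * (x * x) * (y * y) := by group
    _ = (y * x * (y : M)⁻¹ * (x : M)⁻¹) * x * x * (y * y) * (x * x) * (y * y) := by
        rw [T_comm D x.2 hc]
    _ = (y * x * (y : M)⁻¹ * (x : M)⁻¹) * ((x * x) * (y * y) * ((x * x) * (y * y))) := by group
    _ = _ := by rw [D.inv.mul_self (mul_mem (D.sq _ x.2) (D.sq _ y.2)), mul_one]

theorem qW_mul (D : NA V T) (a b : W V T) : qW D (a * b) = qW D a * qW D b * bW D a b := by
  apply Subtype.ext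
  have h1 := (qW D a).2
  have h2 := (qW D b).2
  have h3 := (qW D (a * b)).2
  show ((qW D (a * b) : V) : M) = (qW D a : M) * qW D b * ((qW D (a * b) : M) * qW D a * qW D b)
  rw [mul_assoc (qW D (a * b) : M), ← mul_assoc ((qW D a : M) * qW D b),
    D.inv.comm (mul_mem h1 h2) h3, mul_assoc, D.inv.mul_self (mul_mem h1 h2), mul_one]

theorem bW_add (D : NA V T) (a b c : W V T) : bW D (a * b) c = bW D a c * bW D b c := by
  obtain ⟨x, rfl⟩ := mkW_surjective a
  obtain ⟨y, rfl⟩ := mkW_surjective b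
  obtain ⟨z, rfl⟩ := mkW_surjective c
  apply Subtype.ext
  rw [← mkW_mul, bW_mk]
  show (z : M) * (x * y) * (z : M)⁻¹ * ((x : M) * y)⁻¹ =
    ((bW D (mkW x) (mkW z) : V) : M) * (bW D (mkW y) (mkW z) : V)
  rw [bW_mk, bW_mk]
  have hc := D.comm _ z.2 _ y.2
  calc (z : M) * (x * y) * (z : M)⁻¹ * ((x : M) * y)⁻¹
      = z * x * (z : M)⁻¹ * ((z * y * (z : M)⁻¹ * (y : M)⁻¹) * (x : M)⁻¹) := by group
    _ = _ := by rw [← T_comm D (T.inv_mem x.2) hc]; group

theorem bW_symm (D : NA V T) (a b : W V T) : bW D a b = bW D b a := by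
  show qW D (a * b) * qW D a * qW D b = qW D (b * a) * qW D b * qW D a
  rw [W_comm D a b, mul_assoc, mul_assoc]
  congr 1
  exact Subtype.ext (D.inv.comm (qW D a).2 (qW D b).2)

theorem conj_mem_T (D : NA V T) (g : M) {x : M} (hx : x ∈ T) : g * x * g⁻¹ ∈ T :=
  D.normal.conj_mem x hx g

theorem conj_congr (D : NA V T) (g : M) {x y : T} (h : (x : M)⁻¹ * y ∈ V) :
    (g * (x : M) * g⁻¹)⁻¹ * (g * y * g⁻¹) ∈ V := by
  rw [show (g * (x : M) * g⁻¹)⁻¹ * (g * y * g⁻¹) = g * ((x : M)⁻¹ * y) * g⁻¹ by group]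
  exact D.inv.conj_mem h g

/-- Conjugation on `W`. -/
def act (D : NA V T) (g : M) : W V T → W V T :=
  Quotient.lift (fun x : T => mkW (⟨g * x * g⁻¹, conj_mem_T D g x.2⟩ : T)) fun x y h =>
    (mkW_eq _ _).2 (conj_congr D g (mem_subgroupOf.1 (QuotientGroup.leftRel_apply.1 h)))

theorem act_mk (D : NA V T) (g : M) (x : T) :
    act D g (mkW x) = mkW ⟨g * x * g⁻¹, conj_mem_T D g x.2⟩ := rfl

theorem act_mul (D : NA V T) (g h : M) (w : W V T) : act D (g * h) w = act D g (act D h w) := by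
  obtain ⟨x, rfl⟩ := mkW_surjective w
  rw [act_mk, act_mk, act_mk]
  exact congrArg mkW (Subtype.ext (by group))

theorem act_one (D : NA V T) (w : W V T) : act D 1 w = w := by
  obtain ⟨x, rfl⟩ := mkW_surjective w
  rw [act_mk]
  exact congrArg mkW (Subtype.ext (by group))

theorem act_map_mul (D : NA V T) (g : M) (a b : W V T) :
    act D g (a * b) = act D g a * act D g b := by
  obtain ⟨x, rfl⟩ := mkW_surjective a
  obtain ⟨y, rfl⟩ := mkW_surjective b
  rw [← mkW_mul, act_mk, act_mk, act_mk, ← mkW_mul]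
  exact congrArg mkW (Subtype.ext (by simp only [Subgroup.coe_mul]; group))

theorem act_T (D : NA V T) {g : M} (hg : g ∈ T) (w : W V T) : act D g w = w := by
  obtain ⟨x, rfl⟩ := mkW_surjective w
  rw [act_mk, mkW_eq]
  show (g * (x : M) * g⁻¹)⁻¹ * x ∈ V
  have := D.comm _ hg _ (T.inv_mem x.2)
  rw [inv_inv] at this
  rw [show (g * (x : M) * g⁻¹)⁻¹ * x = g * (x : M)⁻¹ * g⁻¹ * x by group]
  exact this

theorem qW_act (D : NA V T) (g : M) (w : W V T) :
    ((qW D (act D g w) : V) : M) = g * (qW D w : M) * g⁻¹ := by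
  obtain ⟨x, rfl⟩ := mkW_surjective w
  rw [act_mk, qW_mk, qW_mk]
  group

theorem act_injective (D : NA V T) (g : M) : Function.Injective (act D g) := fun a b h => by
  have := congrArg (act D g⁻¹) h
  rwa [← act_mul, ← act_mul, inv_mul_cancel, act_one, act_one] at this

theorem act_pow_fix (D : NA V T) {g : M} {w : W V T} (h : act D g w = w) :
    ∀ i : ℕ, act D (g ^ i) w = w := by
  intro i
  induction i with
  | zero => rw [pow_zero]; exact act_one D w
  | succ i ih => rw [pow_succ, act_mul, h, ih]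

end CfsgLib.InvolNormal.SevenNA
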