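import Cfsg.Agent.Lib.InvolNormal.NAQuot

/-!
# A point of `W` over each involution, fixed by its stabiliser
-/

set_option autoImplicit false
set_option linter.unusedSectionVars false
set_option linter.style.haveILetI false

namespace CfsgLib.InvolNormal.SevenNA

open Subgroup SevenAbelian

universe u

variable {M : Type u} [Group M] [Finite M] {V T : Subgroup M} [(V.subgroupOf T).Normal]

/-- `g` conjugates `a, b, c` to the given images. -/
def Maps (g a b c a' b' c' : M) : Prop :=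
  g * a * g⁻¹ = a' ∧ g * b * g⁻¹ = b' ∧ g * c * g⁻¹ = c'

theorem Maps.comp {g h a b c a' b' c' a'' b'' c'' : M} (hh : Maps h a b c a' b' c')
    (hg : Maps g a' b' c' a'' b'' c'') : Maps (g * h) a b c a'' b'' c'' := by
  obtain ⟨h1, h2, h3⟩ := hh
  obtain ⟨g1, g2, g3⟩ := hg
  refine ⟨?_, ?_, ?_⟩
  · rw [← g1, ← h1]; group
  · rw [← g2, ← h2]; group
  · rw [← g3, ← h3]; group

theorem act_eq (D : NA V T) {a b c a' b' c' g h : M} (hG : Good V a b c)
    (hg : Maps g a b c a' b' c') (hh : Maps h a b c a' b' c') (e : W V T) :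
    act D g e = act D h e := by
  have key : ∀ {x x' : M}, g * x * g⁻¹ = x' → h * x * h⁻¹ = x' →
      g⁻¹ * h * x * (g⁻¹ * h)⁻¹ = x := by
    intro x x' hx hx'
    rw [← hx] at hx'
    calc g⁻¹ * h * x * (g⁻¹ * h)⁻¹ = g⁻¹ * (h * x * h⁻¹) * g := by group
      _ = x := by rw [hx']; group
  have hm : g⁻¹ * h ∈ T := mem_of_fix D.inv D.card D.cent hG (key hg.1 hh.1) (key hg.2.1 hh.2.1)
    (key hg.2.2 hh.2.2)
  calc act D g e = act D g (act D (g⁻¹ * h) e) := by rw [act_T D hm]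
    _ = act D h e := by rw [← act_mul, mul_inv_cancel_left]

theorem act_eq_self (D : NA V T) {a b c g : M} (hG : Good V a b c) (hg : Maps g a b c a b c)
    (e : W V T) : act D g e = e := by
  rw [act_eq D hG hg (h := 1) ⟨by group, by group, by group⟩, act_one]

/-- Number of preimages. -/
theorem fibre_eq (D : NA V T) (g : M) (v : M) (v' : M) (hv : g * v * g⁻¹ = v') :
    {e : W V T | ((qW D e : V) : M) = v}.ncard = {e : W V T | ((qW D e : V) : M) = v'}.ncard := by
  have himg : {e : W V T | ((qW D e : V) : M) = v'} =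
      act D g '' {e : W V T | ((qW D e : V) : M) = v} := by
    ext e
    constructor
    · intro he
      refine ⟨act D g⁻¹ e, ?_, by rw [← act_mul, mul_inv_cancel, act_one]⟩
      show ((qW D (act D g⁻¹ e) : V) : M) = v
      rw [qW_act, show ((qW D e : V) : M) = v' from he, ← hv]; group
    · rintro ⟨e', he', rfl⟩
      show ((qW D (act D g e') : V) : M) = v'
      rw [qW_act, show ((qW D e' : V) : M) = v from he', hv]
  rw [himg, Set.ncard_image_of_injective _ (act_injective D g)]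

theorem g_fix (D : NA V T) {a b c g : M} (hG : Good V a b c) (hg : Maps g a b c b c (a * b))
    {x : M} (hx : x ∈ V) (hfx : g * x * g⁻¹ = x) : x = 1 := by
  obtain ⟨i, j, l, rfl⟩ := span D.inv D.card hG hx
  obtain ⟨ha, hb, hc, -⟩ := id hG
  have h2 : ∀ {u : M}, u ∈ V → ∀ n : ℕ, 2 ∣ n → u ^ n = 1 := fun hu n ⟨k, hk⟩ => by
    rw [hk, pow_mul, pow_two, D.inv.mul_self hu, one_pow]
  have hpow : ∀ (u : M) (n : ℕ), g * u ^ n * g⁻¹ = (g * u * g⁻¹) ^ n := fun u n => conj_pow.symm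
  have himg : g * (a ^ i * b ^ j * c ^ l) * g⁻¹ = a ^ l * b ^ (i + l) * c ^ j := by
    rw [show g * (a ^ i * b ^ j * c ^ l) * g⁻¹ =
      g * a ^ i * g⁻¹ * (g * b ^ j * g⁻¹) * (g * c ^ l * g⁻¹) by group, hpow, hpow, hpow, hg.1,
      hg.2.1, hg.2.2, (show Commute a b from D.inv.comm ha hb).mul_pow]
    rw [mul_assoc (b ^ i), D.inv.comm (pow_mem hc j) (mul_mem (pow_mem ha l) (pow_mem hb l)),
      ← mul_assoc, ← mul_assoc, D.inv.comm (pow_mem hb i) (pow_mem ha l), mul_assoc (a ^ l), ← pow_add]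
  rw [himg] at hfx
  have e : a ^ (l + i) * b ^ (i + l + j) * c ^ (j + l) = 1 := by
    calc a ^ (l + i) * b ^ (i + l + j) * c ^ (j + l)
        = (a ^ l * a ^ i) * (b ^ (i + l) * b ^ j) * (c ^ j * c ^ l) := by
          rw [pow_add, pow_add b, pow_add c]
      _ = a ^ l * (a ^ i * b ^ (i + l)) * b ^ j * c ^ j * c ^ l := by group
      _ = a ^ l * b ^ (i + l) * (a ^ i * b ^ j * c ^ j) * c ^ l := by
          rw [D.inv.comm (pow_mem ha i) (pow_mem hb _)]; group
      _ = a ^ l * b ^ (i + l) * c ^ j * (a ^ i * b ^ j * c ^ l) := by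
          rw [D.inv.comm (mul_mem (pow_mem ha i) (pow_mem hb j)) (pow_mem hc j)]; group
      _ = 1 := by rw [hfx]; exact D.inv.mul_self hx
  obtain ⟨e1, e2, e3⟩ := combo D.inv hG e
  rw [h2 ha i (by omega), h2 hb j (by omega), h2 hc l (by omega), one_mul, one_mul]

theorem g_fix_W (D : NA V T) {a b c g : M} (hG : Good V a b c) (hg : Maps g a b c b c (a * b))
    {e : W V T} (he : act D g e = e) : e = 1 := by
  obtain ⟨x, rfl⟩ := mkW_surjective e
  rw [act_mk, mkW_eq] at he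
  have hz : (g * (x : M) * g⁻¹)⁻¹ * x ∈ V := he
  let f : V → V := fun y => ⟨g * y * g⁻¹ * y, mul_mem (D.inv.conj_mem y.2 g) y.2⟩
  have hf : Function.Injective f := by
    intro y y' hy
    have hy' : g * (y : M) * g⁻¹ * y = g * (y' : M) * g⁻¹ * y' := congrArg Subtype.val hy
    refine Subtype.ext ?_
    have hyy : (y : M) * y' = 1 := by
      refine g_fix D hG hg (mul_mem y.2 y'.2) ?_
      have e2 : g * ((y : M) * y') * g⁻¹ * ((y : M) * y') = 1 := by
        calc g * ((y : M) * y') * g⁻¹ * ((y : M) * y')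
            = g * y * g⁻¹ * (g * y' * g⁻¹ * y) * y' := by group
          _ = g * y * g⁻¹ * (y * (g * y' * g⁻¹)) * y' := by
              rw [D.inv.comm (D.inv.conj_mem y'.2 g) y.2]
          _ = (g * y * g⁻¹ * y) * (g * y' * g⁻¹ * y') := by group
          _ = 1 := by
              rw [hy']; exact D.inv.mul_self (mul_mem (D.inv.conj_mem y'.2 g) y'.2)
      rw [mul_eq_one_iff_eq_inv.1 e2, D.inv.inv_eq (mul_mem y.2 y'.2)]
    rw [mul_eq_one_iff_eq_inv.1 hyy, D.inv.inv_eq y'.2]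
  obtain ⟨y, hy⟩ := Finite.injective_iff_surjective.1 hf ⟨_, hz⟩
  have hy' : g * (y : M) * g⁻¹ * y = (g * (x : M) * g⁻¹)⁻¹ * x := congrArg Subtype.val hy
  have hfix : g * ((x : M) * y) * g⁻¹ = x * y := by
    calc g * ((x : M) * y) * g⁻¹ = g * x * g⁻¹ * (g * y * g⁻¹ * y) * (y : M)⁻¹ := by group
      _ = x * y := by rw [hy', D.inv.inv_eq y.2]; group
  have hxy : (x : M) * y ∈ T := mul_mem x.2 (D.le y.2)
  have hsq : (x : M) * y * (x * y) = 1 := g_fix D hG hg (D.sq _ hxy) (by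
    rw [show g * ((x : M) * y * (x * y)) * g⁻¹ = g * (x * y) * g⁻¹ * (g * (x * y) * g⁻¹) by group,
      hfix])
  rw [mkW_eq_one]
  have := (D.inv.mem_iff _).2 hsq
  simpa using mul_mem this (inv_mem y.2)

/-- The averaging identity over the group of order twenty-one. -/
theorem avg_identity {A : Type*} [CommGroup A] (e a0 a1 a2 a3 a4 a5 a6 b0 b1 b2 b3 b4 b5 b6 : A)
    (he : e * e = 1) (h0 : e * a0 * b0 = 1) (h1 : e * a6 * b4 = 1) (h2 : e * a5 * b1 = 1)
    (h3 : e * a4 * b5 = 1) (h4 : e * a3 * b2 = 1) (h5 : e * a2 * b6 = 1) (h6 : e * a1 * b3 = 1)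
    (ka : a0 * a1 * a2 * a3 * a4 * a5 * a6 = 1) (kb : b0 * b1 * b2 * b3 * b4 * b5 * b6 = 1) :
    e = 1 := by
  have h : (e * a0 * b0) * (e * a6 * b4) * (e * a5 * b1) * (e * a4 * b5) * (e * a3 * b2) *
      (e * a2 * b6) * (e * a1 * b3) = 1 := by simp only [h0, h1, h2, h3, h4, h5, h6, mul_one]
  have h' : e * ((e * e) * ((e * e) * (e * e))) * (a0 * a1 * a2 * a3 * a4 * a5 * a6) *
      (b0 * b1 * b2 * b3 * b4 * b5 * b6) = 1 := by rw [← h]; ac_rfl
  simpa [he, ka, kb] using h'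

theorem exists_w_fixed (D : NA V T) {v b c w : M} (hG : Good V v b c)
    (hw : Maps w v b c v c (b * c)) (hne : ∃ e : W V T, e ≠ 1) :
    ∃ e : W V T, e ≠ 1 ∧ act D w e = e := by
  classical
  obtain ⟨hv, hb, hc, hv1, hb1, hbv, hc1, hcv, hcb, hcvb⟩ := id hG
  have hG1 : Good V b c (v * b) := by
    refine ⟨hb, hc, mul_mem hv hb, hb1, hc1, hcb, ?_, ?_, hcvb.symm, ?_⟩
    · exact fun e => hbv (by rw [mul_eq_one_iff_eq_inv.1 e, D.inv.inv_eq hb])
    · exact fun e => hv1 (mul_eq_right.1 e)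
    · intro e
      rw [D.inv.comm hv hb] at e
      exact hcv (mul_left_cancel e).symm
  obtain ⟨g, hg⟩ : ∃ g : M, Maps g v b c b c (v * b) := map_exists D hG hG1
  have mc : ∀ (g x y : M), g * (x * y) * g⁻¹ = g * x * g⁻¹ * (g * y * g⁻¹) := fun g x y => by group
  obtain ⟨g1, g2, g3⟩ := hg
  obtain ⟨w1, w2, w3⟩ := hw
  have s1 : Maps g b c (v * b) c (v * b) (b * c) := ⟨g2, g3, by rw [mc, g1, g2]⟩
  have s2 : Maps g c (v * b) (b * c) (v * b) (b * c) (c * (v * b)) :=
    ⟨g3, by rw [mc, g1, g2], by rw [mc, g2, g3]⟩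
  have p2 : Maps (g ^ 2) v b c c (v * b) (b * c) := by
    rw [pow_two]; exact Maps.comp ⟨g1, g2, g3⟩ s1
  have p7 : Maps (g ^ 7) v b c v b c := by
    have e5 : g * (b * c) * g⁻¹ = c * (v * b) := by rw [mc, g2, g3]
    have e6 : g * (c * (v * b)) * g⁻¹ = v * b * (b * c) := by rw [mc, g3, mc, g1, g2]
    have evc : v * b * (b * c) = v * c := by
      rw [mul_assoc, ← mul_assoc b, D.inv.mul_self hb, one_mul]
    have e7 : g * (v * b * (b * c)) * g⁻¹ = v := by
      rw [evc, mc, g1, g3, ← mul_assoc, D.inv.comm hb hv, mul_assoc, D.inv.mul_self hb, mul_one]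
    have q4 := (Maps.comp p2 ⟨g3, by rw [mc, g1, g2], e5⟩ : Maps (g * g ^ 2) v b c _ _ _)
    have q5 := Maps.comp q4 (⟨by rw [mc, g1, g2], e5, e6⟩ :
      Maps g (v * b) (b * c) (c * (v * b)) (b * c) (c * (v * b)) (v * b * (b * c)))
    have q6 := Maps.comp q5 (⟨e5, e6, e7⟩ :
      Maps g (b * c) (c * (v * b)) (v * b * (b * c)) (c * (v * b)) (v * b * (b * c)) v)
    have q7 := Maps.comp q6 (⟨e6, e7, g1⟩ :
      Maps g (c * (v * b)) (v * b * (b * c)) v (v * b * (b * c)) v b)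
    have q8 := Maps.comp q7 (⟨e7, g1, g2⟩ :
      Maps g (v * b * (b * c)) v b v b c)
    rw [show g ^ 7 = g * (g * (g * (g * (g * g ^ 2)))) by simp only [pow_succ, pow_zero, one_mul]; group]
    exact q8
  have a7 : ∀ e, act D (g ^ 7) e = e := act_eq_self D hG p7
  have hrel : ∀ e, act D (w * g) e = act D (g ^ 2 * w) e := by
    refine act_eq D hG (a' := c) (b' := b * c) (c' := v * c)
      (Maps.comp ⟨g1, g2, g3⟩ ⟨w2, w3, by rw [mc, w1, w2]⟩) ?_
    refine Maps.comp ⟨w1, w2, w3⟩ ⟨p2.1, p2.2.2, ?_⟩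
    rw [mc, p2.2.1, p2.2.2, mul_assoc, ← mul_assoc b, D.inv.mul_self hb, one_mul]
  have hper : ∀ (n : ℕ) (e : W V T), act D (g ^ n) e = act D (g ^ (n % 7)) e := by
    intro n e
    conv_lhs => rw [← Nat.mod_add_div n 7, pow_add, pow_mul, act_mul,
      act_pow_fix D (a7 e) (n / 7)]
  have hwg : ∀ (n : ℕ) (e : W V T), act D w (act D (g ^ n) e) = act D (g ^ (2 * n)) (act D w e) := by
    intro n
    induction n with
    | zero => intro e; simp [act_one]
    | succ n ih =>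
      intro e
      rw [pow_succ g n, act_mul, ih, ← act_mul D w g, hrel, act_mul, ← act_mul D (g ^ (2 * n)),
        ← pow_add, show 2 * n + 2 = 2 * (n + 1) by ring]
  by_contra hcon
  push Not at hcon
  obtain ⟨e₀, he₀⟩ := hne
  letI : CommGroup (W V T) :=
    { (inferInstance : Group (W V T)) with mul_comm := W_comm D }
  have hN : ∀ e : W V T, e * act D g e * act D (g ^ 2) e * act D (g ^ 3) e * act D (g ^ 4) e *
      act D (g ^ 5) e * act D (g ^ 6) e = 1 := by
    intro e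
    refine g_fix_W D hG ⟨g1, g2, g3⟩ ?_
    simp only [act_map_mul, ← act_mul, ← pow_succ', ← pow_two]
    rw [show (6 + 1 : ℕ) = 7 from rfl, a7]
    simp only [show (2 + 1 : ℕ) = 3 from rfl, show (3 + 1 : ℕ) = 4 from rfl,
      show (4 + 1 : ℕ) = 5 from rfl, show (5 + 1 : ℕ) = 6 from rfl]
    simp [mul_comm, mul_left_comm, mul_assoc]
  have hw3 : ∀ e, act D w (act D w (act D w e)) = e := by
    intro e
    rw [← act_mul, ← act_mul]
    rw [mul_assoc]
    refine act_eq_self D hG (Maps.comp (Maps.comp ⟨w1, w2, w3⟩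
      (⟨w1, w3, by rw [mc, w2, w3, ← mul_assoc, D.inv.comm hc hb, mul_assoc, D.inv.mul_self hc, mul_one]⟩ :
        Maps w v c (b * c) v (b * c) b)) ⟨w1, ?_, w2⟩) e
    rw [mc, w2, w3, ← mul_assoc, D.inv.comm hc hb, mul_assoc, D.inv.mul_self hc, mul_one]
  have hK : ∀ (j k : ℕ) (e : W V T), act D (g ^ k) (act D (g ^ j) e) = act D (g ^ ((k + j) % 7)) e :=
    fun j k e => by rw [← act_mul, ← pow_add, hper]
  have hNj : ∀ (j : ℕ) (e : W V T),
      act D (g ^ ((j + 6 * j) % 7)) e * act D (g ^ ((j + 2 * (6 * j)) % 7)) (act D w e) *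
        act D (g ^ ((j + 2 * (2 * (6 * j))) % 7)) (act D w (act D w e)) = 1 := by
    intro j e
    set f := act D (g ^ (6 * j)) e with hf
    have hfix : f * act D w f * act D w (act D w f) = 1 := by
      by_contra hne
      exact hcon _ hne (by simp only [act_map_mul, hw3]; simp [mul_comm, mul_left_comm, mul_assoc])
    have := congrArg (act D (g ^ j)) hfix
    simp only [act_map_mul] at this
    rw [hf, hwg, hwg, hK, hK, hK] at this
    rw [this]
    have hone := act_map_mul D (g ^ j) 1 1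
    rw [mul_one] at hone
    exact left_eq_mul.1 hone
  have hprod : ∀ (e : W V T), e = 1 := by
    intro e
    have h0 := hNj 0 e
    have h1 := hNj 1 e
    have h2 := hNj 2 e
    have h3 := hNj 3 e
    have h4 := hNj 4 e
    have h5 := hNj 5 e
    have h6 := hNj 6 e
    norm_num [act_one] at h0 h1 h2 h3 h4 h5 h6
    exact avg_identity e (act D w e) (act D g (act D w e)) _ _ _ _ _ (act D w (act D w e))
      (act D g (act D w (act D w e))) _ _ _ _ _ (W_sq D e) h0 h1 h2 h3 h4 h5 h6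
      (hN (act D w e)) (hN (act D w (act D w e)))
  exact he₀ (hprod e₀)

end CfsgLib.InvolNormal.SevenNA
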