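import Cfsg.Agent.Lib.InvolNormal.NASection
import Cfsg.Agent.Lib.InvolNormal.Forms
import Cfsg.Agent.Lib.InvolNormal.RigidCard

/-!
# The order of `W` and the stabiliser of an involution
-/

set_option autoImplicit false
set_option linter.unusedSectionVars false
set_option linter.style.haveILetI false

namespace CfsgLib.InvolNormal.SevenNA

open Subgroup SevenAbelian

universe u

variable {M : Type u} [Group M] [Finite M] {V T : Subgroup M} [(V.subgroupOf T).Normal]

theorem W_ne (D : NA V T) (hna : ∃ a ∈ T, ∃ b ∈ T, a * b ≠ b * a) : ∃ e : W V T, e ≠ 1 := by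
  by_contra hcon
  push Not at hcon
  obtain ⟨a, ha, b, hb, hne⟩ := hna
  exact hne (D.inv.comm ((mkW_eq_one (V := V) (⟨a, ha⟩ : T)).1 (hcon _))
    ((mkW_eq_one (V := V) (⟨b, hb⟩ : T)).1 (hcon _)))

theorem conj_transitive (D : NA V T) {v v' : M} (hv : v ∈ V) (hv1 : v ≠ 1) (hv' : v' ∈ V)
    (hv'1 : v' ≠ 1) : ∃ g : M, g * v * g⁻¹ = v' := by
  obtain ⟨b, c, hG⟩ := good_exists D hv hv1
  obtain ⟨b', c', hG'⟩ := good_exists D hv' hv'1
  obtain ⟨g, hg, -⟩ := map_exists D hG hG'
  exact ⟨g, hg⟩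

/-- The order of `W`. -/
theorem card_W (D : NA V T) (hna : ∃ a ∈ T, ∃ b ∈ T, a * b ≠ b * a) :
    letI := commV D.inv
    Nat.card (W V T) = 8 ∨ (Nat.card (W V T) = 64 ∧ ∀ l : Additive V →+ ZMod 2, l ≠ 0 →
      ∀ y : W V T, (∀ x, l (Additive.ofMul (bW D x y)) = 0) → y = 1) := by
  letI := commV D.inv
  letI : CommGroup (W V T) := { (inferInstance : Group (W V T)) with mul_comm := W_comm D }
  obtain ⟨e, he⟩ := W_ne D hna
  haveI : Nontrivial (Additive (W V T)) := ⟨⟨Additive.ofMul e, 0, fun h => he h⟩⟩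
  have h := anisotropic_card (W := Additive (W V T)) (V := Additive V)
    (fun w => congrArg Additive.ofMul (W_sq D w.toMul))
    (fun v => congrArg Additive.ofMul (Subtype.ext (D.inv.mul_self v.toMul.2))) (d := 3) (by norm_num)
    (by rw [Nat.card_congr Additive.toMul, D.card]; norm_num)
    (fun w => Additive.ofMul (qW D w.toMul))
    (fun a b => Additive.ofMul (bW D a.toMul b.toMul))
    (fun a b => congrArg Additive.ofMul (qW_mul D a.toMul b.toMul))
    (fun a b c => congrArg Additive.ofMul (bW_add D a.toMul b.toMul c.toMul))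
    (fun w hw hq => hw (congrArg Additive.ofMul (qW_eq_one D w.toMul (congrArg Additive.toMul hq))))
    (fun x y hx hy => by
      obtain ⟨g, hg⟩ := conj_transitive D x.toMul.2 (fun e => hx (congrArg Additive.ofMul (Subtype.ext e)))
        y.toMul.2 (fun e => hy (congrArg Additive.ofMul (Subtype.ext e)))
      have e1 : ∀ z : Additive V, Nat.card {w : Additive (W V T) // Additive.ofMul (qW D w.toMul) = z} =
          {e : W V T | ((qW D e : V) : M) = (z.toMul : M)}.ncard := by
        intro z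
        rw [← Nat.card_coe_set_eq]
        exact Nat.card_congr
          { toFun := fun w => ⟨w.1.toMul, congrArg (fun u : Additive V => (u.toMul : M)) w.2⟩
            invFun := fun e => ⟨Additive.ofMul e.1, congrArg Additive.ofMul (Subtype.ext e.2)⟩
            left_inv := fun _ => rfl
            right_inv := fun _ => rfl }
      rw [e1, e1]
      exact fibre_eq D g _ _ hg)
  have hc : Nat.card (Additive (W V T)) = Nat.card (W V T) := Nat.card_congr Additive.toMul
  rcases h with h | ⟨h, hnd⟩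
  · left; rw [← hc, h]; norm_num
  · right
    exact ⟨by rw [← hc, h]; norm_num, fun l hl y hy =>
      congrArg Additive.toMul (hnd l hl (Additive.ofMul y) (fun x => hy x.toMul))⟩

/-- The elations with centre `v`. -/
def elations (D : NA V T) {v : M} (hv : v ∈ V) : Subgroup M where
  carrier := {g | ∀ x ∈ V, g * x * g⁻¹ = x ∨ g * x * g⁻¹ = x * v}
  one_mem' := fun x _ => Or.inl (by group)
  mul_mem' := fun {g h} hg hh x hx => by
    have hgv : g * v * g⁻¹ = v := by
      rcases hg v hv with e | e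
      · exact e
      · rw [D.inv.mul_self hv] at e
        have hv1 : v = 1 := by
          have := congrArg (fun z => g⁻¹ * z * g) e
          simpa [mul_assoc] using this
        rw [e, hv1]
    rw [show g * h * x * (g * h)⁻¹ = g * (h * x * h⁻¹) * g⁻¹ by group]
    rcases hh x hx with e | e <;> rw [e]
    · exact hg x hx
    · rw [show g * (x * v) * g⁻¹ = g * x * g⁻¹ * (g * v * g⁻¹) by group, hgv]
      rcases hg x hx with e' | e' <;> rw [e']
      · exact Or.inr rfl
      · left; rw [mul_assoc, D.inv.mul_self hv, mul_one]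
  inv_mem' := fun {g} hg x hx => by
    have hy : g⁻¹ * x * g ∈ V := by simpa using D.inv.conj_mem hx g⁻¹
    rw [inv_inv]
    rcases hg _ hy with e | e
    · left
      rw [show g * (g⁻¹ * x * g) * g⁻¹ = x by group] at e
      exact e.symm
    · right
      rw [show g * (g⁻¹ * x * g) * g⁻¹ = x by group] at e
      calc g⁻¹ * x * g = g⁻¹ * x * g * (v * v) := by rw [D.inv.mul_self hv, mul_one]
        _ = x * v := by rw [← mul_assoc _ v v, ← e]

theorem mem_elations (D : NA V T) {v : M} (hv : v ∈ V) {g : M} :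
    g ∈ elations D hv ↔ ∀ x ∈ V, g * x * g⁻¹ = x ∨ g * x * g⁻¹ = x * v := Iff.rfl

theorem elations_fix (D : NA V T) {v : M} (hv : v ∈ V) {g : M} (hg : g ∈ elations D hv) :
    g * v * g⁻¹ = v := by
  rcases hg v hv with e | e
  · exact e
  · rw [D.inv.mul_self hv] at e
    have hv1 : v = 1 := by
      have := congrArg (fun z => g⁻¹ * z * g) e
      simpa [mul_assoc] using this
    rw [e, hv1]

theorem T_le_elations (D : NA V T) {v : M} (hv : v ∈ V) : T ≤ elations D hv := fun g hg x hx =>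
  Or.inl (by rw [T_comm D hg hx, mul_inv_cancel_right])

theorem elations_two (D : NA V T) {v : M} (hv : v ∈ V) : IsPGroup 2 (elations D hv) := by
  intro g
  have hmem : (g : M) * g ∈ T := by
    refine (D.cent _).1 fun x hx => ?_
    have hgv := elations_fix D hv g.2
    have e : (g : M) * ((g : M) * x * (g : M)⁻¹) * (g : M)⁻¹ = x := by
      rcases g.2 x hx with e | e <;> rw [e]
      · exact e
      · rw [show (g : M) * (x * v) * (g : M)⁻¹ = g * x * (g : M)⁻¹ * (g * v * (g : M)⁻¹) by group,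
          e, hgv, mul_assoc, D.inv.mul_self hv, mul_one]
    calc (g : M) * g * x = g * ((g : M) * x * (g : M)⁻¹) * (g : M)⁻¹ * (g * g) := by group
      _ = x * (g * g) := by rw [e]
  obtain ⟨k, hk⟩ := D.two ⟨_, hmem⟩
  refine ⟨k + 1, Subtype.ext ?_⟩
  have hk' : ((g : M) * g) ^ 2 ^ k = 1 := congrArg Subtype.val hk
  rw [Subgroup.coe_pow, pow_succ', pow_mul, pow_two]
  exact hk'

theorem elations_conj (D : NA V T) {v : M} (hv : v ∈ V) {g h : M} (hg : g * v * g⁻¹ = v)
    (hh : h ∈ elations D hv) : g⁻¹ * h * g ∈ elations D hv := by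
  intro x hx
  have hy : g * x * g⁻¹ ∈ V := D.inv.conj_mem hx g
  rw [show g⁻¹ * h * g * x * (g⁻¹ * h * g)⁻¹ = g⁻¹ * (h * (g * x * g⁻¹) * h⁻¹) * g by group]
  rcases hh _ hy with e | e <;> rw [e]
  · left; group
  · right
    calc g⁻¹ * (g * x * g⁻¹ * v) * g = x * (g⁻¹ * v * g) := by group
      _ = x * v := by
        congr 1
        calc g⁻¹ * v * g = g⁻¹ * (g * v * g⁻¹) * g := by rw [hg]
          _ = v := by group

theorem exp2 (D : NA V T) {u : M} (hu : u ∈ V) (n : ℕ) :
    (2 ∣ n ∧ u ^ n = 1) ∨ (¬ 2 ∣ n ∧ u ^ n = u) := by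
  rcases Nat.even_or_odd' n with ⟨k, rfl | rfl⟩
  · left; exact ⟨⟨k, rfl⟩, by rw [pow_mul, pow_two, D.inv.mul_self hu, one_pow]⟩
  · right; exact ⟨by omega, by rw [pow_succ, pow_mul, pow_two, D.inv.mul_self hu, one_pow, one_mul]⟩

theorem mem_elations_of_maps (D : NA V T) {v b c g : M} (hG : Good V v b c)
    (h1 : g * v * g⁻¹ = v) (h2 : g * b * g⁻¹ = b ∨ g * b * g⁻¹ = b * v)
    (h3 : g * c * g⁻¹ = c ∨ g * c * g⁻¹ = c * v) : g ∈ elations D hG.1 := by
  intro x hx
  obtain ⟨hv, hb, hc, -⟩ := id hG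
  obtain ⟨i, j, l, rfl⟩ := span D.inv D.card hG hx
  rw [show g * (v ^ i * b ^ j * c ^ l) * g⁻¹ = g * v ^ i * g⁻¹ * (g * b ^ j * g⁻¹) * (g * c ^ l * g⁻¹)
    by group, ← conj_pow, ← conj_pow, ← conj_pow, h1]
  have cvb : (show Commute b v from D.inv.comm hb hv) = (show Commute b v from D.inv.comm hb hv) := rfl
  have hswap : ∀ {y z : M}, y ∈ V → z ∈ V → y * v * z = y * z * v := fun {y z} hy hz => by
    rw [mul_assoc, D.inv.comm hv hz, ← mul_assoc]
  rcases h2 with e | e <;> rcases h3 with e' | e' <;> rw [e, e']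
  · exact Or.inl rfl
  · rw [(show Commute c v from D.inv.comm hc hv).mul_pow]
    rcases exp2 D hv l with ⟨-, el⟩ | ⟨-, el⟩ <;> rw [el]
    · left; rw [mul_one]
    · right; rw [← mul_assoc]
  · rw [(show Commute b v from D.inv.comm hb hv).mul_pow]
    rcases exp2 D hv j with ⟨-, el⟩ | ⟨-, el⟩ <;> rw [el]
    · left; rw [mul_one]
    · right
      rw [← mul_assoc, hswap (mul_mem (pow_mem hv i) (pow_mem hb j)) (pow_mem hc l)]
  · rw [(show Commute b v from D.inv.comm hb hv).mul_pow,
      (show Commute c v from D.inv.comm hc hv).mul_pow]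
    rcases exp2 D hv j with ⟨-, el⟩ | ⟨-, el⟩ <;> rw [el] <;>
      rcases exp2 D hv l with ⟨-, el'⟩ | ⟨-, el'⟩ <;> rw [el']
    · left; rw [mul_one, mul_one]
    · right; rw [mul_one, ← mul_assoc]
    · right; rw [mul_one, ← mul_assoc, hswap (mul_mem (pow_mem hv i) (pow_mem hb j)) (pow_mem hc l)]
    · left
      rw [← mul_assoc, ← mul_assoc, hswap (mul_mem (pow_mem hv i) (pow_mem hb j)) (pow_mem hc l),
        mul_assoc _ v v, D.inv.mul_self hv, mul_one]

end CfsgLib.InvolNormal.SevenNA
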