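import Cfsg.Agent.Lib.InvolNormal.Rigid
import Cfsg.Agent.Lib.Classical.PSLSimple
import Cfsg.Agent.Lib.Classical.Order
import Cfsg.Agent.Lib.Recog.AutToGL
import Cfsg.Agent.Lib.Coprime.Hall

/-!
# Seven involutions: reduction to a perfect extension of a two-group by `GL(3, 2)`
-/

set_option autoImplicit false
set_option linter.style.haveILetI false

namespace CfsgLib.InvolNormal

open Subgroup
open scoped Pointwise

universe u

/-- `GL(3, 2)` is a non-commutative simple group of order `168`. -/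
theorem gl32 : IsSimpleGroup (GL (Fin 3) (ZMod 2)) ∧ Nat.card (GL (Fin 3) (ZMod 2)) = 168 ∧
    commutator (GL (Fin 3) (ZMod 2)) = ⊤ := by
  haveI : Fact (Nat.Prime 2) := ⟨Nat.prime_two⟩
  have h168 : Nat.card (GL (Fin 3) (ZMod 2)) = 168 := by
    rw [CfsgLib.Classical.card_GL_fin, Nat.card_zmod]; rfl
  haveI : IsSimpleGroup (Matrix.ProjectiveSpecialLinearGroup (Fin 3) (ZMod 2)) :=
    CfsgLib.Classical.isSimpleGroup_PSL_fin 3 (by norm_num) (by norm_num)
  have hcen3 : Subgroup.center (Matrix.SpecialLinearGroup (Fin 3) (ZMod 2)) = ⊥ := by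
    rw [Subgroup.eq_bot_iff_card, CfsgLib.Classical.card_center_SL_fin 3 (by norm_num),
      Nat.card_zmod]
    rfl
  let j : Matrix.ProjectiveSpecialLinearGroup (Fin 3) (ZMod 2) ≃*
      Matrix.SpecialLinearGroup (Fin 3) (ZMod 2) :=
    (QuotientGroup.quotientMulEquivOfEq hcen3).trans QuotientGroup.quotientBot
  have hbij : Function.Bijective (Matrix.SpecialLinearGroup.toGL :
      Matrix.SpecialLinearGroup (Fin 3) (ZMod 2) →* GL (Fin 3) (ZMod 2)) := by
    refine ⟨Matrix.SpecialLinearGroup.toGL_injective, fun g => ?_⟩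
    refine ⟨⟨g.1, ?_⟩, Units.ext rfl⟩
    exact congrArg Units.val (Subsingleton.elim (Matrix.GeneralLinearGroup.det g) 1)
  let e := j.trans (MulEquiv.ofBijective _ hbij)
  haveI : Nontrivial (GL (Fin 3) (ZMod 2)) :=
    Finite.one_lt_card_iff_nontrivial.1 (by rw [h168]; norm_num)
  have hs : IsSimpleGroup (GL (Fin 3) (ZMod 2)) :=
    IsSimpleGroup.isSimpleGroup_of_surjective e.toMonoidHom e.surjective
  haveI := hs
  refine ⟨hs, h168, ((inferInstance :
    (commutator (GL (Fin 3) (ZMod 2))).Normal).eq_bot_or_eq_top).resolve_left fun h0 => ?_⟩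
  have hc : ∀ a b : GL (Fin 3) (ZMod 2), a * b = b * a := fun a b => by
    have := Subgroup.commutator_mem_commutator (Subgroup.mem_top a) (Subgroup.mem_top b)
    rw [← _root_.commutator_def, h0, Subgroup.mem_bot, commutatorElement_eq_one_iff_mul_comm] at this
    exact this
  letI : CommGroup (GL (Fin 3) (ZMod 2)) :=
    { (inferInstance : Group (GL (Fin 3) (ZMod 2))) with mul_comm := hc }
  have hp := IsSimpleGroup.prime_card (α := GL (Fin 3) (ZMod 2))
  rw [h168] at hp
  exact absurd hp (by norm_num)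

variable {M : Type u} [Group M] [Finite M] {V : Subgroup M}

theorem exists_other_seven (hV : Nat.card V = 8) (a : M) : ∃ b ∈ V, b ≠ 1 ∧ b ≠ a := by
  by_contra! hall
  have hsub : (V : Set M) ⊆ {1, a} := fun x hx => by
    rcases eq_or_ne x 1 with rfl | hx1
    · exact Or.inl rfl
    · exact Or.inr (hall x hx hx1)
  have h1 := Set.ncard_le_ncard hsub (Set.toFinite _)
  have h2 : ({1, a} : Set M).ncard ≤ 2 := (Set.ncard_insert_le _ _).trans (by simp)
  rw [← Nat.card_coe_set_eq] at h1
  change Nat.card V ≤ _ at h1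
  omega

theorem Two2.conj_transitive (h2 : Two2 M V) (hV : Nat.card V = 8) {a c : M} (ha : a ∈ V)
    (hc : c ∈ V) (ha1 : a ≠ 1) (hc1 : c ≠ 1) : ∃ g : M, g * a * g⁻¹ = c := by
  obtain ⟨b, hb, hb1, hba⟩ := exists_other_seven hV a
  obtain ⟨e, he, he1, hec⟩ := exists_other_seven hV c
  obtain ⟨g, hg, -⟩ := h2 a ha b hb c hc e he ha1 hb1 hc1 he1 hba.symm hec.symm
  exact ⟨g, hg⟩

/-- The action on `V` is that of the whole of `GL(3, 2)`. -/
theorem exists_onto_gl (h : InvV M V) (hV : Nat.card V = 8) (h2 : Two2 M V) :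
    ∃ φ : M →* GL (Fin 3) (ZMod 2), Function.Surjective φ ∧
      φ.ker = centralizer (V : Set M) := by
  classical
  haveI : Fact (Nat.Prime 2) := ⟨Nat.prime_two⟩
  obtain ⟨hs, h168, -⟩ := gl32
  haveI := hs
  haveI := h.normal
  letI : CommGroup V :=
    { (inferInstance : Group V) with mul_comm := fun a b => Subtype.ext (h.comm a.2 b.2) }
  obtain ⟨ψ, hψ⟩ := CfsgLib.Recog.exists_injective_mulAut_to_GL (A := V) (p := 2) (e := 3)
    (fun x => Subtype.ext (by rw [SubmonoidClass.coe_pow, pow_two]; exact h.mul_self x.2)) hV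
  set f : M →* MulAut V := MulAut.conjNormal with hf
  set φ := ψ.comp f with hφdef
  have hker : φ.ker = centralizer (V : Set M) := by
    ext g
    rw [hφdef, ← MonoidHom.comap_ker, (MonoidHom.ker_eq_bot_iff ψ).2 hψ, MonoidHom.comap_bot,
      MonoidHom.mem_ker, mem_centralizer_iff]
    constructor
    · intro hg v hv
      have e0 : f g ⟨v, hv⟩ = ⟨v, hv⟩ := DFunLike.congr_fun hg _
      have e : g * v * g⁻¹ = v := congrArg Subtype.val e0
      exact (mul_inv_eq_iff_eq_mul.1 e).symm
    · intro hg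
      refine MulEquiv.ext fun v => Subtype.ext ?_
      show g * (v : M) * g⁻¹ = v
      rw [← hg v v.2, mul_inv_cancel_right]
  refine ⟨φ, ?_, hker⟩
  -- the image has order divisible by `42`
  obtain ⟨a, ha, ha1, -⟩ := exists_other_seven hV (1 : M)
  obtain ⟨b, hb, hb1, hba⟩ := exists_other_seven hV a
  set S : Set (M × M) := {x | x.1 ∈ V ∧ x.2 ∈ V ∧ x.1 ≠ 1 ∧ x.2 ≠ 1 ∧ x.1 ≠ x.2} with hS
  have horb : MulAction.orbit (ConjAct M) ((a, b) : M × M) = S := by
    ext x
    constructor
    · rintro ⟨g, rfl⟩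
      simp only [Prod.smul_mk, ConjAct.smul_def, hS, Set.mem_ofPred_eq]
      exact ⟨h.conj_mem ha _, h.conj_mem hb _, fun e => ha1 (conj_eq_one_iff.1 e),
        fun e => hb1 (conj_eq_one_iff.1 e),
        fun e => hba (mul_left_cancel (mul_right_cancel e)).symm⟩
    · rintro ⟨hc, he, hc1, he1, hce⟩
      obtain ⟨g, hg1, hg2⟩ := h2 a ha b hb x.1 hc x.2 he ha1 hb1 hc1 he1 hba.symm hce
      exact ⟨ConjAct.toConjAct g, Prod.ext (by simpa [ConjAct.smul_def] using hg1)
        (by simpa [ConjAct.smul_def] using hg2)⟩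
  have hcardS : S.ncard = 42 := by
    haveI := Fintype.ofFinite V
    rw [← Nat.card_coe_set_eq]
    have e : S ≃ {x : V × V // x.1 ≠ 1 ∧ x.2 ≠ 1 ∧ x.1 ≠ x.2} :=
      { toFun := fun x => ⟨(⟨x.1.1, x.2.1⟩, ⟨x.1.2, x.2.2.1⟩),
          fun e => x.2.2.2.1 (congrArg Subtype.val e), fun e => x.2.2.2.2.1 (congrArg Subtype.val e),
          fun e => x.2.2.2.2.2 (congrArg Subtype.val e)⟩
        invFun := fun x => ⟨((x.1.1 : M), (x.1.2 : M)), x.1.1.2, x.1.2.2,
          fun e => x.2.1 (Subtype.ext e), fun e => x.2.2.1 (Subtype.ext e),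
          fun e => x.2.2.2 (Subtype.ext e)⟩
        left_inv := fun x => rfl
        right_inv := fun x => rfl }
    rw [Nat.card_congr e]
    have σ : V ≃ Fin 8 := (Fintype.equivFin V).trans
      (finCongr (by rw [← Nat.card_eq_fintype_card, hV]))
    have e' : {x : V × V // x.1 ≠ 1 ∧ x.2 ≠ 1 ∧ x.1 ≠ x.2} ≃
        {x : Fin 8 × Fin 8 // x.1 ≠ σ 1 ∧ x.2 ≠ σ 1 ∧ x.1 ≠ x.2} :=
      Equiv.subtypeEquiv (σ.prodCongr σ) fun x => by simp
    rw [Nat.card_congr e', Nat.card_eq_fintype_card]
    have : ∀ z : Fin 8, Fintype.card {x : Fin 8 × Fin 8 // x.1 ≠ z ∧ x.2 ≠ z ∧ x.1 ≠ x.2} = 42 := by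
      decide +kernel
    exact this _
  have h42 : 42 ∣ Nat.card φ.range := by
    rw [← Subgroup.index_ker φ, hker]
    have hidx := MulAction.index_stabilizer (ConjAct M) ((a, b) : M × M)
    rw [horb, hcardS] at hidx
    rw [← hidx, ← Subgroup.index_map_equiv (centralizer (V : Set M))
      (ConjAct.toConjAct : M ≃* ConjAct M)]
    refine Subgroup.index_dvd_of_le ?_
    rintro _ ⟨k, hk, rfl⟩
    have hk' := mem_centralizer_iff.1 hk
    refine Prod.ext ?_ ?_ <;> simp only [Prod.smul_mk]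
    · show k * a * k⁻¹ = a
      rw [← hk' a ha, mul_inv_cancel_right]
    · show k * b * k⁻¹ = b
      rw [← hk' b hb, mul_inv_cancel_right]
  rw [← MonoidHom.range_eq_top]
  by_contra htop
  have hbot : φ.range.normalCore = ⊥ :=
    ((Subgroup.normalCore_normal φ.range).eq_bot_or_eq_top).resolve_right fun e =>
      htop (top_le_iff.1 (e ▸ Subgroup.normalCore_le φ.range))
  have hinj : Function.Injective
      (MulAction.toPermHom (GL (Fin 3) (ZMod 2)) (GL (Fin 3) (ZMod 2) ⧸ φ.range)) := by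
    rw [← MonoidHom.ker_eq_bot_iff, ← Subgroup.normalCore_eq_ker, hbot]
  have hle := Nat.card_le_card_of_injective _ hinj
  rw [h168, Nat.card_perm, ← Subgroup.index_eq_card] at hle
  have hmul := φ.range.card_mul_index
  rw [h168] at hmul
  have hi : φ.range.index ≤ 4 := by
    obtain ⟨c, hc⟩ := h42
    rw [hc] at hmul
    rcases Nat.eq_zero_or_pos c with rfl | hcpos
    · simp at hmul
    · nlinarith
  have := (Nat.factorial_le hi).trans (le_of_eq (by rfl : Nat.factorial 4 = 24))
  omega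

/-- The statements about the two kinds of perfect extensions. -/
def SevenBase (P : ∀ (M : Type u) [Group M], Subgroup M → Prop) : Prop :=
  ∀ (M : Type u) [Group M] [Finite M] (V T : Subgroup M), InvV M V → Nat.card V = 8 → T.Normal →
    IsPGroup 2 T → V ≤ T → (∀ g : M, (∀ v ∈ V, g * v = v * g) ↔ g ∈ T) → T.index = 168 →
    commutator M = ⊤ → P M T → False

/-- The two-subgroup is commutative. -/
def CommT (M : Type u) [Group M] (T : Subgroup M) : Prop := ∀ a ∈ T, ∀ b ∈ T, a * b = b * a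

/-- The two-subgroup is not commutative. -/
def NoncommT (M : Type u) [Group M] (T : Subgroup M) : Prop := ∃ a ∈ T, ∃ b ∈ T, a * b ≠ b * a

theorem no_seven_aux (hA : SevenBase.{u} (fun M _ T => CommT M T))
    (hN : SevenBase.{u} (fun M _ T => NoncommT M T)) (n : ℕ) :
    ∀ (M : Type u) [Group M] [Finite M] (V : Subgroup M), Nat.card M = n → InvV M V →
      Nat.card V = 8 → Two2 M V → False := by
  induction n using Nat.strong_induction_on with
  | _ n ih =>
  intro M _ _ V hn h hV h2
  classical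
  haveI : Fact (Nat.Prime 2) := ⟨Nat.prime_two⟩
  obtain ⟨φ, hφ, hker⟩ := exists_onto_gl h hV h2
  set K := centralizer (V : Set M) with hK
  haveI hKn : K.Normal := centralizer_normal h
  have hVK : V ≤ K := fun x hx => mem_centralizer_iff.2 fun v hv => h.comm hv hx
  have hKV : ∀ k ∈ K, ∀ v ∈ V, k * v = v * k := fun k hk v hv =>
    (mem_centralizer_iff.1 hk v hv).symm
  -- minimality: no proper supplement of `K` containing `V`
  have hmin : ∀ L : Subgroup M, V ≤ L → L ⊔ K = ⊤ → L = ⊤ := by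
    intro L hVL hsup
    by_contra hne
    have hlt : Nat.card L < n := hn ▸ CfsgLib.Coprime.card_lt_of_ne_top hne
    have hiff : ∀ x : L, x ∈ V.subgroupOf L ↔ x * x = 1 := fun x => by
      rw [mem_subgroupOf, h.mem_iff, Subtype.ext_iff]
      simp
    refine ih _ hlt L (V.subgroupOf L) rfl ⟨⟨fun y hy g => (hiff _).2 ?_⟩, hiff⟩
      ((Nat.card_congr (subgroupOfEquivOfLe hVL).toEquiv).trans hV) ?_
    · rw [conj_mul, (hiff y).1 hy, mul_one, mul_inv_cancel]
    · intro a ha b hb c hc e he ha1 hb1 hc1 he1 hab hce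
      obtain ⟨g, hg1, hg2⟩ := h2 a ha b hb c hc e he (fun q => ha1 (Subtype.ext q))
        (fun q => hb1 (Subtype.ext q)) (fun q => hc1 (Subtype.ext q))
        (fun q => he1 (Subtype.ext q)) (fun q => hab (Subtype.ext q))
        (fun q => hce (Subtype.ext q))
      obtain ⟨l, hl, k, hk, rfl⟩ : ∃ l ∈ L, ∃ k ∈ K, l * k = g := by
        have : g ∈ ((L ⊔ K : Subgroup M) : Set M) := by rw [hsup]; trivial
        rw [Subgroup.coe_mul_of_left_le_normalizer_right L K le_normalizer_of_normal] at this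
        exact this
      have hkx : ∀ x ∈ V, l * k * x * (l * k)⁻¹ = l * x * l⁻¹ := fun x hx =>
        calc l * k * x * (l * k)⁻¹ = l * (k * x * k⁻¹) * l⁻¹ := by group
          _ = l * x * l⁻¹ := by rw [hKV k hk x hx, mul_inv_cancel_right]
      exact ⟨⟨l, hl⟩, Subtype.ext ((hkx _ ha).symm.trans hg1),
        Subtype.ext ((hkx _ hb).symm.trans hg2)⟩
  -- a Sylow two-subgroup of `K`
  obtain ⟨TK⟩ := (inferInstance : Nonempty (Sylow 2 K))
  set T := (TK : Subgroup K).map K.subtype with hT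
  have hT2 : IsPGroup 2 T := TK.2.map _
  have hTK : T ≤ K := map_subtype_le _
  have hVp : IsPGroup 2 V := IsPGroup.of_card (n := 3) (by rw [hV]; norm_num)
  have hVT : V ≤ T := by
    haveI hVn : (V.comap K.subtype).Normal := h.normal.subgroupOf K
    have hle : V.subgroupOf K ≤ (TK : Subgroup K) := le_sup_left.trans
      (TK.3 ((hVp.comap_of_injective K.subtype K.subtype_injective).to_sup_of_normal_left TK.2)
        le_sup_right).le
    intro x hx
    exact ⟨⟨x, hVK hx⟩, hle hx, rfl⟩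
  haveI hTn : T.Normal := normalizer_eq_top_iff.1
    (hmin (normalizer (T : Set M)) (hVT.trans le_normalizer) (Sylow.normalizer_sup_eq_top TK))
  -- an odd complement in `K`
  have hTKeq : T.subgroupOf K = (TK : Subgroup K) :=
    comap_map_eq_self_of_injective K.subtype_injective _
  haveI hTKn : (T.subgroupOf K).Normal := hTn.subgroupOf K
  have hodd : Odd (T.subgroupOf K).index := by
    haveI : (TK : Subgroup K).Normal := hTKeq ▸ hTKn
    rw [hTKeq, Nat.odd_iff, ← Nat.two_dvd_ne_zero]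
    exact TK.not_dvd_index
  obtain ⟨kT, hkT⟩ := IsPGroup.iff_card.1 hT2
  have hcT : Nat.card (T.subgroupOf K) = 2 ^ kT :=
    (Nat.card_congr (subgroupOfEquivOfLe hTK).toEquiv).trans hkT
  obtain ⟨Q0, hQ0⟩ := Subgroup.exists_right_complement'_of_coprime (N := T.subgroupOf K)
    (by rw [hcT]; exact (Nat.coprime_two_left.2 hodd).pow_left _)
  set Q := Q0.map K.subtype with hQ
  have hQK : Q ≤ K := map_subtype_le _
  have hQodd : Odd (Nat.card Q) := by
    rw [hQ, Subgroup.card_map_of_injective K.subtype_injective, ← hQ0.symm.index_eq_card]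
    exact hodd
  have hTQ : T ⊔ Q = K := by
    have h1 := congrArg (Subgroup.map K.subtype) hQ0.sup_eq_top
    rwa [Subgroup.map_sup, Subgroup.map_subgroupOf_eq_of_le hTK, ← MonoidHom.range_eq_map,
      Subgroup.range_subtype] at h1
  have hTsolv : Group.IsSolvable T := by
    haveI := hT2.isNilpotent
    infer_instance
  haveI hQn : Q.Normal := by
    refine normalizer_eq_top_iff.1 (hmin _ ?_ ?_)
    · refine le_trans (fun v hv => ?_) (centralizer_le_normalizer _)
      exact mem_centralizer_iff.2 fun q hq => hKV q (hQK hq) v hv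
    · rw [sup_comm]
      refine CfsgLib.Coprime.sup_normalizer_eq_top_of_conj fun g => ?_
      obtain ⟨l, hl, hlQ⟩ := CfsgLib.Coprime.sz_conj_rel (N := T) (H := Q)
        (K := MulAut.conj g • Q) le_normalizer_of_normal le_normalizer_of_normal
        (by rw [hkT]; exact (Nat.coprime_two_left.2 hQodd).pow_left _)
        (CfsgLib.Coprime.card_conj_smul g Q)
        (by rw [hTQ, CfsgLib.Coprime.conj_smul_le_iff]
            exact fun x hx => hKn.conj_mem x (hQK hx) g)
        (Or.inl hTsolv)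
      exact ⟨l, hTK hl, hlQ⟩
  -- which is trivial
  have hQbot : Q = ⊥ := by
    by_contra hne
    have hlt : Nat.card (M ⧸ Q) < n := hn ▸ CfsgLib.Coprime.card_quotient_lt hne
    set m := QuotientGroup.mk' Q with hm
    have hVQ : ∀ v ∈ V, v ∈ Q → v = 1 := by
      intro v hv hvQ
      have h1 : orderOf v ∣ 2 := orderOf_dvd_of_pow_eq_one (by rw [pow_two]; exact h.mul_self hv)
      have h2' : orderOf v ∣ Nat.card Q := Subgroup.orderOf_dvd_natCard Q hvQ
      exact orderOf_eq_one_iff.1 (Nat.dvd_one.1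
        ((Nat.coprime_two_left.2 hQodd).gcd_eq_one ▸ Nat.dvd_gcd h1 h2'))
    have hiff : ∀ x : M ⧸ Q, x ∈ V.map m ↔ x * x = 1 := by
      intro x
      refine ⟨?_, fun hx => ?_⟩
      · rintro ⟨v, hv, rfl⟩
        rw [← map_mul, h.mul_self hv, map_one]
      obtain ⟨y, rfl⟩ := QuotientGroup.mk'_surjective Q x
      rw [← map_mul] at hx
      have hy : y * y ∈ Q := (QuotientGroup.eq_one_iff _).1 hx
      obtain ⟨i, hi⟩ : Odd (orderOf (y * y)) :=
        hQodd.of_dvd_nat (Subgroup.orderOf_dvd_natCard Q hy)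
      refine ⟨y ^ (2 * i + 1), (h.mem_iff _).2 ?_, ?_⟩
      · rw [← pow_two, ← pow_mul, mul_comm, pow_mul, pow_two, ← hi, pow_orderOf_eq_one]
      · rw [pow_succ, pow_mul, pow_two, map_mul, map_pow]
        rw [show m (y * y) = 1 from hx, one_pow, one_mul]
    refine ih _ hlt (M ⧸ Q) (V.map m) rfl ⟨h.normal.map m (QuotientGroup.mk'_surjective Q), hiff⟩
      ?_ ?_
    · rw [← hV]
      refine (Nat.card_congr ?_).symm
      refine Equiv.ofBijective (fun v : V => (⟨m v, v, v.2, rfl⟩ : V.map m)) ⟨fun v w e => ?_, ?_⟩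
      · have e' : (QuotientGroup.mk (v : M) : M ⧸ Q) = QuotientGroup.mk (w : M) :=
          congrArg Subtype.val e
        exact Subtype.ext (inv_mul_eq_one.1
          (hVQ _ (mul_mem (inv_mem v.2) w.2) (QuotientGroup.eq.1 e')))
      · rintro ⟨_, v, hv, rfl⟩
        exact ⟨⟨v, hv⟩, rfl⟩
    · rintro _ ⟨a, ha, rfl⟩ _ ⟨b, hb, rfl⟩ _ ⟨c, hc, rfl⟩ _ ⟨e, he, rfl⟩ ha1 hb1 hc1 he1 hab hce
      obtain ⟨g, hg1, hg2⟩ := h2 a ha b hb c hc e he (fun q => ha1 (by rw [q, map_one]))
        (fun q => hb1 (by rw [q, map_one])) (fun q => hc1 (by rw [q, map_one]))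
        (fun q => he1 (by rw [q, map_one])) (fun q => hab (by rw [q])) (fun q => hce (by rw [q]))
      exact ⟨m g, by rw [← map_inv, ← map_mul, ← map_mul, hg1],
        by rw [← map_inv, ← map_mul, ← map_mul, hg2]⟩
  have hKT : K = T := by rw [← hTQ, hQbot, sup_bot_eq]
  -- the group is perfect
  obtain ⟨-, h168, hperf⟩ := gl32
  have hLmap : (commutator M).map φ = ⊤ := by
    rw [_root_.commutator_def, Subgroup.map_commutator, Subgroup.map_top_of_surjective _ hφ,
      ← _root_.commutator_def, hperf]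
  have hLsup : commutator M ⊔ K = ⊤ := by
    rw [← hker, ← Subgroup.comap_map_eq, hLmap, Subgroup.comap_top]
  have hVL : V ≤ commutator M := by
    have h2L : 2 ∣ Nat.card (commutator M) := by
      have h1 := (commutator M).card_map_dvd φ
      rw [hLmap, Subgroup.card_top, h168] at h1
      exact (by norm_num : 2 ∣ 168).trans h1
    obtain ⟨x, hx⟩ := exists_prime_orderOf_dvd_card' 2 h2L
    have hx2 : orderOf (x : M) = 2 := by rw [Subgroup.orderOf_coe]; exact hx
    have hx1 : (x : M) ≠ 1 := fun e => by rw [e, orderOf_one] at hx2; omega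
    intro v hv
    rcases eq_or_ne v 1 with rfl | hv1
    · exact one_mem _
    obtain ⟨g, rfl⟩ := h2.conj_transitive hV (h.mem_of_orderOf hx2) hv hx1 hv1
    exact (inferInstance : (commutator M).Normal).conj_mem _ x.2 g
  have hM := hmin _ hVL hLsup
  have hcent : ∀ g : M, (∀ v ∈ V, g * v = v * g) ↔ g ∈ T := fun g => by
    rw [← hKT]
    exact ⟨fun hg => mem_centralizer_iff.2 fun v hv => (hg v hv).symm, fun hg => hKV g hg⟩
  have hidx : T.index = 168 := by
    rw [← hKT, ← hker, Subgroup.index_ker, MonoidHom.range_eq_top.2 hφ, Subgroup.card_top, h168]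
  by_cases hab : CommT M T
  · exact hA M V T h hV hTn hT2 hVT hcent hidx hM hab
  · refine hN M V T h hV hTn hT2 hVT hcent hidx hM ?_
    simp only [CommT] at hab
    push Not at hab
    exact hab

end CfsgLib.InvolNormal

namespace CfsgLib.InvolNormal

universe w

/-- The seven point statement from the two perfect cases. -/
theorem no_seven_of (hA : SevenBase.{w} (fun M _ T => CommT M T))
    (hN : SevenBase.{w} (fun M _ T => NoncommT M T)) {M : Type w} [Group M] [Finite M]
    {V : Subgroup M} (h : InvV M V) (hV : Nat.card V = 8) (h2 : Two2 M V) : False :=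
  no_seven_aux hA hN _ M V rfl h hV h2

end CfsgLib.InvolNormal
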