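import Cfsg.Agent.Lib.InvolNormal.Defs
import Mathlib

/-!
# No abelian kernel under the linear group of the seven involutions

If a perfect group has exactly seven involutions, forming a normal four-dimensional configuration
`V` of order 8 whose centraliser `T` is an abelian 2-group of index 168, then `T` is free of rank 3
over `ZMod (2 ^ k)`, an element inducing a regular unipotent map has fixed points only in the image
of the norm, and this produces an involution outside `T`.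
-/

set_option autoImplicit false
set_option linter.unusedSectionVars false
set_option linter.style.haveILetI false

namespace CfsgLib.InvolNormal

namespace SevenAbelian

/-- In a free module of rank 3 with a map of determinant 1, cyclic and of fourth power 1, every
fixed point is a norm from the square. -/
theorem fixed_norm {R : Type*} [CommRing R] {M : Type*} [Group M] {A : Type*} [AddCommGroup A]
    [Module R A] (ρ : M →* (A →ₗ[R] A)) (B : Module.Basis (Fin 3) R A)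
    (hperf : commutator M = ⊤) {x : M} (h1 : ρ x (B 0) = B 1) (h2 : ρ x (B 1) = B 2)
    (h4 : ρ (x ^ 4) = 1) {y : A} (hy : ρ x y = y) : ∃ z : A, y = z + ρ (x ^ 2) z := by
  have hdet : LinearMap.det (ρ x) = 1 := by
    have hle := Abelianization.commutator_subset_ker (LinearMap.det.comp ρ).toHomUnits
    rw [hperf] at hle
    have h := congrArg Units.val (MonoidHom.mem_ker.1 (hle (Subgroup.mem_top x)))
    simpa using h
  set a := B.repr (ρ x (B 2)) 0 with ha
  set b := B.repr (ρ x (B 2)) 1 with hb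
  set c := B.repr (ρ x (B 2)) 2 with hc
  have h3 : ρ x (B 2) = a • B 0 + b • B 1 + c • B 2 := by
    have e := B.sum_repr (ρ x (B 2))
    rw [Fin.sum_univ_three] at e
    exact e.symm
  have ha1 : a = 1 := by
    rw [← LinearMap.det_toMatrix B, Matrix.det_fin_three] at hdet
    simp [LinearMap.toMatrix_apply, h1, h2, ← ha, ← hb, ← hc] at hdet
    exact hdet
  have coord : ∀ p q r : R, ρ x (p • B 0 + q • B 1 + r • B 2) =
      (r * a) • B 0 + (p + r * b) • B 1 + (q + r * c) • B 2 := by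
    intro p q r
    rw [map_add, map_add, map_smul, map_smul, map_smul, h1, h2, h3]
    module
  have ext3 : ∀ p q r p' q' r' : R, p • B 0 + q • B 1 + r • B 2 =
      p' • B 0 + q' • B 1 + r' • B 2 → p = p' ∧ q = q' ∧ r = r' := by
    intro p q r p' q' r' he
    have e0 := congrArg (fun t => B.repr t 0) he
    have e1 := congrArg (fun t => B.repr t 1) he
    have e2 := congrArg (fun t => B.repr t 2) he
    simp at e0 e1 e2
    exact ⟨e0, e1, e2⟩
  have h40 : ρ x (ρ x (B 2)) = B 0 := by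
    have e : ρ (x ^ 4) (B 0) = ρ x (ρ x (ρ x (ρ x (B 0)))) := by
      simp only [pow_succ, pow_zero, one_mul, map_mul]
      rfl
    rw [h4, h1, h2] at e
    exact e.symm
  rw [h3, coord] at h40
  obtain ⟨hca, hab, hbc⟩ := ext3 (c * a) (a + c * b) (b + c * c) 1 0 0 (by
    rw [h40]; simp)
  rw [ha1, mul_one] at hca
  have hb1 : b = -1 := by
    rw [hca, one_mul] at hbc; exact eq_neg_of_add_eq_zero_left hbc
  have hy3 : y = B.repr y 0 • B 0 + B.repr y 1 • B 1 + B.repr y 2 • B 2 := by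
    have e := B.sum_repr y
    rw [Fin.sum_univ_three] at e
    exact e.symm
  rw [hy3, coord, ha1, hb1, hca] at hy
  obtain ⟨e0, e1, e2⟩ := ext3 _ _ _ _ _ _ hy
  have hq : B.repr y 1 = 0 := by
    rw [← e1, ← e0]; ring
  have hp : B.repr y 0 = B.repr y 2 := by rw [← e0, mul_one]
  refine ⟨B.repr y 0 • B 0, ?_⟩
  have e : ρ (x ^ 2) (B.repr y 0 • B 0) = B.repr y 0 • B 2 := by
    rw [pow_two, map_mul, Module.End.mul_apply, map_smul, h1, map_smul, h2]
  rw [e]
  conv_lhs => rw [hy3, hq, zero_smul, add_zero, ← hp]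

section
variable {M : Type*} [Group M] [Finite M] {V T : Subgroup M}

/-- Three elements of `V` forming a basis. -/
def Good (V : Subgroup M) (a b c : M) : Prop :=
  a ∈ V ∧ b ∈ V ∧ c ∈ V ∧ a ≠ 1 ∧ b ≠ 1 ∧ b ≠ a ∧ c ≠ 1 ∧ c ≠ a ∧ c ≠ b ∧ c ≠ a * b

theorem exists_not_mem (hV : Nat.card V = 8) (l : List M) (hl : l.length < 8) :
    ∃ v ∈ V, v ∉ l := by
  classical
  by_contra hcon
  push Not at hcon
  have h1 : Nat.card V ≤ Nat.card l.toFinset :=
    Nat.card_le_card_of_injective (fun v => ⟨v.1, List.mem_toFinset.2 (hcon v.1 v.2)⟩)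
      (fun u v e => Subtype.ext (congrArg (fun t : l.toFinset => (t : M)) e))
  rw [Nat.card_eq_finsetCard, hV] at h1
  have := l.toFinset_card_le
  omega

theorem exists_good (hV : Nat.card V = 8) {a : M} (ha : a ∈ V) (ha1 : a ≠ 1) :
    ∃ b c : M, Good V a b c := by
  obtain ⟨b, hb, hbl⟩ := exists_not_mem hV [1, a] (by simp)
  obtain ⟨c, hc, hcl⟩ := exists_not_mem hV [1, a, b, a * b] (by simp)
  simp only [List.mem_cons, List.not_mem_nil, or_false, not_or] at hbl hcl
  exact ⟨b, c, ha, hb, hc, ha1, hbl.1, hbl.2, hcl.1, hcl.2.1, hcl.2.2.1, hcl.2.2.2⟩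

variable (h : InvV M V)
include h

theorem combo {a b c : M} (g : Good V a b c) {i j l : ℕ} (e : a ^ i * b ^ j * c ^ l = 1) :
    2 ∣ i ∧ 2 ∣ j ∧ 2 ∣ l := by
  obtain ⟨ha, hb, hc, ha1, hb1, hba, hc1, hca, hcb, hcab⟩ := g
  have red : ∀ {v : M}, v ∈ V → ∀ n : ℕ, v ^ n = v ^ (n % 2) := fun hv n => by
    conv_lhs => rw [← Nat.mod_add_div n 2, pow_add, pow_mul, pow_two, h.mul_self hv, one_pow,
      mul_one]
  rw [red ha, red hb, red hc] at e
  have inv2 : ∀ {u v : M}, v ∈ V → u * v = 1 → u = v := fun hv huv => by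
    rw [eq_inv_of_mul_eq_one_left huv, h.inv_eq hv]
  simp only [Nat.dvd_iff_mod_eq_zero]
  rcases Nat.mod_two_eq_zero_or_one i with hi | hi <;>
  rcases Nat.mod_two_eq_zero_or_one j with hj | hj <;>
  rcases Nat.mod_two_eq_zero_or_one l with hl | hl <;>
  simp only [hi, hj, hl, pow_zero, pow_one, one_mul, mul_one] at e ⊢
  · simp
  · exact absurd e hc1
  · exact absurd e hb1
  · exact absurd (inv2 hc e).symm hcb
  · exact absurd e ha1
  · exact absurd (inv2 hc e).symm hca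
  · exact absurd (inv2 hb e).symm hba
  · exact absurd (inv2 hc e).symm hcab

theorem span (hV : Nat.card V = 8) {a b c : M} (g : Good V a b c) {v : M} (hv : v ∈ V) :
    ∃ i j l : ℕ, v = a ^ i * b ^ j * c ^ l := by
  have ha := g.1
  have hb := g.2.1
  have hc := g.2.2.1
  let f : Fin 2 × Fin 2 × Fin 2 → V := fun p =>
    ⟨a ^ (p.1 : ℕ) * b ^ (p.2.1 : ℕ) * c ^ (p.2.2 : ℕ),
      mul_mem (mul_mem (pow_mem ha _) (pow_mem hb _)) (pow_mem hc _)⟩
  have hf : Function.Injective f := by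
    intro p q e
    have e1 : a ^ (p.1 : ℕ) * b ^ (p.2.1 : ℕ) * c ^ (p.2.2 : ℕ) =
        a ^ (q.1 : ℕ) * b ^ (q.2.1 : ℕ) * c ^ (q.2.2 : ℕ) := congrArg Subtype.val e
    have e2 : a ^ ((p.1 : ℕ) + q.1) * b ^ ((p.2.1 : ℕ) + q.2.1) * c ^ ((p.2.2 : ℕ) + q.2.2) = 1 := by
      have k1 : Commute (b ^ (p.2.1 : ℕ)) (a ^ (q.1 : ℕ)) := Commute.pow_pow (h.comm hb ha) _ _
      have k2 : Commute (c ^ (p.2.2 : ℕ)) (a ^ (q.1 : ℕ) * b ^ (q.2.1 : ℕ)) :=
        h.comm (pow_mem hc _) (mul_mem (pow_mem ha _) (pow_mem hb _))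
      have hm : a ^ (p.1 : ℕ) * b ^ (p.2.1 : ℕ) * c ^ (p.2.2 : ℕ) ∈ V :=
        mul_mem (mul_mem (pow_mem ha _) (pow_mem hb _)) (pow_mem hc _)
      calc a ^ ((p.1 : ℕ) + q.1) * b ^ ((p.2.1 : ℕ) + q.2.1) * c ^ ((p.2.2 : ℕ) + q.2.2)
          = a ^ (p.1 : ℕ) * (a ^ (q.1 : ℕ) * b ^ (p.2.1 : ℕ)) * b ^ (q.2.1 : ℕ) *
              c ^ (p.2.2 : ℕ) * c ^ (q.2.2 : ℕ) := by simp only [pow_add, mul_assoc]
        _ = a ^ (p.1 : ℕ) * b ^ (p.2.1 : ℕ) * ((a ^ (q.1 : ℕ) * b ^ (q.2.1 : ℕ)) *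
              c ^ (p.2.2 : ℕ)) * c ^ (q.2.2 : ℕ) := by rw [← k1.eq]; simp only [mul_assoc]
        _ = a ^ (p.1 : ℕ) * b ^ (p.2.1 : ℕ) * c ^ (p.2.2 : ℕ) *
              (a ^ (q.1 : ℕ) * b ^ (q.2.1 : ℕ) * c ^ (q.2.2 : ℕ)) := by
            rw [← k2.eq]; simp only [mul_assoc]
        _ = 1 := by rw [← e1]; exact h.mul_self hm
    obtain ⟨d1, d2, d3⟩ := combo h g e2
    ext <;> omega
  have hcard : Nat.card (Fin 2 × Fin 2 × Fin 2) = Nat.card V := by simp [hV]
  obtain ⟨p, hp⟩ := (hf.bijective_of_nat_card_le hcard.ge).2 ⟨v, hv⟩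
  exact ⟨_, _, _, (congrArg Subtype.val hp).symm⟩

theorem mem_of_fix (hV : Nat.card V = 8)
    (hcent : ∀ g : M, (∀ v ∈ V, g * v = v * g) ↔ g ∈ T)
    {a b c : M} (g : Good V a b c) {u : M}
    (hua : u * a * u⁻¹ = a) (hub : u * b * u⁻¹ = b) (huc : u * c * u⁻¹ = c) : u ∈ T := by
  refine (hcent u).1 fun v hv => ?_
  obtain ⟨i, j, l, rfl⟩ := span h hV g hv
  have cm : ∀ {w : M}, u * w * u⁻¹ = w → Commute u w := fun e => mul_inv_eq_iff_eq_mul.1 e
  exact (((cm hua).pow_right i).mul_right ((cm hub).pow_right j)).mul_right ((cm huc).pow_right l)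

/-- Conjugation induces every change of basis. -/
theorem exists_map [T.Normal] (hV : Nat.card V = 8)
    (hcent : ∀ g : M, (∀ v ∈ V, g * v = v * g) ↔ g ∈ T) (hidx : T.index = 168)
    {a b c a' b' c' : M} (g : Good V a b c) (g' : Good V a' b' c') :
    ∃ x : M, x * a * x⁻¹ = a' ∧ x * b * x⁻¹ = b' ∧ x * c * x⁻¹ = c' := by
  classical
  haveI := Fintype.ofFinite V
  let one' : V := 1
  let S : Finset (Σ _ : V, Σ _ : V, V) := (Finset.univ.erase one').sigma fun p =>
    (Finset.univ \ ({one', p} : Finset V)).sigma fun q =>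
      Finset.univ \ ({one', p, q, p * q} : Finset V)
  have hU : (Finset.univ : Finset V).card = 8 := by
    rw [Finset.card_univ, ← Nat.card_eq_fintype_card, hV]
  have hS : S.card = 168 := by
    rw [Finset.card_sigma, Finset.sum_eq_card_nsmul (b := 24)]
    · rw [Finset.card_erase_of_mem (Finset.mem_univ _), hU]; rfl
    intro p hp
    have hp1 : p ≠ one' := Finset.ne_of_mem_erase hp
    rw [Finset.card_sigma, Finset.sum_eq_card_nsmul (b := 4)]
    · rw [Finset.card_univ_sdiff, Finset.card_pair (Ne.symm hp1), ← Finset.card_univ, hU]; rfl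
    intro q hq
    simp only [Finset.mem_sdiff, Finset.mem_univ, true_and, Finset.mem_insert,
      Finset.mem_singleton, not_or] at hq
    obtain ⟨hq1, hqp⟩ := hq
    have hpq : p * q ≠ one' := fun e => hqp (by
      have e' : (p : M) * q = 1 := congrArg Subtype.val e
      refine Subtype.ext ?_
      rw [eq_inv_of_mul_eq_one_right e', h.inv_eq p.2])
    have hc4 : ({one', p, q, p * q} : Finset V).card = 4 := by
      rw [Finset.card_insert_of_notMem, Finset.card_insert_of_notMem, Finset.card_pair]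
      · intro e
        exact hp1 (mul_right_cancel (e.symm.trans (one_mul q).symm))
      · simp only [Finset.mem_insert, Finset.mem_singleton, not_or]
        exact ⟨Ne.symm hqp, fun e => hq1 (mul_left_cancel (e.symm.trans (mul_one p).symm))⟩
      · simp only [Finset.mem_insert, Finset.mem_singleton, not_or]
        exact ⟨Ne.symm hp1, Ne.symm hq1, Ne.symm hpq⟩
    rw [Finset.card_univ_sdiff, hc4, ← Finset.card_univ, hU]
  have hmem : ∀ {p q r : M} (G : Good V p q r),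
      (⟨⟨p, G.1⟩, ⟨q, G.2.1⟩, ⟨r, G.2.2.1⟩⟩ : Σ _ : V, Σ _ : V, V) ∈ S := by
    intro p q r G
    obtain ⟨hp, hq, hr, hp1, hq1, hqp, hr1, hrp, hrq, hrpq⟩ := G
    simp only [S, one', Finset.mem_sigma, Finset.mem_erase, Finset.mem_sdiff, Finset.mem_univ,
      true_and, and_true, Finset.mem_insert, Finset.mem_singleton, not_or]
    exact ⟨fun e => hp1 (congrArg Subtype.val e),
      ⟨fun e => hq1 (congrArg Subtype.val e), fun e => hqp (congrArg Subtype.val e)⟩,
      fun e => hr1 (congrArg Subtype.val e), fun e => hrp (congrArg Subtype.val e),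
      fun e => hrq (congrArg Subtype.val e), fun e => hrpq (congrArg Subtype.val e)⟩
  have hgood : ∀ u : M, Good V (u * a * u⁻¹) (u * b * u⁻¹) (u * c * u⁻¹) := by
    intro u
    obtain ⟨hp, hq, hr, hp1, hq1, hqp, hr1, hrp, hrq, hrpq⟩ := g
    refine ⟨h.conj_mem hp u, h.conj_mem hq u, h.conj_mem hr u, ?_, ?_, ?_, ?_, ?_, ?_, ?_⟩
    all_goals intro e
    · exact hp1 (by simpa using conj_eq_one_iff.1 e)
    · exact hq1 (by simpa using conj_eq_one_iff.1 e)
    · exact hqp (mul_left_cancel (mul_right_cancel e))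
    · exact hr1 (by simpa using conj_eq_one_iff.1 e)
    · exact hrp (mul_left_cancel (mul_right_cancel e))
    · exact hrq (mul_left_cancel (mul_right_cancel e))
    · rw [conj_mul] at e
      exact hrpq (mul_left_cancel (mul_right_cancel e))
  let F : M ⧸ T → S := fun s => ⟨_, hmem (hgood s.out)⟩
  have hinj : Function.Injective F := by
    intro s s' e
    have e0 := congrArg Subtype.val e
    have ea : s.out * a * s.out⁻¹ = s'.out * a * s'.out⁻¹ :=
      congrArg (fun t : Σ _ : V, Σ _ : V, V => (t.1 : M)) e0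
    have eb : s.out * b * s.out⁻¹ = s'.out * b * s'.out⁻¹ :=
      congrArg (fun t : Σ _ : V, Σ _ : V, V => (t.2.1 : M)) e0
    have ec : s.out * c * s.out⁻¹ = s'.out * c * s'.out⁻¹ :=
      congrArg (fun t : Σ _ : V, Σ _ : V, V => (t.2.2 : M)) e0
    have key : s.out⁻¹ * s'.out ∈ T := by
      have step : ∀ w : M, s.out * w * s.out⁻¹ = s'.out * w * s'.out⁻¹ →
          s.out⁻¹ * s'.out * w * (s.out⁻¹ * s'.out)⁻¹ = w := fun w ew => by
        calc s.out⁻¹ * s'.out * w * (s.out⁻¹ * s'.out)⁻¹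
            = s.out⁻¹ * (s'.out * w * s'.out⁻¹) * s.out := by group
          _ = w := by rw [← ew]; group
      exact mem_of_fix h hV hcent g (step a ea) (step b eb) (step c ec)
    rw [← QuotientGroup.out_eq' s, ← QuotientGroup.out_eq' s']
    exact QuotientGroup.eq.2 key
  have hle : Nat.card S ≤ Nat.card (M ⧸ T) := by
    rw [Nat.card_eq_fintype_card, Fintype.card_coe, hS, ← Subgroup.index, hidx]
  obtain ⟨s, hs⟩ := (hinj.bijective_of_nat_card_le hle).2 ⟨_, hmem g'⟩
  have e0 := congrArg Subtype.val hs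
  exact ⟨s.out, congrArg (fun t : Σ _ : V, Σ _ : V, V => (t.1 : M)) e0,
    congrArg (fun t : Σ _ : V, Σ _ : V, V => (t.2.1 : M)) e0,
    congrArg (fun t : Σ _ : V, Σ _ : V, V => (t.2.2 : M)) e0⟩

/-- An abelian subgroup with at most seven involutions and exponent dividing `2 ^ k`. -/
theorem card_le (hV : Nat.card V = 8) (hab : ∀ a ∈ T, ∀ b ∈ T, a * b = b * a) :
    ∀ (k : ℕ) (U : Subgroup M), U ≤ T → (∀ u ∈ U, u ^ 2 ^ k = 1) → Nat.card U ≤ 8 ^ k := by
  intro k
  induction k with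
  | zero =>
    intro U _ hU
    have : U = ⊥ := (Subgroup.eq_bot_iff_forall U).2 fun u hu => by simpa using hU u hu
    rw [this]; simp
  | succ k ih =>
    intro U hUT hU
    let φ : U →* M :=
      { toFun := fun u => (u : M) * u
        map_one' := by simp
        map_mul' := fun u v => by
          have hc : Commute (u : M) v := hab u (hUT u.2) v (hUT v.2)
          show (u : M) * v * ((u : M) * v) = (u : M) * u * ((v : M) * v)
          rw [mul_assoc, ← mul_assoc (v : M), ← hc.eq]; simp only [mul_assoc] }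
    have hk : Nat.card φ.ker ≤ 8 := by
      rw [← hV]
      refine Nat.card_le_card_of_injective
        (fun u => ⟨((u : U) : M), (h.mem_iff _).2 u.2⟩) ?_
      intro u v e
      exact Subtype.ext (Subtype.ext (congrArg (fun t : V => (t : M)) e))
    have hr : Nat.card φ.range ≤ 8 ^ k := by
      refine ih _ ?_ ?_
      · rintro _ ⟨u, rfl⟩; exact mul_mem (hUT u.2) (hUT u.2)
      · rintro _ ⟨u, rfl⟩
        show ((u : M) * u) ^ 2 ^ k = 1
        rw [← pow_two, ← pow_mul, ← pow_succ']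
        exact hU u u.2
    rw [← φ.ker.card_mul_index, Subgroup.index_ker, pow_succ']
    exact Nat.mul_le_mul hk hr

end

end SevenAbelian

open SevenAbelian in
/-- No abelian kernel. -/
theorem no_seven_abelian {M : Type*} [Group M] [Finite M] (V T : Subgroup M) (h : InvV M V)
    (hV : Nat.card V = 8) [T.Normal] (hT2 : IsPGroup 2 T) (hVT : V ≤ T)
    (hcent : ∀ g : M, (∀ v ∈ V, g * v = v * g) ↔ g ∈ T) (hidx : T.index = 168)
    (hperf : commutator M = ⊤) (hab : ∀ a ∈ T, ∀ b ∈ T, a * b = b * a) : False := by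
  classical
  -- a basis of `V`
  obtain ⟨w0, hw0, hw01⟩ := exists_not_mem hV [1] (by simp)
  simp only [List.mem_singleton] at hw01
  obtain ⟨w1, w2, g0⟩ := exists_good hV hw0 hw01
  have hw1 := g0.2.1
  have hw2 := g0.2.2.1
  have gnext : Good V w1 w2 (w0 * w1 * w2) := by
    obtain ⟨-, -, -, -, h11, h10, h21, h20, h221, h2p⟩ := g0
    refine ⟨hw1, hw2, mul_mem (mul_mem hw0 hw1) hw2, h11, h21, h221, ?_, ?_, ?_, ?_⟩ <;> intro e
    · exact h2p (by
        have := eq_inv_of_mul_eq_one_right e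
        rw [this, h.inv_eq (mul_mem hw0 hw1)])
    · exact h20 (by
        have e' : w1 * (w0 * w2) = w1 * 1 := by
          rw [mul_one, ← mul_assoc, h.comm hw1 hw0]; exact e
        rw [eq_inv_of_mul_eq_one_right (mul_left_cancel e'), h.inv_eq hw0])
    · have e' : w0 * w1 = 1 := mul_right_cancel (e.trans (one_mul w2).symm)
      exact h10 (by rw [eq_inv_of_mul_eq_one_right e', h.inv_eq hw0])
    · exact hw01 (by
        have e' : w0 * (w1 * w2) = 1 * (w1 * w2) := by rw [← mul_assoc, e, one_mul]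
        exact mul_right_cancel e')
  obtain ⟨x, hx0, hx1, hx2⟩ := exists_map h hV hcent hidx g0 gnext
  -- the fourth power centralises `V`, the square does not
  have hx3 : x * (w0 * w1 * w2) * x⁻¹ = w0 := by
    calc x * (w0 * w1 * w2) * x⁻¹ = (x * w0 * x⁻¹) * (x * w1 * x⁻¹) * (x * w2 * x⁻¹) := by group
      _ = w1 * w2 * (w0 * (w1 * w2)) := by rw [hx0, hx1, hx2]; simp only [mul_assoc]
      _ = w0 := by
        rw [h.comm hw0 (mul_mem hw1 hw2), ← mul_assoc, h.mul_self (mul_mem hw1 hw2), one_mul]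
  have hx4 : x ^ 4 ∈ T := by
    have f0 : x ^ 4 * w0 * (x ^ 4)⁻¹ = w0 := by
      calc x ^ 4 * w0 * (x ^ 4)⁻¹ = x * (x * (x * (x * w0 * x⁻¹) * x⁻¹) * x⁻¹) * x⁻¹ := by
            simp only [pow_succ, pow_zero, one_mul, mul_inv_rev, mul_assoc]
        _ = w0 := by rw [hx0, hx1, hx2, hx3]
    have f1 : x ^ 4 * w1 * (x ^ 4)⁻¹ = w1 := by
      calc x ^ 4 * w1 * (x ^ 4)⁻¹ = x * (x ^ 4 * w0 * (x ^ 4)⁻¹) * x⁻¹ := by rw [← hx0]; group
        _ = w1 := by rw [f0, hx0]
    have f2 : x ^ 4 * w2 * (x ^ 4)⁻¹ = w2 := by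
      calc x ^ 4 * w2 * (x ^ 4)⁻¹ = x * (x ^ 4 * w1 * (x ^ 4)⁻¹) * x⁻¹ := by rw [← hx1]; group
        _ = w2 := by rw [f1, hx1]
    exact mem_of_fix h hV hcent g0 f0 f1 f2
  have hx2T : x ^ 2 ∉ T := by
    intro hm
    have e := (hcent _).2 hm w0 hw0
    refine g0.2.2.2.2.2.2.2.1 ?_
    calc w2 = x * (x * w0 * x⁻¹) * x⁻¹ := by rw [hx0, hx1]
      _ = x ^ 2 * w0 * (x ^ 2)⁻¹ := by
        simp only [pow_succ, pow_zero, one_mul, mul_inv_rev, mul_assoc]
      _ = w0 := by rw [e, mul_inv_cancel_right]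
  -- the exponent
  obtain ⟨n, hn⟩ := IsPGroup.iff_card.1 hT2
  have hex : ∃ k : ℕ, ∀ t ∈ T, t ^ 2 ^ k = 1 := ⟨n, fun t ht => by
    rw [← hn]
    exact congrArg Subtype.val (pow_card_eq_one' (x := (⟨t, ht⟩ : T)))⟩
  obtain ⟨k, hkT, hkmin⟩ : ∃ k, (∀ t ∈ T, t ^ 2 ^ k = 1) ∧
      ∀ j < k, ¬ ∀ t ∈ T, t ^ 2 ^ j = 1 :=
    ⟨Nat.find hex, Nat.find_spec hex, fun j hj => Nat.find_min hex hj⟩
  have hk0 : k ≠ 0 := fun e => hw01 (by simpa [e] using hkT w0 (hVT hw0))
  obtain ⟨t, ht, ht1⟩ : ∃ t ∈ T, t ^ 2 ^ (k - 1) ≠ 1 := by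
    have := hkmin (k - 1) (by omega)
    push Not at this
    exact this
  have htV : t ^ 2 ^ (k - 1) ∈ V := (h.mem_iff _).2 (by
    rw [← pow_two, ← pow_mul, ← pow_succ, show k - 1 + 1 = k by omega]; exact hkT t ht)
  obtain ⟨b', c', gt⟩ := exists_good hV htV ht1
  obtain ⟨u, hu, -, -⟩ := exists_map h hV hcent hidx gt g0
  have conjPow : ∀ (v a : M) (m : ℕ), (v * a * v⁻¹) ^ m = v * a ^ m * v⁻¹ := fun v a m => conj_pow
  have conjT : ∀ (v : M) {a : M}, a ∈ T → v * a * v⁻¹ ∈ T := fun v {a} ha =>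
    Subgroup.Normal.conj_mem ‹T.Normal› a ha v
  let e0 : M := u * t * u⁻¹
  let e1 : M := x * e0 * x⁻¹
  let e2 : M := x * e1 * x⁻¹
  have p0 : e0 ^ 2 ^ (k - 1) = w0 := by rw [conjPow, hu]
  have p1 : e1 ^ 2 ^ (k - 1) = w1 := by rw [conjPow, p0, hx0]
  have p2 : e2 ^ 2 ^ (k - 1) = w2 := by rw [conjPow, p1, hx1]
  have he0 : e0 ∈ T := conjT u ht
  have he1 : e1 ∈ T := conjT x he0
  have he2 : e2 ∈ T := conjT x he1
  -- `T` as a module
  letI : CommGroup T := { (inferInstance : Group T) with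
    mul_comm := fun a b => Subtype.ext (hab a a.2 b b.2) }
  haveI : NeZero (2 ^ k) := ⟨by positivity⟩
  obtain ⟨modT⟩ : Nonempty (Module (ZMod (2 ^ k)) (Additive T)) :=
    ⟨AddCommGroup.zmodModule fun a => by
      show Additive.ofMul (Additive.toMul a ^ 2 ^ k) = 0
      rw [show Additive.toMul a ^ 2 ^ k = 1 from
        Subtype.ext (by simpa using hkT _ (Additive.toMul a).2)]
      rfl⟩
  let L : M → (Additive T →ₗ[ZMod (2 ^ k)] Additive T) := fun g =>
    AddMonoidHom.toZModLinearMap (2 ^ k) (MonoidHom.toAdditive (MulAut.conjNormal g : MulAut T).toMonoidHom)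
  have hL : ∀ (g : M) (a : Additive T), L g a = Additive.ofMul (MulAut.conjNormal g (Additive.toMul a)) := fun g a => rfl
  let ρ : M →* (Additive T →ₗ[ZMod (2 ^ k)] Additive T) :=
    { toFun := L
      map_one' := LinearMap.ext fun a => by rw [hL, map_one]; rfl
      map_mul' := fun g g' => LinearMap.ext fun a => by
        rw [Module.End.mul_apply, hL, hL, hL, map_mul]; rfl }
  let vec : Fin 3 → Additive T :=
    ![Additive.ofMul ⟨e0, he0⟩, Additive.ofMul ⟨e1, he1⟩, Additive.ofMul ⟨e2, he2⟩]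
  let f : (Fin 3 → ZMod (2 ^ k)) →ₗ[ZMod (2 ^ k)] Additive T :=
    Fintype.linearCombination (ZMod (2 ^ k)) vec
  have hfinj : Function.Injective f := by
    rw [injective_iff_map_eq_zero]
    intro v hv
    set n0 := (v 0).val with hn0
    set n1 := (v 1).val with hn1
    set n2 := (v 2).val with hn2
    have e : e0 ^ n0 * e1 ^ n1 * e2 ^ n2 = 1 := by
      have cast : ∀ (i : Fin 3), v i • vec i = (v i).val • vec i := fun i => by
        rw [← Nat.cast_smul_eq_nsmul (ZMod (2 ^ k)), ZMod.natCast_zmod_val]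
      have hv' : (v 0).val • vec 0 + (v 1).val • vec 1 + (v 2).val • vec 2 = 0 := by
        rw [← cast, ← cast, ← cast, ← hv]
        simp [f, Fintype.linearCombination_apply, Fin.sum_univ_three]
      exact congrArg (fun a : Additive T => ((Additive.toMul a : T) : M)) hv'
    have main : ∀ j ≤ k, 2 ^ j ∣ n0 ∧ 2 ^ j ∣ n1 ∧ 2 ^ j ∣ n2 := by
      intro j
      induction j with
      | zero => intro _; simp
      | succ j ih =>
        intro hj
        obtain ⟨⟨m0, hm0⟩, ⟨m1, hm1⟩, ⟨m2, hm2⟩⟩ := ih (by omega)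
        have hpow : ∀ (a : M) (m : ℕ), (a ^ (2 ^ j * m)) ^ 2 ^ (k - 1 - j) = (a ^ 2 ^ (k - 1)) ^ m :=
          fun a m => by
            have hkj : 2 ^ (k - 1) = 2 ^ j * 2 ^ (k - 1 - j) := by
              rw [← pow_add]; congr 1; omega
            rw [← pow_mul, ← pow_mul, hkj]; congr 1; ring
        have hc01 : Commute (e0 ^ n0) (e1 ^ n1) :=
          hab _ (pow_mem he0 _) _ (pow_mem he1 _)
        have hc2 : Commute (e0 ^ n0 * e1 ^ n1) (e2 ^ n2) :=
          hab _ (mul_mem (pow_mem he0 _) (pow_mem he1 _)) _ (pow_mem he2 _)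
        have e' : (e0 ^ n0 * e1 ^ n1 * e2 ^ n2) ^ 2 ^ (k - 1 - j) = 1 := by rw [e, one_pow]
        rw [hc2.mul_pow, hc01.mul_pow, hm0, hm1, hm2, hpow, hpow, hpow, p0, p1, p2] at e'
        obtain ⟨d0, d1, d2⟩ := combo h g0 e'
        rw [hm0, hm1, hm2, pow_succ]
        exact ⟨mul_dvd_mul_left _ d0, mul_dvd_mul_left _ d1, mul_dvd_mul_left _ d2⟩
    obtain ⟨d0, d1, d2⟩ := main k le_rfl
    have z : ∀ i, 2 ^ k ∣ (v i).val → v i = 0 := fun i d => by
      rw [← ZMod.natCast_zmod_val (v i), (ZMod.natCast_eq_zero_iff _ _).2 d]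
    funext i
    fin_cases i
    · exact z 0 d0
    · exact z 1 d1
    · exact z 2 d2
  have hfcard : Nat.card (Additive T) ≤ Nat.card (Fin 3 → ZMod (2 ^ k)) := by
    rw [Nat.card_fun, Nat.card_zmod, Nat.card_fin,
      Nat.card_congr (Additive.toMul : Additive T ≃ T), ← pow_mul, mul_comm k 3, pow_mul]
    exact card_le h hV hab k T le_rfl hkT
  have hfbij : Function.Bijective f := hfinj.bijective_of_nat_card_le hfcard
  let B : Module.Basis (Fin 3) (ZMod (2 ^ k)) (Additive T) :=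
    Module.Basis.ofEquivFun (LinearEquiv.ofBijective f hfbij).symm
  have hB : ∀ i, B i = vec i := fun i => by
    simp [B, f, Fintype.linearCombination_apply]
  have hρ : ∀ (g : M) (a : T), ρ g (Additive.ofMul a) =
      Additive.ofMul ⟨g * a * g⁻¹, conjT g a.2⟩ := fun g a => rfl
  have h1 : ρ x (B 0) = B 1 := by rw [hB, hB]; exact hρ x ⟨e0, he0⟩
  have h2 : ρ x (B 1) = B 2 := by rw [hB, hB]; exact hρ x ⟨e1, he1⟩
  have h4 : ρ (x ^ 4) = 1 := LinearMap.ext fun a => by
    refine Eq.trans (hρ (x ^ 4) (Additive.toMul a)) ?_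
    refine congrArg Additive.ofMul (Subtype.ext ?_)
    show x ^ 4 * (Additive.toMul a : T) * (x ^ 4)⁻¹ = (Additive.toMul a : T)
    rw [hab _ hx4 _ (Additive.toMul a).2, mul_assoc, mul_inv_cancel, mul_one]
  have hy : ρ x (Additive.ofMul ⟨x ^ 4, hx4⟩) = Additive.ofMul ⟨x ^ 4, hx4⟩ := by
    refine Eq.trans (hρ x ⟨x ^ 4, hx4⟩) (congrArg Additive.ofMul (Subtype.ext ?_))
    show x * x ^ 4 * x⁻¹ = x ^ 4
    group
  obtain ⟨z, hz⟩ := fixed_norm ρ B hperf h1 h2 h4 hy
  set τ : M := ((Additive.toMul z : T) : M) with hτ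
  have hτT : τ ∈ T := (Additive.toMul z : T).2
  have hz' : x ^ 4 = τ * (x ^ 2 * τ * (x ^ 2)⁻¹) :=
    congrArg (fun a : Additive T => ((Additive.toMul a : T) : M)) hz
  -- the involution outside `T`
  have hs : x ^ 2 * τ⁻¹ * (x ^ 2 * τ⁻¹) = 1 := by
    have e : x ^ 2 * τ⁻¹ * (x ^ 2)⁻¹ = (x ^ 4)⁻¹ * τ := by rw [hz']; group
    calc x ^ 2 * τ⁻¹ * (x ^ 2 * τ⁻¹) = x ^ 2 * τ⁻¹ * (x ^ 2)⁻¹ * x ^ 4 * τ⁻¹ := by group
      _ = (x ^ 4)⁻¹ * (τ * x ^ 4) * τ⁻¹ := by rw [e]; simp only [mul_assoc]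
      _ = 1 := by rw [hab τ hτT _ hx4]; group
  have := mul_mem (hVT ((h.mem_iff _).2 hs)) hτT
  rw [inv_mul_cancel_right] at this
  exact hx2T this

end CfsgLib.InvolNormal
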