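import Cfsg.Agent.Lib.InvolNormal.NACount
import Cfsg.Agent.Lib.InvolNormal.NAFinal

/-!
# The seven point case with `T` nonabelian does not occur
-/

set_option autoImplicit false

namespace CfsgLib.InvolNormal

open SevenNA

universe u

theorem no_seven_nonabelian {M : Type u} [Group M] [Finite M] (V T : Subgroup M) (h : InvV M V)
    (hV : Nat.card V = 8) [T.Normal] (hT2 : IsPGroup 2 T) (hVT : V ≤ T)
    (hcent : ∀ g : M, (∀ v ∈ V, g * v = v * g) ↔ g ∈ T) (hidx : T.index = 168)
    (hna : ∃ a ∈ T, ∃ b ∈ T, a * b ≠ b * a) : False := by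
  have D : NA V T := na_of h hV hT2 hVT hcent hidx hna
  haveI := vt_normal D
  have hc := card_W D hna
  refine no_na D hna hc fun v hv hv1 => ?_
  exact exists_section_point D (W_ne D hna) (hc.imp id And.left) hv hv1

end CfsgLib.InvolNormal
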