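import Cfsg.Agent.Lib.InvolNormal.Descent
import Cfsg.Agent.Lib.InvolNormal.Seven
import Cfsg.Agent.Lib.InvolNormal.SevenAbelian
import Cfsg.Agent.Lib.InvolNormal.SevenNonabelian

/-!
# No group has exactly seven involutions forming a 2-transitive normal subgroup
-/

set_option autoImplicit false

namespace CfsgLib.InvolNormal

universe u

theorem noSeven : NoSeven.{u} := fun _ _ _ _ h hV h2 =>
  no_seven_of
    (fun M _ _ V T h hV hT hT2 hVT hcent hidx hperf hab =>
      no_seven_abelian V T h hV hT2 hVT hcent hidx hperf hab)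
    (fun M _ _ V T h hV hT hT2 hVT hcent hidx hperf hna =>
      no_seven_nonabelian V T h hV hT2 hVT hcent hidx hna)
    h hV h2

end CfsgLib.InvolNormal
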