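import Cfsg.Agent.Lib.InvolNormal.Defs
import Cfsg.Agent.Lib.InvolNormal.FreeLemma
import Cfsg.Agent.Lib.FgsB.OddInverted

/-!
# The rigid case

`InvV G V`, conjugation transitive on ordered pairs of non-identity elements of `V`, and every
element of odd prime power order fixing two of them centralises `V`. Then `|V| = 8`.
-/

set_option autoImplicit false

namespace CfsgLib.InvolNormal

open Subgroup

universe u

variable {G : Type u} [Group G] [Finite G] {V : Subgroup G}

/-- Every element of odd prime power order fixing two elements of `V` centralises `V`. -/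
def Rigid (G : Type u) [Group G] (V : Subgroup G) : Prop :=
  ∀ a ∈ V, ∀ b ∈ V, a ≠ 1 → b ≠ 1 → a ≠ b → ∀ r : ℕ, r.Prime → r ≠ 2 → ∀ w : G,
    (∃ k, orderOf w = r ^ k) → w * a = a * w → w * b = b * w →
    w ∈ centralizer (V : Set G)

theorem centralizer_normal (h : InvV G V) : (centralizer (V : Set G)).Normal := by
  refine ⟨fun k hk g => mem_centralizer_iff.2 fun v hv => ?_⟩
  have h1 := mem_centralizer_iff.1 hk _ (by simpa using h.conj_mem hv g⁻¹)
  calc v * (g * k * g⁻¹) = g * ((g⁻¹ * v * g) * k) * g⁻¹ := by group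
    _ = g * (k * (g⁻¹ * v * g)) * g⁻¹ := by rw [h1]
    _ = g * k * g⁻¹ * v := by group

/-- An element normalising a subgroup of odd order meeting no fixed point has odd order. -/
theorem odd_of_normalizer (h : InvV G V) {R : Subgroup G} (hR : Odd (Nat.card R))
    (hfix : ∀ v ∈ V, (∀ x ∈ R, x * v = v * x) → v = 1) {n : G}
    (hn : n ∈ normalizer (R : Set G)) : Odd (orderOf n) := by
  by_contra hodd
  rw [Nat.not_odd_iff_even] at hodd
  obtain ⟨m, hm⟩ := hodd.two_dvd
  have hpos := orderOf_pos n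
  have hv : orderOf (n ^ m) = 2 := by
    rw [orderOf_pow_of_dvd (by omega) ⟨2, by rw [hm, mul_comm]⟩, hm,
      Nat.mul_div_cancel _ (by omega)]
  have hvV := h.mem_of_orderOf hv
  have hvN : n ^ m ∈ normalizer (R : Set G) := pow_mem hn m
  refine absurd (hfix _ hvV fun x hx => ?_) fun e => by rw [e, orderOf_one] at hv; omega
  have h1 : x * n ^ m * x⁻¹ * (n ^ m)⁻¹ ∈ V := mul_mem (h.conj_mem hvV x) (inv_mem hvV)
  have h2 : x * n ^ m * x⁻¹ * (n ^ m)⁻¹ ∈ R := by
    rw [mul_assoc, mul_assoc, ← mul_assoc (n ^ m)]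
    exact mul_mem hx ((mem_normalizer_iff.1 hvN _).1 (inv_mem hx))
  set c : G := x * n ^ m * x⁻¹ * (n ^ m)⁻¹ with hc
  have h3 : c = 1 := by
    have ho : orderOf c ∣ Nat.card R := by
      rw [← Subgroup.orderOf_mk _ h2]
      exact orderOf_dvd_natCard _
    have ho2 : orderOf c ∣ 2 :=
      orderOf_dvd_of_pow_eq_one (by rw [pow_two]; exact h.mul_self h1)
    exact orderOf_eq_one_iff.1 (Nat.dvd_one.1
      (((Nat.coprime_two_left.2 hR).gcd_eq_one) ▸ Nat.dvd_gcd ho2 ho))
  rwa [hc, mul_inv_eq_one, mul_inv_eq_iff_eq_mul] at h3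

section

variable {x w : G} {r : ℕ}

/-- An element with the same action of prime power order. -/
theorem exists_primePow_lift {K : Subgroup G} [K.Normal] (hr : r.Prime)
    (hw : orderOf (QuotientGroup.mk' K w) = r) :
    ∃ w' : G, (∃ k, orderOf w' = r ^ k) ∧ w' ∈ zpowers w ∧
      zpowers (QuotientGroup.mk' K w') = zpowers (QuotientGroup.mk' K w) := by
  obtain ⟨k, s, hs, hsk⟩ := Nat.exists_eq_pow_mul_and_not_dvd (orderOf_pos w).ne' r hr.ne_one
  refine ⟨w ^ s, ⟨k, ?_⟩, pow_mem (mem_zpowers w) s, ?_⟩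
  · have hs0 : s ≠ 0 := fun e => hs (by rw [e]; exact dvd_zero r)
    rw [orderOf_pow' w hs0, hsk, Nat.gcd_eq_right (dvd_mul_left s _),
      Nat.mul_div_cancel _ (Nat.pos_of_ne_zero hs0)]
  · rw [map_pow]
    refine le_antisymm (zpowers_le.2 (pow_mem (mem_zpowers _) s)) (zpowers_le.2 ?_)
    have hcop : Nat.Coprime s (orderOf (QuotientGroup.mk' K w)) := by
      rw [hw]
      exact ((hr.coprime_iff_not_dvd).2 hs).symm
    obtain ⟨m, hm⟩ := exists_pow_eq_self_of_coprime hcop
    exact ⟨m, by simpa [← pow_mul] using hm⟩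

/-- No element inverted modulo the centraliser acts without fixed points. -/
theorem exists_fixed_of_inverted (h : InvV G V) [(centralizer (V : Set G)).Normal]
    (hr : r.Prime) (hr2 : r ≠ 2)
    (hw : orderOf (QuotientGroup.mk' (centralizer (V : Set G)) w) = r)
    (hinv : QuotientGroup.mk' (centralizer (V : Set G)) (x * w * x⁻¹) =
      (QuotientGroup.mk' (centralizer (V : Set G)) w)⁻¹)
    (hx : x ∉ centralizer (V : Set G)) (hx2 : x * x ∈ centralizer (V : Set G)) :
    ∃ v ∈ V, v ≠ 1 ∧ w * v = v * w := by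
  classical
  haveI := Fact.mk hr
  set K := centralizer (V : Set G) with hK
  set π := QuotientGroup.mk' K with hπ
  by_contra hcon
  push Not at hcon
  set H := (zpowers (π w)).comap π with hH
  have hwH : w ∈ H := mem_comap.2 (mem_zpowers _)
  have hKH : K ≤ H := fun k hk => mem_comap.2 (by
    rw [show π k = 1 from (QuotientGroup.eq_one_iff k).2 hk]; exact one_mem _)
  have hxH : ∀ y ∈ H, x * y * x⁻¹ ∈ H := by
    intro y hy
    obtain ⟨i, hi⟩ := mem_comap.1 hy
    refine mem_comap.2 ⟨-i, ?_⟩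
    simp only at hi ⊢
    rw [map_mul, map_mul, map_inv, ← hi, ← conj_zpow, ← map_inv, ← map_mul, ← map_mul, hinv,
      inv_zpow']
  obtain ⟨w', ⟨k, hk⟩, hw'w, hgen⟩ := exists_primePow_lift (w := w) (K := K) hr hw
  have hw'H : w' ∈ H := zpowers_le.2 hwH hw'w
  obtain ⟨R, hR⟩ := (IsPGroup.of_card (p := r) (n := k)
    (G := zpowers (⟨w', hw'H⟩ : H)) (by rw [Nat.card_zpowers, Subgroup.orderOf_mk, hk])).exists_le_sylow
  set R' : Subgroup G := (R : Subgroup H).map H.subtype with hR'
  have hw'R : w' ∈ R' := ⟨⟨w', hw'H⟩, hR (mem_zpowers _), rfl⟩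
  have hR'odd : Odd (Nat.card R') := by
    obtain ⟨n, hn⟩ := IsPGroup.iff_card.1 R.isPGroup'
    rw [Subgroup.card_map_of_injective H.subtype_injective, hn]
    exact (hr.odd_of_ne_two hr2).pow
  have hfix : ∀ v ∈ V, (∀ y ∈ R', y * v = v * y) → v = 1 := by
    intro v hv hyv
    by_contra hv1
    refine hcon v hv hv1 ?_
    have h1 : π w ∈ zpowers (π w') := hgen ▸ mem_zpowers _
    obtain ⟨i, hi⟩ := h1
    have h2 : (w' ^ i)⁻¹ * w ∈ K := by
      refine (QuotientGroup.eq).1 ?_
      simpa [hπ] using hi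
    have h3 : Commute (w' ^ i) v := (show Commute w' v from hyv w' hw'R).zpow_left i
    have h4 : v * ((w' ^ i)⁻¹ * w) = (w' ^ i)⁻¹ * w * v := mem_centralizer_iff.1 h2 v hv
    calc w * v = w' ^ i * ((w' ^ i)⁻¹ * w * v) := by group
      _ = w' ^ i * v * ((w' ^ i)⁻¹ * w) := by rw [← h4, mul_assoc]
      _ = v * w := by rw [h3.eq]; group
  -- the Frattini argument
  let φ : H ≃* H :=
    { toFun := fun y => ⟨x * y * x⁻¹, hxH y y.2⟩
      invFun := fun y => ⟨x⁻¹ * y * x, by
        have hm : H ≤ H.comap (MulAut.conj x).toMonoidHom := fun z hz => hxH z hz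
        have heq : H = H.comap (MulAut.conj x).toMonoidHom := by
          refine Subgroup.eq_of_le_of_card_ge hm (le_of_eq ?_)
          exact Nat.card_congr ((MulAut.conj x).toEquiv.subtypeEquiv fun a => Iff.rfl)
        have h1 : x⁻¹ * (y : G) * x ∈ H.comap (MulAut.conj x).toMonoidHom := by
          rw [mem_comap]
          show x * (x⁻¹ * y * x) * x⁻¹ ∈ H
          rw [show x * (x⁻¹ * (y : G) * x) * x⁻¹ = y by group]
          exact y.2
        rwa [← heq] at h1⟩
      left_inv := fun y => Subtype.ext (by show x⁻¹ * (x * (y : G) * x⁻¹) * x = y; group)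
      right_inv := fun y => Subtype.ext (by show x * (x⁻¹ * (y : G) * x) * x⁻¹ = y; group)
      map_mul' := fun a b => Subtype.ext (by
        show x * ((a : G) * b) * x⁻¹ = x * a * x⁻¹ * (x * b * x⁻¹); group) }
  have hp : IsPGroup r ((R : Subgroup H).map φ.toMonoidHom) := R.isPGroup'.map _
  let R2 : Sylow r H := Sylow.ofCard ((R : Subgroup H).map φ.toMonoidHom) (by
    rw [Subgroup.card_map_of_injective φ.injective]; exact R.card_eq_multiplicity)
  obtain ⟨⟨g, hgH⟩, hg⟩ := MulAction.exists_smul_eq H R2 R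
  have hn : g * x ∈ normalizer (R' : Set G) := by
    have hset : R'.map (MulAut.conj (g * x)).toMonoidHom = R' := by
      have h1 := congrArg (fun S : Sylow r H => (S : Subgroup H).map H.subtype) hg
      simp only [Sylow.coe_subgroup_smul] at h1
      rw [hR']
      conv_rhs => rw [← h1]
      apply SetLike.coe_injective
      simp only [Subgroup.coe_map, Subgroup.coe_pointwise_smul]
      rw [show ((R2 : Subgroup H) : Set H) = φ '' ((R : Subgroup H) : Set H) from rfl,
        ← Set.image_smul, Set.image_image, Set.image_image, Set.image_image]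
      refine Set.image_congr fun y _ => ?_
      simp [φ, MulAut.smul_def, mul_assoc]
    exact mem_normalizer_iff_map_conj_eq.2 hset
  have hodd := odd_of_normalizer h hR'odd hfix hn
  obtain ⟨i, hi⟩ := mem_comap.1 hgH
  simp only at hi
  have hne : π (g * x) ≠ 1 := by
    intro e
    have e' : g * x ∈ H := hKH ((QuotientGroup.eq_one_iff _).1 e)
    have hxin : x ∈ H := by simpa using mul_mem (inv_mem hgH) e'
    obtain ⟨j, hj⟩ := mem_comap.1 hxin
    simp only at hj
    have ho : orderOf (π x) ∣ r := by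
      rw [← hj, ← hw]; exact orderOf_dvd_of_mem_zpowers ⟨j, rfl⟩
    have ho2 : orderOf (π x) ∣ 2 := orderOf_dvd_of_pow_eq_one (by
      rw [pow_two, ← map_mul]; exact (QuotientGroup.eq_one_iff _).2 hx2)
    have : π x = 1 := orderOf_eq_one_iff.1 (Nat.dvd_one.1
      (((Nat.coprime_primes Nat.prime_two hr).2 hr2.symm).gcd_eq_one ▸ Nat.dvd_gcd ho2 ho))
    exact hx ((QuotientGroup.eq_one_iff _).1 this)
  have hsq : π (g * x) ^ 2 = 1 := by
    have h1 : π x * π x = 1 := by rw [← map_mul]; exact (QuotientGroup.eq_one_iff _).2 hx2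
    have h2 : π x * π w * (π x)⁻¹ = (π w)⁻¹ := by
      rw [← map_inv, ← map_mul, ← map_mul]; exact hinv
    have h4 : π x * (π w ^ i) * (π x)⁻¹ = (π w ^ i)⁻¹ := by rw [← conj_zpow, h2, inv_zpow]
    have h5 : (π x)⁻¹ = π x := inv_eq_of_mul_eq_one_right h1
    rw [h5] at h4
    rw [map_mul, ← hi, pow_two]
    calc π w ^ i * π x * (π w ^ i * π x) = π w ^ i * (π x * π w ^ i * π x) := by group
      _ = 1 := by rw [h4, mul_inv_cancel]
  have hdvd : orderOf (π (g * x)) ∣ orderOf (g * x) := orderOf_map_dvd π _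
  rw [orderOf_eq_prime hsq hne] at hdvd
  exact (Nat.not_even_iff_odd.2 hodd) (even_iff_two_dvd.2 hdvd)

end

end CfsgLib.InvolNormal
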